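import Mathlib

/-!
# The closure of the image of a quasi-compact morphism consists of specializations of image points
-/

set_option autoImplicit false
universe u

namespace Groth.Agent.H4Qc

open AlgebraicGeometry CategoryTheory Limits

/-- Affine case. -/
theorem exists_specializes_of_mem_closure_range_comap {R S : Type*} [CommRing R] [CommRing S]
    (φ : R →+* S) (p : PrimeSpectrum R)
    (hp : p ∈ closure (Set.range (PrimeSpectrum.comap φ))) :
    ∃ q : PrimeSpectrum S, PrimeSpectrum.comap φ q ⤳ p := by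
  rw [PrimeSpectrum.closure_range_comap, PrimeSpectrum.mem_zeroLocus] at hp
  have hle : RingHom.ker φ ≤ p.asIdeal := hp
  obtain ⟨p₀, hp₀, hp₀le⟩ := Ideal.exists_minimalPrimes_le hle
  have hmin : p₀ ∈ ((⊥ : Ideal S).comap φ).minimalPrimes := by
    rw [← RingHom.ker_eq_comap_bot]
    exact hp₀
  obtain ⟨q, hq, -, hqc⟩ := Ideal.exists_comap_eq_of_mem_minimalPrimes φ p₀ hmin
  refine ⟨⟨q, hq⟩, ?_⟩
  rw [← PrimeSpectrum.le_iff_specializes]
  change (q.comap φ) ≤ p.asIdeal
  rw [hqc]
  exact hp₀le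

/-- Every point in the closure of the range of a quasi-compact morphism is a specialization of a
point of the range. -/
theorem exists_specializes_of_mem_closure_range {U X : Scheme.{u}} (h : U ⟶ X) [QuasiCompact h]
    (x : X) (hx : x ∈ closure (Set.range h.base)) : ∃ u : U, h.base u ⤳ x := by
  obtain ⟨V, hV, hxV, -⟩ := exists_isAffineOpen_mem_and_subset (x := x) (U := ⊤) trivial
  have hc : IsCompact ((h ⁻¹ᵁ V : U.Opens) : Set U) := h.isCompact_preimage hV.isCompact
  obtain ⟨R', g, hg⟩ := isCompact_iff_exists.1 hc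
  have hrange : Set.range (g ≫ h).base ⊆ Set.range hV.fromSpec.base := by
    rintro _ ⟨r, rfl⟩
    rw [hV.range_fromSpec]
    have : g.base r ∈ ((h ⁻¹ᵁ V : U.Opens) : Set U) := by
      rw [← hg]
      exact ⟨r, rfl⟩
    exact this
  let ψ : Spec R' ⟶ Spec Γ(X, V) := IsOpenImmersion.lift hV.fromSpec (g ≫ h) hrange
  have hψ : ψ ≫ hV.fromSpec = g ≫ h := IsOpenImmersion.lift_fac _ _ _
  obtain ⟨p, hp⟩ : x ∈ Set.range hV.fromSpec.base := by
    rw [hV.range_fromSpec]
    exact hxV
  obtain ⟨φ, hφ⟩ : ∃ φ : Γ(X, V) ⟶ R', Spec.map φ = ψ := ⟨Spec.preimage ψ, Spec.map_preimage ψ⟩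
  have hpcl' : p ∈ closure (Set.range ψ.base) := by
    rw [mem_closure_iff]
    intro O hO hpO
    have hOX : IsOpen (hV.fromSpec.base '' O) := hV.fromSpec.isOpenEmbedding.isOpenMap O hO
    have hxO : x ∈ hV.fromSpec.base '' O := ⟨p, hpO, hp⟩
    obtain ⟨_, hyO, ⟨u, rfl⟩⟩ := mem_closure_iff.1 hx _ hOX hxO
    obtain ⟨o, hoO, ho⟩ := hyO
    have huV : u ∈ ((h ⁻¹ᵁ V : U.Opens) : Set U) := by
      change h.base u ∈ V
      rw [← ho]
      have : hV.fromSpec.base o ∈ Set.range hV.fromSpec.base := ⟨o, rfl⟩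
      rw [hV.range_fromSpec] at this
      exact this
    rw [← hg] at huV
    obtain ⟨r, rfl⟩ := huV
    refine ⟨ψ.base r, ?_, ⟨r, rfl⟩⟩
    have h1 : hV.fromSpec.base (ψ.base r) = h.base (g.base r) := by
      have := congrArg (fun m => m.base r) hψ
      simpa using this
    have h2 : ψ.base r = o := hV.fromSpec.isOpenEmbedding.injective (h1.trans ho.symm)
    rw [h2]
    exact hoO
  have hpcl : (show PrimeSpectrum Γ(X, V) from p) ∈
      closure (Set.range (PrimeSpectrum.comap φ.hom)) := by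
    rw [← hφ] at hpcl'
    exact hpcl'
  obtain ⟨q, hq⟩ := exists_specializes_of_mem_closure_range_comap φ.hom _ hpcl
  refine ⟨g.base q, ?_⟩
  have h1 : hV.fromSpec.base (ψ.base q) = h.base (g.base q) := by
    have := congrArg (fun m => m.base q) hψ
    simpa using this
  rw [← h1, ← hp]
  have h3 : ψ.base q ⤳ p := by
    rw [← hφ]
    exact hq
  exact h3.map hV.fromSpec.continuous

end Groth.Agent.H4Qc
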