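import Mathlib

/-!
# Eilenberg–Watts for `A`-linear endofunctors of `ModuleCat A`
-/

set_option autoImplicit false
set_option linter.unusedSectionVars false
universe u v w

namespace Groth.Agent.H4EW

open CategoryTheory Limits MonoidalCategory TensorProduct

section General

variable {J : Type*} [Category J] {C : Type*} [Category C] {D : Type*} [Category D]

/-- A natural transformation between two functors preserving a colimit, which is an isomorphism on
the objects of the diagram, is an isomorphism on the colimit point. -/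
theorem isIso_app_of_isColimit {F G : C ⥤ D} (α : F ⟶ G) {K : J ⥤ C} (c : Cocone K)
    (hc : IsColimit c) [PreservesColimit K F] [PreservesColimit K G]
    (h : ∀ j, IsIso (α.app (K.obj j))) : IsIso (α.app c.pt) := by
  have hF := isColimitOfPreserves F hc
  have hG := isColimitOfPreserves G hc
  have : ∀ j, IsIso ((Functor.whiskerLeft K α).app j) := fun j => h j
  have : IsIso (Functor.whiskerLeft K α) := NatIso.isIso_of_isIso_app _
  let e := IsColimit.coconePointsIsoOfNatIso hF hG (asIso (Functor.whiskerLeft K α))
  have he : e.hom = α.app c.pt := by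
    apply hF.hom_ext
    intro j
    rw [IsColimit.comp_coconePointsIsoOfNatIso_hom]
    simp
  rw [← he]
  infer_instance

end General

variable {A : Type u} [CommRing A] (T : ModuleCat.{u} A ⥤ ModuleCat.{u} A) [T.Additive] [T.Linear A]

/-- The canonical map `t_M : T(A) ⊗ M → T(M)`. -/
noncomputable def tLin (M : ModuleCat.{u} A) :
    TensorProduct A (T.obj (ModuleCat.of A A)) M →ₗ[A] T.obj M :=
  TensorProduct.lift (LinearMap.flip
    ((ModuleCat.homLinearEquiv (S := A)).toLinearMap ∘ₗ Functor.mapLinearMap A T ∘ₗ
      (ModuleCat.homLinearEquiv (S := A)).symm.toLinearMap ∘ₗ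
        (LinearMap.ringLmapEquivSelf A A M).symm.toLinearMap))

/-- `θ_x : A → M`, `a ↦ a • x`. -/
noncomputable def θ (M : ModuleCat.{u} A) (x : M) : ModuleCat.of A A ⟶ M :=
  ModuleCat.ofHom (LinearMap.toSpanSingleton A M x)

theorem tLin_tmul (M : ModuleCat.{u} A) (y : T.obj (ModuleCat.of A A)) (x : M) :
    tLin T M (y ⊗ₜ x) = (T.map (θ M x)).hom y := by
  simp only [tLin, TensorProduct.lift.tmul, LinearMap.flip_apply, LinearMap.coe_comp,
    LinearEquiv.coe_coe, Function.comp_apply]
  rfl


theorem θ_comp {M N : ModuleCat.{u} A} (g : M ⟶ N) (x : M) : θ M x ≫ g = θ N (g.hom x) := by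
  ext
  simp [θ]

theorem tLin_naturality {M N : ModuleCat.{u} A} (g : M ⟶ N) :
    (T.map g).hom ∘ₗ tLin T M = tLin T N ∘ₗ (g.hom.lTensor _) := by
  ext y x
  simp only [AlgebraTensorModule.curry_apply, curry_apply, LinearMap.coe_restrictScalars,
    LinearMap.coe_comp, Function.comp_apply, LinearMap.lTensor_tmul, tLin_tmul]
  rw [← θ_comp, T.map_comp]
  rfl

/-- The natural transformation `T(A) ⊗ - ⟶ T`. -/
noncomputable def tNat : tensorLeft (T.obj (ModuleCat.of A A)) ⟶ T where
  app M := ModuleCat.ofHom (tLin T M)
  naturality {M N} g := by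
    ext : 1
    simp only [curriedTensor_obj_map, ModuleCat.hom_comp, ModuleCat.hom_ofHom,
      ModuleCat.hom_whiskerLeft]
    exact (tLin_naturality T g).symm

theorem tNat_app_hom (M : ModuleCat.{u} A) : ((tNat T).app M).hom = tLin T M := rfl

theorem isIso_tNat_app_iff (M : ModuleCat.{u} A) :
    IsIso ((tNat T).app M) ↔ Function.Bijective (tLin T M) := by
  rw [ConcreteCategory.isIso_iff_bijective]
  rfl

theorem θ_unit (a : A) : θ (ModuleCat.of A A) a = a • 𝟙 (ModuleCat.of A A) := by
  ext
  simp [θ]

theorem tLin_unit_eq : tLin T (ModuleCat.of A A) = (TensorProduct.rid A _).toLinearMap := by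
  ext y
  simp only [AlgebraTensorModule.curry_apply, curry_apply, LinearMap.coe_restrictScalars,
    LinearEquiv.coe_coe, rid_tmul, one_smul]
  rw [tLin_tmul, θ_unit, Functor.map_smul, CategoryTheory.Functor.map_id]
  simp

theorem tLin_unit_bijective : Function.Bijective (tLin T (ModuleCat.of A A)) := by
  rw [tLin_unit_eq]
  exact (TensorProduct.rid A _).bijective

instance isIso_tNat_unit : IsIso ((tNat T).app (ModuleCat.of A A)) :=
  (isIso_tNat_app_iff T _).2 (tLin_unit_bijective T)


section Free

variable [∀ J : Type u, PreservesColimitsOfShape (Discrete J) T]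

instance isIso_tNat_finsupp (J : Type u) :
    IsIso ((tNat T).app (ModuleCat.of A (J →₀ A))) := by
  have := isIso_app_of_isColimit (tNat T) (ModuleCat.finsuppCocone A A J)
    (ModuleCat.finsuppCoconeIsColimit A A J) (fun _ => isIso_tNat_unit T)
  exact this

theorem isIso_tNat_of_free (L : ModuleCat.{u} A) [Module.Free A L] : IsIso ((tNat T).app L) := by
  let b := Module.Free.chooseBasis A L
  let e : L ≅ ModuleCat.of A (Module.Free.ChooseBasisIndex A L →₀ A) := b.repr.toModuleIso
  rw [NatTrans.isIso_app_iff_of_iso _ e]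
  infer_instance

theorem tLin_bijective_of_free (L : ModuleCat.{u} A) [Module.Free A L] :
    Function.Bijective (tLin T L) :=
  (isIso_tNat_app_iff T L).1 (isIso_tNat_of_free T L)

end Free

section Presentation

/-- A free presentation `F₁ → F₀ → M → 0` of a module. -/
theorem exists_free_presentation (M : ModuleCat.{u} A) :
    ∃ (J₁ J₀ : Type u) (S : ShortComplex (ModuleCat.{u} A)), S.X₁ = ModuleCat.of A (J₁ →₀ A) ∧
      S.X₂ = ModuleCat.of A (J₀ →₀ A) ∧ S.X₃ = M ∧ S.Exact ∧ Epi S.g := by
  let g₀ : (M →₀ A) →ₗ[A] M := Finsupp.linearCombination A id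
  have hg₀ : Function.Surjective g₀ := Finsupp.linearCombination_surjective A Function.surjective_id
  let K := LinearMap.ker g₀
  let f₀ : (K →₀ A) →ₗ[A] (M →₀ A) := K.subtype ∘ₗ Finsupp.linearCombination A id
  have hf₀ : LinearMap.range f₀ = K := by
    rw [LinearMap.range_comp, LinearMap.range_eq_top.2
      (Finsupp.linearCombination_surjective A Function.surjective_id), Submodule.map_top,
      Submodule.range_subtype]
  have hzero : g₀ ∘ₗ f₀ = 0 := by
    ext x
    simp [f₀, g₀, K]
  refine ⟨K, M, ShortComplex.mk (ModuleCat.ofHom f₀) (ModuleCat.ofHom g₀) (by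
    rw [← ModuleCat.ofHom_comp, hzero]; rfl), rfl, rfl, rfl, ?_, ?_⟩
  · rw [ShortComplex.ShortExact.moduleCat_exact_iff_function_exact]
    intro x
    simp only [ModuleCat.hom_ofHom]
    change _ ↔ x ∈ LinearMap.range f₀
    rw [hf₀]
    rfl
  · rw [ModuleCat.epi_iff_surjective]
    exact hg₀

end Presentation

section RightExact

variable [∀ J : Type u, PreservesColimitsOfShape (Discrete J) T]

theorem isIso_tNat_app_of_preservesFiniteColimits [PreservesFiniteColimits T] (M : ModuleCat.{u} A) :
    IsIso ((tNat T).app M) := by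
  obtain ⟨J₁, J₀, S, h₁, h₂, rfl, hS, hepi⟩ := exists_free_presentation M
  have := isIso_app_of_isColimit (tNat T) (CokernelCofork.ofπ S.g S.zero) hS.gIsCokernel (by
    rintro (_ | _)
    · change IsIso ((tNat T).app S.X₁)
      rw [h₁]; infer_instance
    · change IsIso ((tNat T).app S.X₂)
      rw [h₂]; infer_instance)
  exact this

theorem isIso_tNat_of_preservesFiniteColimits [PreservesFiniteColimits T] : IsIso (tNat T) := by
  have := isIso_tNat_app_of_preservesFiniteColimits T
  exact NatIso.isIso_of_isIso_app _

theorem preservesFiniteColimits_of_isIso_tNat (h : IsIso (tNat T)) : PreservesFiniteColimits T :=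
  preservesFiniteColimits_of_natIso (asIso (tNat T))

theorem preservesFiniteColimits_iff_isIso_tNat : PreservesFiniteColimits T ↔ IsIso (tNat T) :=
  ⟨fun _ => isIso_tNat_of_preservesFiniteColimits T, preservesFiniteColimits_of_isIso_tNat T⟩

theorem preservesFiniteColimits_iff_forall_bijective :
    PreservesFiniteColimits T ↔ ∀ M : ModuleCat.{u} A, Function.Bijective (tLin T M) := by
  rw [preservesFiniteColimits_iff_isIso_tNat, NatTrans.isIso_iff_isIso_app]
  exact forall_congr' fun M => isIso_tNat_app_iff T M

theorem preservesFiniteColimits_iff_exists_iso_tensorLeft :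
    PreservesFiniteColimits T ↔ ∃ N : ModuleCat.{u} A, Nonempty (T ≅ tensorLeft N) := by
  constructor
  · intro h
    have := isIso_tNat_of_preservesFiniteColimits T
    exact ⟨_, ⟨(asIso (tNat T)).symm⟩⟩
  · rintro ⟨N, ⟨e⟩⟩
    exact preservesFiniteColimits_of_natIso e.symm


theorem epi_map_of_tLin_surjective {M N : ModuleCat.{u} A} (g : M ⟶ N) [Epi g]
    (h : Function.Surjective (tLin T N)) : Epi (T.map g) := by
  rw [ModuleCat.epi_iff_surjective]
  have hg : Function.Surjective g.hom := (ModuleCat.epi_iff_surjective g).1 inferInstance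
  intro z
  obtain ⟨w, rfl⟩ := h z
  obtain ⟨w', rfl⟩ := LinearMap.lTensor_surjective (T.obj (ModuleCat.of A A)) hg w
  refine ⟨tLin T M w', ?_⟩
  have := congrArg (fun l => l w') (tLin_naturality T g)
  simpa using this

theorem preservesFiniteColimits_iff_halfExact_and_surjective :
    PreservesFiniteColimits T ↔
      (∀ S : ShortComplex (ModuleCat.{u} A), S.ShortExact → (S.map T).Exact) ∧
        ∀ M : ModuleCat.{u} A, Function.Surjective (tLin T M) := by
  constructor
  · intro h
    refine ⟨fun S hS => ?_, fun M => ?_⟩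
    · exact ((Functor.preservesFiniteColimits_iff_forall_exact_map_and_epi T).1 h S hS).1
    · exact ((preservesFiniteColimits_iff_forall_bijective T).1 h M).2
  · rintro ⟨h1, h2⟩
    rw [Functor.preservesFiniteColimits_iff_forall_exact_map_and_epi]
    intro S hS
    have := hS.epi_g
    exact ⟨h1 S hS, epi_map_of_tLin_surjective T S.g (h2 _)⟩

end RightExact

end Groth.Agent.H4EW
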