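import Mathlib
import Groth.Prelude.Def_ega3

/-!
# FlatCx, part 1: the long exact sequence of the functors `T_p(M) = H_p(P ⊗ M)`
-/

set_option autoImplicit false
universe u

namespace Groth.Agent.H4FlatCx

open CategoryTheory Limits MonoidalCategory CohIII

variable {A : Type u} [CommRing A] {ι : Type} {c : ComplexShape ι}

@[simp]
theorem tensorMap_f (P : HomologicalComplex (ModuleCat.{u} A) c) {M N : ModuleCat.{u} A}
    (g : M ⟶ N) (i : ι) : (tensorMap P g).f i = (P.X i) ◁ g := rfl

theorem tensorMap_comp (P : HomologicalComplex (ModuleCat.{u} A) c) {M N K : ModuleCat.{u} A}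
    (g : M ⟶ N) (h : N ⟶ K) : tensorMap P (g ≫ h) = tensorMap P g ≫ tensorMap P h := by
  apply HomologicalComplex.hom_ext
  intro i
  exact MonoidalCategory.whiskerLeft_comp _ _ _

theorem tensorMap_zero (P : HomologicalComplex (ModuleCat.{u} A) c) (M N : ModuleCat.{u} A) :
    tensorMap P (0 : M ⟶ N) = 0 := by
  apply HomologicalComplex.hom_ext
  intro i
  exact MonoidalPreadditive.whiskerLeft_zero

theorem tensorMap_id (P : HomologicalComplex (ModuleCat.{u} A) c) (M : ModuleCat.{u} A) :
    tensorMap P (𝟙 M) = 𝟙 _ := by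
  apply HomologicalComplex.hom_ext
  intro i
  exact MonoidalCategory.whiskerLeft_id _ _

/-- The short complex of complexes `P ⊗ S.X₁ ⟶ P ⊗ S.X₂ ⟶ P ⊗ S.X₃`. -/
noncomputable def tensorSC (P : HomologicalComplex (ModuleCat.{u} A) c)
    (S : ShortComplex (ModuleCat.{u} A)) : ShortComplex (HomologicalComplex (ModuleCat.{u} A) c) :=
  ShortComplex.mk (tensorMap P S.f) (tensorMap P S.g) (by
    rw [← tensorMap_comp, S.zero, tensorMap_zero])

theorem whiskerLeft_shortExact (X : ModuleCat.{u} A) [Module.Flat A X]
    (S : ShortComplex (ModuleCat.{u} A)) (hS : S.ShortExact) :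
    (ShortComplex.mk (X ◁ S.f) (X ◁ S.g) (by rw [← MonoidalCategory.whiskerLeft_comp, S.zero,
      MonoidalPreadditive.whiskerLeft_zero])).ShortExact := by
  have hf : Function.Injective S.f.hom := (ModuleCat.mono_iff_injective _).1 hS.mono_f
  have hg : Function.Surjective S.g.hom := (ModuleCat.epi_iff_surjective _).1 hS.epi_g
  have hex : Function.Exact S.f.hom S.g.hom :=
    (ShortComplex.ShortExact.moduleCat_exact_iff_function_exact _).1 hS.exact
  refine { exact := ?_, mono_f := ?_, epi_g := ?_ }
  · rw [ShortComplex.ShortExact.moduleCat_exact_iff_function_exact]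
    simp only [ModuleCat.hom_whiskerLeft]
    exact lTensor_exact X hex hg
  · rw [ModuleCat.mono_iff_injective]
    simp only [ModuleCat.hom_whiskerLeft]
    exact Module.Flat.lTensor_preserves_injective_linearMap _ hf
  · rw [ModuleCat.epi_iff_surjective]
    simp only [ModuleCat.hom_whiskerLeft]
    exact LinearMap.lTensor_surjective X hg

theorem tensorSC_shortExact (P : HomologicalComplex (ModuleCat.{u} A) c)
    (hP : ∀ i, Module.Flat A (P.X i)) (S : ShortComplex (ModuleCat.{u} A)) (hS : S.ShortExact) :
    (tensorSC P S).ShortExact := by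
  apply HomologicalComplex.shortExact_of_degreewise_shortExact
  intro i
  have := hP i
  exact whiskerLeft_shortExact (P.X i) S hS


theorem TFun_map (P : HomologicalComplex (ModuleCat.{u} A) c) (p : ι) {M N : ModuleCat.{u} A}
    (g : M ⟶ N) : (TFun P p).map g = HomologicalComplex.homologyMap (tensorMap P g) p := rfl

section LES

variable (P : HomologicalComplex (ModuleCat.{u} A) c) (hP : ∀ i, Module.Flat A (P.X i))
  (S : ShortComplex (ModuleCat.{u} A)) (hS : S.ShortExact) (i j : ι) (hij : c.Rel i j)

/-- The connecting homomorphism `T_i(S.X₃) ⟶ T_j(S.X₁)`. -/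
noncomputable def δ : (TFun P i).obj S.X₃ ⟶ (TFun P j).obj S.X₁ :=
  (tensorSC_shortExact P hP S hS).δ i j hij

theorem δ_comp : δ P hP S hS i j hij ≫ (TFun P j).map S.f = 0 :=
  (tensorSC_shortExact P hP S hS).δ_comp i j hij

theorem comp_δ : (TFun P i).map S.g ≫ δ P hP S hS i j hij = 0 :=
  (tensorSC_shortExact P hP S hS).comp_δ i j hij

theorem map_comp_map_eq_zero (P : HomologicalComplex (ModuleCat.{u} A) c)
    (S : ShortComplex (ModuleCat.{u} A)) (i : ι) : (TFun P i).map S.f ≫ (TFun P i).map S.g = 0 := by
  rw [← Functor.map_comp, S.zero, TFun_map, tensorMap_zero, HomologicalComplex.homologyMap_zero]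
  rfl

theorem exact₁ : (ShortComplex.mk _ _ (δ_comp P hP S hS i j hij)).Exact :=
  (tensorSC_shortExact P hP S hS).homology_exact₁ i j hij

include hP hS in
theorem exact₂ : (ShortComplex.mk _ _ (map_comp_map_eq_zero P S i)).Exact :=
  (tensorSC_shortExact P hP S hS).homology_exact₂ i

theorem exact₃ : (ShortComplex.mk _ _ (comp_δ P hP S hS i j hij)).Exact :=
  (tensorSC_shortExact P hP S hS).homology_exact₃ i j hij

end LES

/-- `T_i` preserves epimorphisms iff `T_j` preserves monomorphisms, when `c.Rel i j`. -/
theorem preservesEpi_iff_preservesMono (P : HomologicalComplex (ModuleCat.{u} A) c)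
    (hP : ∀ i, Module.Flat A (P.X i)) (i j : ι) (hij : c.Rel i j) :
    (TFun P i).PreservesEpimorphisms ↔ (TFun P j).PreservesMonomorphisms := by
  constructor
  · intro h
    refine ⟨fun {M' M} f hf => ?_⟩
    let S : ShortComplex (ModuleCat.{u} A) := ShortComplex.mk f (cokernel.π f) (cokernel.condition f)
    have hS : S.ShortExact :=
      { exact := ShortComplex.exact_cokernel f
        mono_f := hf
        epi_g := inferInstanceAs (Epi (cokernel.π f)) }
    have hepi : Epi ((TFun P i).map S.g) := h.preserves S.g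
    have hδ : δ P hP S hS i j hij = 0 := by
      rw [← cancel_epi ((TFun P i).map S.g), comp_δ, comp_zero]
    exact (exact₁ P hP S hS i j hij).mono_g hδ
  · intro h
    refine ⟨fun {M M''} g hg => ?_⟩
    let S : ShortComplex (ModuleCat.{u} A) := ShortComplex.mk (kernel.ι g) g (kernel.condition g)
    have hS : S.ShortExact :=
      { exact := ShortComplex.exact_kernel g
        mono_f := inferInstanceAs (Mono (kernel.ι g))
        epi_g := hg }
    have hmono : Mono ((TFun P j).map S.f) := h.preserves S.f
    have hδ : δ P hP S hS i j hij = 0 := by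
      rw [← cancel_mono ((TFun P j).map S.f), δ_comp, zero_comp]
    exact (exact₃ P hP S hS i j hij).epi_f hδ

end Groth.Agent.H4FlatCx
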