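import Mathlib
import Groth.Prelude.Def_ega3
import Groth.Agent.Lib.helper4.FlatCx1

/-!
# FlatCx, part 2: `T_p` is an additive `A`-linear functor
-/

set_option autoImplicit false
universe u

namespace Groth.Agent.H4FlatCx

open CategoryTheory Limits MonoidalCategory CohIII

variable {A : Type u} [CommRing A] {ι : Type} {c : ComplexShape ι}

theorem homologyMap_smul' {K L : HomologicalComplex (ModuleCat.{u} A) c} (a : A) (φ : K ⟶ L) (i : ι) :
    HomologicalComplex.homologyMap (a • φ) i = a • HomologicalComplex.homologyMap φ i := by
  exact ShortComplex.homologyMap_smul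
    ((HomologicalComplex.shortComplexFunctor (ModuleCat.{u} A) c i).map φ) a

theorem tensorMap_add (P : HomologicalComplex (ModuleCat.{u} A) c) {M N : ModuleCat.{u} A}
    (g h : M ⟶ N) : tensorMap P (g + h) = tensorMap P g + tensorMap P h := by
  apply HomologicalComplex.hom_ext
  intro i
  exact MonoidalPreadditive.whiskerLeft_add _ _

theorem tensorMap_smul (P : HomologicalComplex (ModuleCat.{u} A) c) {M N : ModuleCat.{u} A}
    (a : A) (g : M ⟶ N) : tensorMap P (a • g) = a • tensorMap P g := by
  apply HomologicalComplex.hom_ext
  intro i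
  exact MonoidalLinear.whiskerLeft_smul _ _ _

instance TFun_additive (P : HomologicalComplex (ModuleCat.{u} A) c) (p : ι) :
    (TFun P p).Additive where
  map_add {M N} {g h} := by
    rw [TFun_map, TFun_map, TFun_map, tensorMap_add, HomologicalComplex.homologyMap_add]
    rfl

instance TFun_linear (P : HomologicalComplex (ModuleCat.{u} A) c) (p : ι) :
    (TFun P p).Linear A where
  map_smul {M N} g a := by
    rw [TFun_map, TFun_map, tensorMap_smul, homologyMap_smul']
    rfl

/-- multiplication by `a` on a module as a morphism -/
theorem TFun_map_smul_id (P : HomologicalComplex (ModuleCat.{u} A) c) (p : ι) (M : ModuleCat.{u} A)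
    (a : A) : (TFun P p).map (a • 𝟙 M) = a • 𝟙 _ := by
  rw [Functor.map_smul, CategoryTheory.Functor.map_id]

theorem smul_injective_of_preservesMono (P : HomologicalComplex (ModuleCat.{u} A) c) (q : ι)
    (h : (TFun P q).PreservesMonomorphisms) (M : ModuleCat.{u} A) (f : A)
    (hf : Function.Injective (fun x : M => f • x)) :
    Function.Injective (fun y : T P q M => f • y) := by
  have hmono : Mono (f • 𝟙 M) := by
    rw [ModuleCat.mono_iff_injective]
    exact hf
  have h2 : Mono ((TFun P q).map (f • 𝟙 M)) := h.preserves _
  rw [TFun_map_smul_id, ModuleCat.mono_iff_injective] at h2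
  exact h2

end Groth.Agent.H4FlatCx
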