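import Mathlib
import Groth.Prelude.Def_ega3
import Groth.Agent.Lib.helper4.FlatCx2

/-!
# FlatCx, part 3: opcycles commute with right exact functors;
`0 ⟶ H_j(F K) ⟶ F(Z'_j K) ⟶ F(K_k)`.
-/

set_option autoImplicit false
set_option linter.unusedSectionVars false
universe u v v' w w'

namespace Groth.Agent.H4FlatCx

open CategoryTheory Limits

section General

variable {C : Type w} [Category.{v} C] [Abelian C] {D : Type w'} [Category.{v'} D] [Abelian D]
  {ι : Type*} {c : ComplexShape ι}
  (F : C ⥤ D) [F.PreservesZeroMorphisms] [PreservesFiniteColimits F]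
  (K : HomologicalComplex C c) (i j : ι) (hi : c.prev j = i)

/-- `pOpcycles` of `F K`, with domain written `F.obj (K.X j)`. -/
noncomputable def pOpc' : F.obj (K.X j) ⟶ ((F.mapHomologicalComplex c).obj K).opcycles j :=
  ((F.mapHomologicalComplex c).obj K).pOpcycles j

instance : Epi (pOpc' F K j) :=
  inferInstanceAs (Epi (((F.mapHomologicalComplex c).obj K).pOpcycles j))

/-- `fromOpcycles` of `F K`, with codomain written `F.obj (K.X k)`. -/
noncomputable def fromOpc' (k : ι) :
    ((F.mapHomologicalComplex c).obj K).opcycles j ⟶ F.obj (K.X k) :=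
  ((F.mapHomologicalComplex c).obj K).fromOpcycles j k

@[reassoc]
theorem pOpc'_fromOpc' (k : ι) : pOpc' F K j ≫ fromOpc' F K j k = F.map (K.d j k) :=
  ((F.mapHomologicalComplex c).obj K).p_fromOpcycles j k

@[reassoc]
theorem map_d_pOpc' : F.map (K.d i j) ≫ pOpc' F K j = 0 :=
  ((F.mapHomologicalComplex c).obj K).d_pOpcycles i j

@[reassoc]
theorem homologyι_fromOpc' (k : ι) :
    ((F.mapHomologicalComplex c).obj K).homologyι j ≫ fromOpc' F K j k = 0 :=
  ((F.mapHomologicalComplex c).obj K).homologyι_comp_fromOpcycles j k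

/-- `H_j(F K)` is the kernel of `fromOpc'`. -/
noncomputable def homologyIsKernel' (k : ι) (hk : c.next j = k) :
    IsLimit (KernelFork.ofι (((F.mapHomologicalComplex c).obj K).homologyι j)
      (homologyι_fromOpc' F K j k)) :=
  ((F.mapHomologicalComplex c).obj K).homologyIsKernel j k hk

/-- `pOpc'` is a cokernel of `F(d)`. -/
noncomputable def pOpc'IsCokernel :
    IsColimit (CokernelCofork.ofπ (pOpc' F K j) (map_d_pOpc' F K i j)) :=
  ((F.mapHomologicalComplex c).obj K).opcyclesIsCokernel i j hi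

@[reassoc]
theorem pOpc'_opcyclesMap {K L : HomologicalComplex C c} (φ : K ⟶ L) :
    pOpc' F K j ≫ HomologicalComplex.opcyclesMap ((F.mapHomologicalComplex c).map φ) j =
      F.map (φ.f j) ≫ pOpc' F L j :=
  HomologicalComplex.p_opcyclesMap ((F.mapHomologicalComplex c).map φ) j

/-- `F(Z'_j K)` is a cokernel of `F(d)`. -/
noncomputable def mapOpcIsCokernel :
    IsColimit ((CokernelCofork.ofπ (K.pOpcycles j) (K.d_pOpcycles i j)).map F) :=
  CokernelCofork.mapIsColimit _ (K.opcyclesIsCokernel i j hi) F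

/-- The isomorphism `Z'_j(F K) ≅ F (Z'_j K)`. -/
noncomputable def mapOpcIso : ((F.mapHomologicalComplex c).obj K).opcycles j ≅ F.obj (K.opcycles j) :=
  IsColimit.coconePointUniqueUpToIso (pOpc'IsCokernel F K i j hi) (mapOpcIsCokernel F K i j hi)

@[reassoc]
theorem pOpc'_mapOpcIso_hom :
    pOpc' F K j ≫ (mapOpcIso F K i j hi).hom = F.map (K.pOpcycles j) :=
  IsColimit.comp_coconePointUniqueUpToIso_hom (pOpc'IsCokernel F K i j hi)
    (mapOpcIsCokernel F K i j hi) WalkingParallelPair.one

@[reassoc]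
theorem mapOpcIso_hom_fromOpcycles (k : ι) :
    (mapOpcIso F K i j hi).hom ≫ F.map (K.fromOpcycles j k) = fromOpc' F K j k := by
  rw [← cancel_epi (pOpc' F K j), pOpc'_mapOpcIso_hom_assoc, pOpc'_fromOpc', ← F.map_comp,
    K.p_fromOpcycles]

@[reassoc]
theorem mapOpcIso_naturality {K L : HomologicalComplex C c} (φ : K ⟶ L) :
    HomologicalComplex.opcyclesMap ((F.mapHomologicalComplex c).map φ) j ≫
        (mapOpcIso F L i j hi).hom =
      (mapOpcIso F K i j hi).hom ≫ F.map (HomologicalComplex.opcyclesMap φ j) := by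
  rw [← cancel_epi (pOpc' F K j), pOpc'_opcyclesMap_assoc, pOpc'_mapOpcIso_hom,
    pOpc'_mapOpcIso_hom_assoc, ← F.map_comp, ← F.map_comp, HomologicalComplex.p_opcyclesMap]

/-- `H_j(F K) ⟶ F(Z'_j K)`, a monomorphism. -/
noncomputable def ιH : ((F.mapHomologicalComplex c).obj K).homology j ⟶ F.obj (K.opcycles j) :=
  ((F.mapHomologicalComplex c).obj K).homologyι j ≫ (mapOpcIso F K i j hi).hom

instance ιH_mono : Mono (ιH F K i j hi) := by
  unfold ιH
  infer_instance

@[reassoc]
theorem ιH_comp (k : ι) : ιH F K i j hi ≫ F.map (K.fromOpcycles j k) = 0 := by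
  unfold ιH
  rw [Category.assoc, mapOpcIso_hom_fromOpcycles, homologyι_fromOpc']

@[reassoc]
theorem ιH_naturality {K L : HomologicalComplex C c} (φ : K ⟶ L) :
    HomologicalComplex.homologyMap ((F.mapHomologicalComplex c).map φ) j ≫ ιH F L i j hi =
      ιH F K i j hi ≫ F.map (HomologicalComplex.opcyclesMap φ j) := by
  unfold ιH
  rw [HomologicalComplex.homologyι_naturality_assoc, mapOpcIso_naturality, Category.assoc]

theorem exists_lift_ιH (k : ι) (hk : c.next j = k) {Z : D}
    (x : Z ⟶ F.obj (K.opcycles j)) (hx : x ≫ F.map (K.fromOpcycles j k) = 0) :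
    ∃ y : Z ⟶ ((F.mapHomologicalComplex c).obj K).homology j, y ≫ ιH F K i j hi = x := by
  have h1 : (x ≫ (mapOpcIso F K i j hi).inv) ≫ fromOpc' F K j k = 0 := by
    rw [← mapOpcIso_hom_fromOpcycles F K i j hi k, Category.assoc, Iso.inv_hom_id_assoc, hx]
  obtain ⟨y, hy⟩ := KernelFork.IsLimit.lift' (homologyIsKernel' F K j k hk) _ h1
  refine ⟨y, ?_⟩
  unfold ιH
  simp only [KernelFork.ι_ofι] at hy
  rw [← Category.assoc, hy, Category.assoc, Iso.inv_hom_id, Category.comp_id]


@[reassoc]
theorem pOpc'_opcyclesMap_natTrans {G : C ⥤ D} [G.PreservesZeroMorphisms] (α : F ⟶ G) :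
    pOpc' F K j ≫ HomologicalComplex.opcyclesMap ((NatTrans.mapHomologicalComplex α c).app K) j =
      α.app (K.X j) ≫ pOpc' G K j :=
  HomologicalComplex.p_opcyclesMap ((NatTrans.mapHomologicalComplex α c).app K) j

@[reassoc]
theorem mapOpcIso_naturality_natTrans {G : C ⥤ D} [G.PreservesZeroMorphisms]
    [PreservesFiniteColimits G] (α : F ⟶ G) :
    HomologicalComplex.opcyclesMap ((NatTrans.mapHomologicalComplex α c).app K) j ≫
        (mapOpcIso G K i j hi).hom =
      (mapOpcIso F K i j hi).hom ≫ α.app (K.opcycles j) := by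
  rw [← cancel_epi (pOpc' F K j), pOpc'_opcyclesMap_natTrans_assoc, pOpc'_mapOpcIso_hom,
    pOpc'_mapOpcIso_hom_assoc, α.naturality]

@[reassoc]
theorem ιH_naturality_natTrans {G : C ⥤ D} [G.PreservesZeroMorphisms]
    [PreservesFiniteColimits G] (α : F ⟶ G) :
    HomologicalComplex.homologyMap ((NatTrans.mapHomologicalComplex α c).app K) j ≫
        ιH G K i j hi =
      ιH F K i j hi ≫ α.app (K.opcycles j) := by
  unfold ιH
  rw [HomologicalComplex.homologyι_naturality_assoc, mapOpcIso_naturality_natTrans, Category.assoc]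

end General

section Tensor

open MonoidalCategory CohIII

variable {A : Type u} [CommRing A] {ι : Type} {c : ComplexShape ι}
  (P : HomologicalComplex (ModuleCat.{u} A) c) (i j : ι) (hi : c.prev j = i)

/-- The canonical monomorphism `T_j(M) ⟶ Z'_j(P) ⊗ M`. -/
noncomputable def ιT (M : ModuleCat.{u} A) : (TFun P j).obj M ⟶ (P.opcycles j) ⊗ M :=
  ιH (tensorRight M) P i j hi

instance ιT_mono (M : ModuleCat.{u} A) : Mono (ιT P i j hi M) :=
  ιH_mono (tensorRight M) P i j hi

@[reassoc]
theorem ιT_comp (M : ModuleCat.{u} A) (k : ι) :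
    ιT P i j hi M ≫ (P.fromOpcycles j k) ▷ M = 0 :=
  ιH_comp (tensorRight M) P i j hi k

@[reassoc]
theorem ιT_naturality {M N : ModuleCat.{u} A} (g : M ⟶ N) :
    (TFun P j).map g ≫ ιT P i j hi N = ιT P i j hi M ≫ (P.opcycles j) ◁ g :=
  ιH_naturality_natTrans (tensorRight M) P i j hi ((tensoringRight (ModuleCat.{u} A)).map g)

theorem exists_lift_ιT (M : ModuleCat.{u} A) (k : ι) (hk : c.next j = k) {Z : ModuleCat.{u} A}
    (x : Z ⟶ (P.opcycles j) ⊗ M) (hx : x ≫ (P.fromOpcycles j k) ▷ M = 0) :
    ∃ y : Z ⟶ (TFun P j).obj M, y ≫ ιT P i j hi M = x :=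
  exists_lift_ιH (tensorRight M) P i j hi k hk x hx

include hi in
/-- `T_j` preserves monomorphisms iff the module of opcycles `Z'_j(P)` is flat
(given that `P_k` is flat, `k` the next index). -/
theorem preservesMono_iff_flat_opcycles (k : ι) (hk : c.next j = k) (hPk : Module.Flat A (P.X k)) :
    (TFun P j).PreservesMonomorphisms ↔ Module.Flat A (P.opcycles j) := by
  constructor
  · intro h
    rw [Module.Flat.iff_lTensor_preserves_injective_linearMap]
    intro N N' _ _ _ _ f hf
    let g : ModuleCat.of A N ⟶ ModuleCat.of A N' := ModuleCat.ofHom f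
    have hg : Mono g := (ModuleCat.mono_iff_injective g).2 hf
    have hTg : Mono ((TFun P j).map g) := h.preserves g
    have hk' : Mono ((P.X k) ◁ g) := by
      rw [ModuleCat.mono_iff_injective]
      simp only [ModuleCat.hom_whiskerLeft]
      exact Module.Flat.lTensor_preserves_injective_linearMap _ hf
    have key : Mono ((P.opcycles j) ◁ g) := by
      apply Preadditive.mono_of_cancel_zero
      intro Z x hx
      have hx' : x ≫ (P.fromOpcycles j k) ▷ (ModuleCat.of A N) = 0 := by
        rw [← cancel_mono ((P.X k) ◁ g), Category.assoc, ← whisker_exchange, ← Category.assoc, hx,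
          zero_comp, zero_comp]
      obtain ⟨y, rfl⟩ := exists_lift_ιT P i j hi _ k hk x hx'
      have hy : y ≫ (TFun P j).map g = 0 := by
        rw [← cancel_mono (ιT P i j hi (ModuleCat.of A N')), Category.assoc, ιT_naturality,
          ← Category.assoc, hx, zero_comp]
      have : y = 0 := by rw [← cancel_mono ((TFun P j).map g), hy, zero_comp]
      rw [this, zero_comp]
    rw [ModuleCat.mono_iff_injective] at key
    simp only [ModuleCat.hom_whiskerLeft] at key
    exact key
  · intro hflat
    refine ⟨fun {M N} g hg => ?_⟩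
    have hinj : Function.Injective g.hom := (ModuleCat.mono_iff_injective g).1 hg
    have h1 : Mono ((P.opcycles j) ◁ g) := by
      rw [ModuleCat.mono_iff_injective]
      simp only [ModuleCat.hom_whiskerLeft]
      exact Module.Flat.lTensor_preserves_injective_linearMap _ hinj
    have h2 : Mono ((TFun P j).map g ≫ ιT P i j hi N) := by
      rw [ιT_naturality]
      infer_instance
    exact mono_of_mono _ (ιT P i j hi N)

end Tensor

end Groth.Agent.H4FlatCx
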