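import Mathlib

/-!
# Flatness in short exact sequences and four-term exact sequences
-/

set_option autoImplicit false
universe u

namespace Groth.Agent.H4FlatSES

open TensorProduct

variable {R : Type u} [CommRing R] {M N P : Type u} [AddCommGroup M] [AddCommGroup N] [AddCommGroup P]
  [Module R M] [Module R N] [Module R P]

/-- In `0 → M → N → P → 0`, if `N` and `P` are flat then `M` is flat. -/
theorem flat_of_flat_of_flat_left (g : M →ₗ[R] N) (f : N →ₗ[R] P) (hg : Function.Injective g)
    (hf : Function.Surjective f) (H : Function.Exact g f) [Module.Flat R N] [Module.Flat R P] :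
    Module.Flat R M := by
  rw [Module.Flat.iff_rTensor_preserves_injective_linearMap]
  intro X Y _ _ _ _ h hh
  have h1 : Function.Injective (g.lTensor X) :=
    LinearMap.lTensor_injective_of_exact_of_flat f hf g hg H X
  have h2 : Function.Injective (h.rTensor N) :=
    Module.Flat.rTensor_preserves_injective_linearMap h hh
  have hsq : (h.rTensor N) ∘ₗ (g.lTensor X) = (g.lTensor Y) ∘ₗ (h.rTensor M) := by
    ext x m
    simp
  have h3 : Function.Injective ((g.lTensor Y) ∘ₗ (h.rTensor M)) := by
    rw [← hsq]; exact h2.comp h1
  exact Function.Injective.of_comp h3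

/-- In `0 → M → N → P → 0`, if `M` and `P` are flat then `N` is flat. -/
theorem flat_of_flat_of_flat_middle (g : M →ₗ[R] N) (f : N →ₗ[R] P) (hg : Function.Injective g)
    (hf : Function.Surjective f) (H : Function.Exact g f) [Module.Flat R M] [Module.Flat R P] :
    Module.Flat R N := by
  rw [Module.Flat.iff_rTensor_preserves_injective_linearMap]
  intro X Y _ _ _ _ h hh
  have h1 : Function.Injective (g.lTensor Y) :=
    LinearMap.lTensor_injective_of_exact_of_flat f hf g hg H Y
  have h2 : Function.Injective (h.rTensor P) :=
    Module.Flat.rTensor_preserves_injective_linearMap h hh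
  have h3 : Function.Injective (h.rTensor M) :=
    Module.Flat.rTensor_preserves_injective_linearMap h hh
  have hex : Function.Exact (g.lTensor X) (f.lTensor X) := lTensor_exact X H hf
  have hsq1 : (h.rTensor P) ∘ₗ (f.lTensor X) = (f.lTensor Y) ∘ₗ (h.rTensor N) := by
    ext x m
    simp
  have hsq2 : (h.rTensor N) ∘ₗ (g.lTensor X) = (g.lTensor Y) ∘ₗ (h.rTensor M) := by
    ext x m
    simp
  rw [injective_iff_map_eq_zero]
  intro z hz
  have hz1 : (f.lTensor X) z = 0 := by
    apply h2
    rw [map_zero]
    have := congrArg (fun l => l z) hsq1
    simp only [LinearMap.comp_apply] at this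
    rw [this, hz, map_zero]
  obtain ⟨w, rfl⟩ := (hex z).1 hz1
  have hw : (h.rTensor M) w = 0 := by
    apply h1
    rw [map_zero]
    have := congrArg (fun l => l w) hsq2
    simp only [LinearMap.comp_apply] at this
    rw [← this, hz]
  have : w = 0 := by
    apply h3
    rw [hw, map_zero]
  rw [this, map_zero]

section FourTerm

variable {H W X W' : Type u} [AddCommGroup H] [AddCommGroup W] [AddCommGroup X] [AddCommGroup W']
  [Module R H] [Module R W] [Module R X] [Module R W']
  (ι : H →ₗ[R] W) (φ : W →ₗ[R] X) (π : X →ₗ[R] W')

include π in
theorem flat_range_of_exact (hπ : Function.Surjective π) (h2 : Function.Exact φ π)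
    [Module.Flat R X] [Module.Flat R W'] : Module.Flat R (LinearMap.range φ) := by
  apply flat_of_flat_of_flat_left (LinearMap.range φ).subtype π (Submodule.subtype_injective _) hπ
  intro x
  rw [h2 x]
  simp

/-- In an exact sequence `0 → H → W → X → W' → 0` with `X`, `W'`, `H` flat, `W` is flat. -/
theorem flat_of_fourTerm_middle (hι : Function.Injective ι) (hπ : Function.Surjective π)
    (h1 : Function.Exact ι φ) (h2 : Function.Exact φ π)
    [Module.Flat R X] [Module.Flat R W'] [Module.Flat R H] : Module.Flat R W := by
  have := flat_range_of_exact φ π hπ h2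
  apply flat_of_flat_of_flat_middle ι φ.rangeRestrict hι φ.surjective_rangeRestrict
  intro w
  rw [← h1 w]
  constructor
  · intro h
    have := congrArg Subtype.val h
    simpa using this
  · intro h
    apply Subtype.ext
    simpa using h

/-- In an exact sequence `0 → H → W → X → W' → 0` with `X`, `W'`, `W` flat, `H` is flat. -/
theorem flat_of_fourTerm_left (hι : Function.Injective ι) (hπ : Function.Surjective π)
    (h1 : Function.Exact ι φ) (h2 : Function.Exact φ π)
    [Module.Flat R X] [Module.Flat R W'] [Module.Flat R W] : Module.Flat R H := by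
  have := flat_range_of_exact φ π hπ h2
  apply flat_of_flat_of_flat_left ι φ.rangeRestrict hι φ.surjective_rangeRestrict
  intro w
  rw [← h1 w]
  constructor
  · intro h
    have := congrArg Subtype.val h
    simpa using this
  · intro h
    apply Subtype.ext
    simpa using h

end FourTerm

end Groth.Agent.H4FlatSES
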