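import Mathlib
import Groth.Prelude.Def_ega3
import Groth.Agent.Lib.helper4.FlatCx3
import Groth.Agent.Lib.helper4.FlatSES

/-!
# FlatCx, part 4: flatness of homology / opcycles, and `T_q(A) ≅ H_q(P)`
-/

set_option autoImplicit false
set_option linter.unusedSectionVars false
universe u

namespace Groth.Agent.H4FlatCx

open CategoryTheory Limits MonoidalCategory CohIII

variable {A : Type u} [CommRing A] {ι : Type} {c : ComplexShape ι}

section FourTerm

variable (K : HomologicalComplex (ModuleCat.{u} A) c) (j k : ι) (hjk : c.next j = k)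
  (hkj : c.prev k = j)

theorem homologyι_injective : Function.Injective (K.homologyι j).hom :=
  (ModuleCat.mono_iff_injective _).1 inferInstance

theorem pOpcycles_surjective : Function.Surjective (K.pOpcycles k).hom :=
  (ModuleCat.epi_iff_surjective _).1 inferInstance

include hjk in
theorem exact_homologyι_fromOpcycles :
    Function.Exact (K.homologyι j).hom (K.fromOpcycles j k).hom := by
  have h : (ShortComplex.mk (K.homologyι j) (K.fromOpcycles j k)
      (K.homologyι_comp_fromOpcycles j k)).Exact :=
    ShortComplex.exact_of_f_is_kernel _ (K.homologyIsKernel j k hjk)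
  exact (ShortComplex.ShortExact.moduleCat_exact_iff_function_exact _).1 h

include hkj in
theorem exact_fromOpcycles_pOpcycles :
    Function.Exact (K.fromOpcycles j k).hom (K.pOpcycles k).hom := by
  have h : (ShortComplex.mk (K.d j k) (K.pOpcycles k) (K.d_pOpcycles j k)).Exact :=
    ShortComplex.exact_of_g_is_cokernel _ (K.opcyclesIsCokernel j k hkj)
  have h' := (ShortComplex.ShortExact.moduleCat_exact_iff_function_exact _).1 h
  have hd : (K.d j k).hom = (K.fromOpcycles j k).hom ∘ₗ (K.pOpcycles j).hom := by
    rw [← ModuleCat.hom_comp, K.p_fromOpcycles]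
  intro x
  rw [h' x]
  simp only [hd]
  constructor
  · rintro ⟨y, rfl⟩
    exact ⟨_, rfl⟩
  · rintro ⟨y, rfl⟩
    obtain ⟨z, rfl⟩ := pOpcycles_surjective K j y
    exact ⟨z, rfl⟩

include hjk hkj in
theorem flat_opcycles_of_flat [Module.Flat A (K.X k)] [Module.Flat A (K.opcycles k)]
    [Module.Flat A (K.homology j)] : Module.Flat A (K.opcycles j) :=
  H4FlatSES.flat_of_fourTerm_middle (K.homologyι j).hom (K.fromOpcycles j k).hom (K.pOpcycles k).hom
    (homologyι_injective K j) (pOpcycles_surjective K k) (exact_homologyι_fromOpcycles K j k hjk)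
    (exact_fromOpcycles_pOpcycles K j k hkj)

include hjk hkj in
theorem flat_homology_of_flat [Module.Flat A (K.X k)] [Module.Flat A (K.opcycles k)]
    [Module.Flat A (K.opcycles j)] : Module.Flat A (K.homology j) :=
  H4FlatSES.flat_of_fourTerm_left (K.homologyι j).hom (K.fromOpcycles j k).hom (K.pOpcycles k).hom
    (homologyι_injective K j) (pOpcycles_surjective K k) (exact_homologyι_fromOpcycles K j k hjk)
    (exact_fromOpcycles_pOpcycles K j k hkj)

theorem subsingleton_opcycles_of_isZero (h : IsZero (K.X j)) : Subsingleton (K.opcycles j) := by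
  have h0 : IsZero (K.opcycles j) := by
    rw [IsZero.iff_id_eq_zero, ← cancel_epi (K.pOpcycles j)]
    exact h.eq_of_src _ _
  exact ModuleCat.subsingleton_of_isZero h0

end FourTerm

section Unit

/-- `P ⊗ A ≅ P`. -/
noncomputable def tensorObjUnitIso (P : HomologicalComplex (ModuleCat.{u} A) c) :
    tensorObj P (ModuleCat.of A A) ≅ P :=
  (NatIso.mapHomologicalComplex (rightUnitorNatIso (ModuleCat.{u} A)) c).app P ≪≫
    (Functor.mapHomologicalComplexIdIso (ModuleCat.{u} A) c).app P

/-- `T_p(A) ≅ H_p(P)`. -/
noncomputable def TUnitIso (P : HomologicalComplex (ModuleCat.{u} A) c) (p : ι) :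
    T P p (ModuleCat.of A A) ≅ P.homology p :=
  (HomologicalComplex.homologyFunctor _ c p).mapIso (tensorObjUnitIso P)

theorem flat_TUnit_iff (P : HomologicalComplex (ModuleCat.{u} A) c) (p : ι) :
    Module.Flat A (T P p (ModuleCat.of A A)) ↔ Module.Flat A (P.homology p) :=
  Module.Flat.equiv_iff (TUnitIso P p).toLinearEquiv

end Unit

end Groth.Agent.H4FlatCx
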