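import Mathlib
import Groth.Prelude.Def_ega3
import Groth.Agent.Lib.helper4.FlatCx4
import Groth.Agent.Lib.helper4.EWatts

/-!
# FlatCx, part 5: `T_p` commutes with arbitrary direct sums
-/

set_option autoImplicit false
set_option linter.unusedSectionVars false
universe u

namespace Groth.Agent.H4FlatCx

open CategoryTheory Limits MonoidalCategory CohIII DirectSum

section Coprod

variable {A : Type u} [CommRing A] {J : Type u} [DecidableEq J] (M : J → ModuleCat.{u} A)

/-- the concrete direct sum -/
noncomputable abbrev dsum : ModuleCat.{u} A := ModuleCat.of A (⨁ j, M j)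

/-- the inclusions -/
noncomputable abbrev inj (j : J) : M j ⟶ dsum M :=
  ModuleCat.ofHom (DirectSum.lof A J (fun j => M j) j)

/-- The canonical map `⨁ F(M_j) → F(⨁ M_j)`. -/
noncomputable def dMap (F : ModuleCat.{u} A ⥤ ModuleCat.{u} A) :
    (⨁ j, F.obj (M j)) →ₗ[A] F.obj (dsum M) :=
  DirectSum.toModule A J _ (fun j => (F.map (inj M j)).hom)

@[simp]
theorem dMap_lof (F : ModuleCat.{u} A ⥤ ModuleCat.{u} A) (j : J) (x : F.obj (M j)) :
    dMap M F (DirectSum.lof A J (fun j => F.obj (M j)) j x) = (F.map (inj M j)).hom x := by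
  simp [dMap]

theorem dMap_bijective_of_preserves (F : ModuleCat.{u} A ⥤ ModuleCat.{u} A)
    [PreservesColimit (Discrete.functor M) F] : Function.Bijective (dMap M F) := by
  have h1 : IsColimit (Cofan.mk (F.obj (dsum M)) fun j => F.map (inj M j) :
      Cofan fun j => F.obj (M j)) :=
    isColimitCofanMkObjOfIsColimit F M (inj M) (ModuleCat.coproductCoconeIsColimit M)
  have h2 := ModuleCat.coproductCoconeIsColimit (fun j => F.obj (M j))
  let e := IsColimit.coconePointUniqueUpToIso h2 h1
  have he : e.hom.hom = dMap M F := by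
    refine DirectSum.linearMap_ext _ fun j => ?_
    ext x
    have := IsColimit.comp_coconePointUniqueUpToIso_hom h2 h1 ⟨j⟩
    have h3 := congrArg (fun f => f.hom x) this
    rw [LinearMap.comp_apply, LinearMap.comp_apply, dMap_lof]
    exact h3
  rw [← he]
  exact ConcreteCategory.bijective_of_isIso e.hom

theorem preservesColimit_of_dMap_bijective (F : ModuleCat.{u} A ⥤ ModuleCat.{u} A)
    (h : Function.Bijective (dMap M F)) : PreservesColimit (Discrete.functor M) F := by
  apply preservesColimit_of_preserves_colimit_cocone (ModuleCat.coproductCoconeIsColimit M)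
  refine (isColimitMapCoconeCofanMkEquiv F M (inj M)).symm ?_
  have hdesc : ((ModuleCat.coproductCoconeIsColimit (fun j => F.obj (M j))).desc
      (Cofan.mk (F.obj (dsum M)) fun j => F.map (inj M j) :
      Cofan fun j => F.obj (M j))).hom = dMap M F := rfl
  have : IsIso ((ModuleCat.coproductCoconeIsColimit (fun j => F.obj (M j))).desc
      (Cofan.mk (F.obj (dsum M)) fun j => F.map (inj M j) : Cofan fun j => F.obj (M j))) := by
    rw [ConcreteCategory.isIso_iff_bijective]
    exact h
  exact IsColimit.ofPointIso (ModuleCat.coproductCoconeIsColimit (fun j => F.obj (M j)))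

/-- Kernels of natural transformations between functors commuting with a direct sum commute with
this direct sum. -/
theorem dMap_bijective_of_kernel {T F G : ModuleCat.{u} A ⥤ ModuleCat.{u} A} (ι : T ⟶ F) (α : F ⟶ G)
    (hι : ∀ N, Function.Injective (ι.app N).hom)
    (hex : ∀ N, Function.Exact (ι.app N).hom (α.app N).hom)
    (hF : Function.Bijective (dMap M F)) (hG : Function.Injective (dMap M G)) :
    Function.Bijective (dMap M T) := by
  have nat1 : (ι.app (dsum M)).hom ∘ₗ dMap M T =
      dMap M F ∘ₗ DirectSum.lmap (fun j => (ι.app (M j)).hom) := by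
    refine DirectSum.linearMap_ext _ fun j => ?_
    ext x
    simp only [LinearMap.coe_comp, Function.comp_apply, dMap_lof, DirectSum.lmap_lof]
    exact congrArg (fun f => f.hom x) (ι.naturality (inj M j))
  have nat2 : (α.app (dsum M)).hom ∘ₗ dMap M F =
      dMap M G ∘ₗ DirectSum.lmap (fun j => (α.app (M j)).hom) := by
    refine DirectSum.linearMap_ext _ fun j => ?_
    ext x
    simp only [LinearMap.coe_comp, Function.comp_apply, dMap_lof, DirectSum.lmap_lof]
    exact congrArg (fun f => f.hom x) (α.naturality (inj M j))
  have hιsum : Function.Injective (DirectSum.lmap (fun j => (ι.app (M j)).hom)) :=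
    (DirectSum.lmap_injective _).2 (fun j => hι (M j))
  constructor
  · have : Function.Injective ((ι.app (dsum M)).hom ∘ₗ dMap M T) := by
      rw [nat1]
      exact hF.1.comp hιsum
    exact Function.Injective.of_comp this
  · intro t
    obtain ⟨ω, hω⟩ := hF.2 ((ι.app (dsum M)).hom t)
    have h0 : DirectSum.lmap (fun j => (α.app (M j)).hom) ω = 0 := by
      apply hG
      rw [map_zero]
      have := congrArg (fun l => l ω) nat2
      simp only [LinearMap.coe_comp, Function.comp_apply] at this
      rw [← this, hω]
      exact (hex _ _).2 ⟨t, rfl⟩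
    have h1 : ∀ j, ∃ tj : T.obj (M j), (ι.app (M j)).hom tj = ω j := by
      intro j
      apply (hex (M j) (ω j)).1
      have := congrArg (fun z => z j) h0
      simpa using this
    choose τ hτ using h1
    classical
    let τsum : ⨁ j, T.obj (M j) :=
      ∑ j ∈ DFinsupp.support ω, DirectSum.lof A J (fun j => T.obj (M j)) j (τ j)
    have h2 : DirectSum.lmap (fun j => (ι.app (M j)).hom) τsum = ω := by
      simp only [τsum, map_sum, DirectSum.lmap_lof, hτ]
      exact DirectSum.sum_support_of ω
    refine ⟨τsum, ?_⟩
    apply hι (dsum M)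
    have := congrArg (fun l => l τsum) nat1
    simp only [LinearMap.coe_comp, Function.comp_apply] at this
    rw [this, h2, hω]

end Coprod


section TFunCoprod

variable {A : Type u} [CommRing A] {ι : Type} {c : ComplexShape ι}
  (P : HomologicalComplex (ModuleCat.{u} A) c) (j : ι)

/-- `ιT` as a natural transformation `T_j ⟶ Z'_j(P) ⊗ -`. -/
noncomputable def ιTNat : TFun P j ⟶ tensorLeft (P.opcycles j) where
  app M := ιT P (c.prev j) j rfl M
  naturality {M N} g := ιT_naturality P (c.prev j) j rfl g

theorem ιT_injective (M : ModuleCat.{u} A) :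
    Function.Injective (ιT P (c.prev j) j rfl M).hom :=
  (ModuleCat.mono_iff_injective _).1 inferInstance

theorem ιT_exact (M : ModuleCat.{u} A) :
    Function.Exact (ιT P (c.prev j) j rfl M).hom ((P.fromOpcycles j (c.next j)) ▷ M).hom := by
  intro w
  constructor
  · intro hw
    let x : ModuleCat.of A A ⟶ (P.opcycles j) ⊗ M := H4EW.θ _ w
    have hx : x ≫ (P.fromOpcycles j (c.next j)) ▷ M = 0 := by
      rw [H4EW.θ_comp, hw]
      ext
      simp [H4EW.θ]
    obtain ⟨y, hy⟩ := exists_lift_ιT P (c.prev j) j rfl M (c.next j) rfl x hx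
    refine ⟨y.hom (1 : A), ?_⟩
    have := congrArg (fun f => f.hom (1 : A)) hy
    simpa [x, H4EW.θ] using this
  · rintro ⟨t, rfl⟩
    have := congrArg (fun f => f.hom t) (ιT_comp P (c.prev j) j rfl M (c.next j))
    simpa using this

instance TFun_preservesCoproducts (J : Type u) :
    PreservesColimitsOfShape (Discrete J) (TFun P j) := by
  classical
  constructor
  intro K
  have e : K ≅ Discrete.functor (fun i => K.obj ⟨i⟩) := Discrete.natIsoFunctor
  suffices h : PreservesColimit (Discrete.functor (fun i => K.obj ⟨i⟩)) (TFun P j) from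
    preservesColimit_of_iso_diagram _ e.symm
  apply preservesColimit_of_dMap_bijective
  apply dMap_bijective_of_kernel _ (ιTNat P j)
    ((curriedTensor (ModuleCat.{u} A)).map (P.fromOpcycles j (c.next j)))
  · intro N
    exact ιT_injective P j N
  · intro N
    exact ιT_exact P j N
  · exact dMap_bijective_of_preserves _ _
  · exact (dMap_bijective_of_preserves _ _).1

end TFunCoprod

end Groth.Agent.H4FlatCx
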