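import Mathlib
import Groth.Prelude.Def_ega3
import Groth.Agent.Lib.helper4.FlatCx5

/-!
# FlatCx, part 6: right exactness of `T_p` and `T_p ≅ T_p(A) ⊗ -`
-/

set_option autoImplicit false
set_option linter.unusedSectionVars false
universe u

namespace Groth.Agent.H4FlatCx

open CategoryTheory Limits MonoidalCategory CohIII

variable {A : Type u} [CommRing A] {ι : Type} {c : ComplexShape ι}
  (P : HomologicalComplex (ModuleCat.{u} A) c) (hP : ∀ i, Module.Flat A (P.X i)) (p : ι)

include hP in
theorem preservesFiniteColimits_iff_preservesEpi :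
    PreservesFiniteColimits (TFun P p) ↔ (TFun P p).PreservesEpimorphisms := by
  constructor
  · intro h
    infer_instance
  · intro h
    rw [Functor.preservesFiniteColimits_iff_forall_exact_map_and_epi]
    intro S hS
    have := hS.epi_g
    exact ⟨exact₂ P hP S hS p, h.preserves S.g⟩

include hP in
theorem preservesEpi_iff_exists_iso_tensorLeft :
    (TFun P p).PreservesEpimorphisms ↔
      ∃ N : ModuleCat.{u} A, Nonempty (TFun P p ≅ tensorLeft N) := by
  rw [← preservesFiniteColimits_iff_preservesEpi P hP p]
  exact H4EW.preservesFiniteColimits_iff_exists_iso_tensorLeft (TFun P p)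

include hP in
/-- If `T_p` preserves epimorphisms, then `T_p ≅ T_p(A) ⊗ -`. -/
theorem nonempty_iso_tensorLeft_of_preservesEpi (h : (TFun P p).PreservesEpimorphisms) :
    Nonempty (TFun P p ≅ tensorLeft ((TFun P p).obj (ModuleCat.of A A))) := by
  have := (preservesFiniteColimits_iff_preservesEpi P hP p).2 h
  have := H4EW.isIso_tNat_of_preservesFiniteColimits (TFun P p)
  exact ⟨(asIso (H4EW.tNat (TFun P p))).symm⟩

theorem preservesMono_of_iso_tensorLeft {T : ModuleCat.{u} A ⥤ ModuleCat.{u} A}
    (N : ModuleCat.{u} A) [Module.Flat A N] (e : T ≅ tensorLeft N) : T.PreservesMonomorphisms := by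
  have : (tensorLeft N).PreservesMonomorphisms := by
    refine ⟨fun {X Y} g hg => ?_⟩
    rw [ModuleCat.mono_iff_injective] at hg ⊢
    simp only [curriedTensor_obj_map, ModuleCat.hom_whiskerLeft]
    exact Module.Flat.lTensor_preserves_injective_linearMap _ hg
  exact Functor.PreservesMonomorphisms.of_iso e.symm

theorem preservesEpi_of_iso_tensorLeft {T : ModuleCat.{u} A ⥤ ModuleCat.{u} A}
    (N : ModuleCat.{u} A) (e : T ≅ tensorLeft N) : T.PreservesEpimorphisms := by
  have : (tensorLeft N).PreservesEpimorphisms := by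
    refine ⟨fun {X Y} g hg => ?_⟩
    rw [ModuleCat.epi_iff_surjective] at hg ⊢
    simp only [curriedTensor_obj_map, ModuleCat.hom_whiskerLeft]
    exact LinearMap.lTensor_surjective _ hg
  exact Functor.PreservesEpimorphisms.of_iso e.symm

/-- If `T ≅ N ⊗ -` preserves monomorphisms then `N` is flat. -/
theorem flat_of_iso_tensorLeft_of_preservesMono {T : ModuleCat.{u} A ⥤ ModuleCat.{u} A}
    (N : ModuleCat.{u} A) (e : T ≅ tensorLeft N) (h : T.PreservesMonomorphisms) :
    Module.Flat A N := by
  have : (tensorLeft N).PreservesMonomorphisms := Functor.PreservesMonomorphisms.of_iso e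
  rw [Module.Flat.iff_lTensor_preserves_injective_linearMap]
  intro X Y _ _ _ _ f hf
  have hm : Mono (ModuleCat.ofHom f) := (ModuleCat.mono_iff_injective _).2 hf
  have := (tensorLeft N).map_mono (ModuleCat.ofHom f)
  rw [ModuleCat.mono_iff_injective] at this
  simp only [curriedTensor_obj_map, ModuleCat.hom_whiskerLeft] at this
  exact this

end Groth.Agent.H4FlatCx
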