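import Mathlib
import Groth.Prelude.Def_ega3
import Groth.Agent.Lib.helper4.FlatCx6

/-!
# FlatCx, part 7: the local criterion `T_p(A) → T_p(k)` surjective ⇒ `T_p` right exact
-/

set_option autoImplicit false
set_option linter.unusedSectionVars false
universe u

namespace Groth.Agent.H4FlatCx

open CategoryTheory Limits MonoidalCategory CohIII TensorProduct

variable {A : Type u} [CommRing A] [IsLocalRing A] {ι : Type} {c : ComplexShape ι}
  (P : HomologicalComplex (ModuleCat.{u} A) c)

/-- the projection `A → k` as a morphism of `A`-modules -/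
noncomputable abbrev ρk (A : Type u) [CommRing A] [IsLocalRing A] :
    ModuleCat.of A A ⟶ ModuleCat.of A (IsLocalRing.ResidueField A) :=
  ModuleCat.ofHom (Algebra.linearMap A (IsLocalRing.ResidueField A))

theorem rTensor_comm_eq {R M N K : Type*} [CommRing R] [AddCommGroup M] [AddCommGroup N]
    [AddCommGroup K] [Module R M] [Module R N] [Module R K] (f : M →ₗ[R] N) (w : K ⊗[R] M) :
    (f.rTensor K) (TensorProduct.comm R K M w) = TensorProduct.comm R K N ((f.lTensor K) w) := by
  induction w using TensorProduct.induction_on with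
  | zero => simp
  | tmul x y => simp
  | add x y hx hy => simp only [map_add, hx, hy]

theorem free_opcycles_next_of_surjective (j : ι) (hkj : c.prev (c.next j) = j)
    [Module.Finite A (P.X j)] [Module.Finite A (P.X (c.next j))] [Module.Free A (P.X (c.next j))]
    (hsurj : Function.Surjective ((TFun P j).map (ρk A)).hom) :
    Module.Free A (P.opcycles (c.next j)) := by
  set k := c.next j with hk
  let κ := IsLocalRing.ResidueField A
  let φ : P.opcycles j →ₗ[A] P.X k := (P.fromOpcycles j k).hom
  let π : P.X k →ₗ[A] P.opcycles k := (P.pOpcycles k).hom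
  have hW : Module.Finite A (P.opcycles j) :=
    Module.Finite.of_surjective (P.pOpcycles j).hom (pOpcycles_surjective P j)
  have hB : Module.Finite A (LinearMap.range φ) := Module.Finite.range φ
  have hex : Function.Exact (LinearMap.range φ).subtype π := by
    intro x
    rw [exact_fromOpcycles_pOpcycles P j k hkj x]
    simp [φ]
  refine Module.free_of_lTensor_residueField_injective (LinearMap.range φ).subtype π
    (pOpcycles_surjective P k) hex ?_
  rw [injective_iff_map_eq_zero]
  intro x hx
  obtain ⟨w, rfl⟩ := LinearMap.lTensor_surjective κ φ.surjective_rangeRestrict x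
  have hw : (φ.lTensor κ) w = 0 := by
    rw [← hx, ← LinearMap.comp_apply, ← LinearMap.lTensor_comp]
    rfl
  -- pass to the other side
  let w' : (P.opcycles j) ⊗[A] κ := TensorProduct.comm A κ (P.opcycles j) w
  have hw' : ((P.fromOpcycles j k) ▷ (ModuleCat.of A κ)).hom w' = 0 := by
    simp only [ModuleCat.hom_whiskerRight]
    have : (φ.rTensor κ) (TensorProduct.comm A κ (P.opcycles j) w) =
        TensorProduct.comm A κ (P.X k) ((φ.lTensor κ) w) := rTensor_comm_eq φ w
    change (φ.rTensor κ) w' = 0
    rw [this, hw, map_zero]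
  obtain ⟨t, ht⟩ := (ιT_exact P j (ModuleCat.of A κ) w').1 hw'
  obtain ⟨s, rfl⟩ := hsurj t
  have hnat := congrArg (fun f => f.hom s) (ιT_naturality P (c.prev j) j rfl (ρk A))
  simp only [ModuleCat.hom_comp, LinearMap.coe_comp, Function.comp_apply] at hnat
  rw [ht] at hnat
  set z := (ιT P (c.prev j) j rfl (ModuleCat.of A A)).hom s with hz
  have hz0 : ((P.fromOpcycles j k) ▷ (ModuleCat.of A A)).hom z = 0 :=
    (ιT_exact P j (ModuleCat.of A A) z).2 ⟨s, rfl⟩
  let h : P.opcycles j := TensorProduct.rid A (P.opcycles j) z
  have hzh : z = h ⊗ₜ[A] (1 : A) := by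
    apply (TensorProduct.rid A (P.opcycles j)).injective
    rw [TensorProduct.rid_tmul, one_smul]
  have hφh : φ h = 0 := by
    have : (φ.rTensor A) z = 0 := by
      simpa only [ModuleCat.hom_whiskerRight] using hz0
    rw [hzh, LinearMap.rTensor_tmul] at this
    have := congrArg (TensorProduct.rid A (P.X k)) this
    simpa using this
  have hw'h : w' = h ⊗ₜ[A] (1 : κ) := by
    rw [hnat, hzh]
    simp only [ModuleCat.hom_whiskerLeft]
    erw [LinearMap.lTensor_tmul]
    simp
  have hwh : w = (1 : κ) ⊗ₜ[A] h := by
    apply (TensorProduct.comm A κ (P.opcycles j)).injective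
    change w' = _
    rw [hw'h]
    simp
  rw [hwh, LinearMap.lTensor_tmul]
  have : φ.rangeRestrict h = 0 := Subtype.ext hφh
  rw [this, tmul_zero]


theorem free_opcycles_of_surjective (j k : ι) (hjk : c.next j = k) (hkj : c.prev k = j)
    [Module.Finite A (P.X j)] [Module.Finite A (P.X k)] [Module.Free A (P.X k)]
    (hsurj : Function.Surjective ((TFun P j).map (ρk A)).hom) :
    Module.Free A (P.opcycles k) := by
  subst hjk
  exact free_opcycles_next_of_surjective P j hkj hsurj

section Chain

variable (P : ChainComplex (ModuleCat.{u} A) ℤ)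
  (hP : ∀ i, Module.Finite A (P.X i) ∧ Module.Flat A (P.X i))

include hP in
theorem flat_of_hP (i : ℤ) : Module.Flat A (P.X i) := (hP i).2

include hP in
/-- Over a local ring, for a complex of finite flat modules:
`T_p` preserves epimorphisms iff `T_p(A) → T_p(k)` is surjective. -/
theorem preservesEpi_iff_surjective (p : ℤ) :
    (TFun P p).PreservesEpimorphisms ↔ Function.Surjective ((TFun P p).map (ρk A)).hom := by
  constructor
  · intro h
    have hepi : Epi (ρk A) := by
      rw [ModuleCat.epi_iff_surjective]
      exact Ideal.Quotient.mk_surjective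
    have := h.preserves (ρk A)
    exact (ModuleCat.epi_iff_surjective _).1 this
  · intro hsurj
    have h1 := (hP p).1
    have h2 := (hP (p - 1)).1
    have h3 := (hP (p - 1)).2
    have h4 : Module.Free A (P.X (p - 1)) := Module.free_of_flat_of_isLocalRing
    have hfree := free_opcycles_of_surjective P p (p - 1) (by simp) (by simp) hsurj
    have hflat : Module.Flat A (P.opcycles (p - 1)) := inferInstance
    rw [preservesEpi_iff_preservesMono P (fun i => (hP i).2) p (p - 1) (by simp),
      preservesMono_iff_flat_opcycles P p (p - 1) (by simp) (p - 1 - 1) (by simp) (hP _).2]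
    exact hflat

end Chain

end Groth.Agent.H4FlatCx
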