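import Mathlib
import Groth.Prelude.Def_ega3
import Groth.Agent.Lib.helper4.FlatCx7

/-!
# FlatCx, part 8: Noetherian local rings: vanishing and freeness criteria
-/

set_option autoImplicit false
set_option linter.unusedSectionVars false
universe u

namespace Groth.Agent.H4FlatCx

open CategoryTheory Limits MonoidalCategory CohIII TensorProduct

section Finite

variable {A : Type u} [CommRing A] [IsNoetherianRing A] {ι : Type} {c : ComplexShape ι}
  (K : HomologicalComplex (ModuleCat.{u} A) c)

theorem finite_homology (j : ι) [Module.Finite A (K.X j)] : Module.Finite A (K.homology j) := by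
  have : IsNoetherian A (K.X j) := isNoetherian_of_isNoetherianRing_of_finite A (K.X j)
  have h1 : Module.Finite A (K.cycles j) :=
    Module.Finite.of_injective (K.iCycles j).hom ((ModuleCat.mono_iff_injective _).1 inferInstance)
  exact Module.Finite.of_surjective (K.homologyπ j).hom
    ((ModuleCat.epi_iff_surjective _).1 inferInstance)

theorem finite_TUnit (P : HomologicalComplex (ModuleCat.{u} A) c) (j : ι) [Module.Finite A (P.X j)] :
    Module.Finite A ((TFun P j).obj (ModuleCat.of A A)) := by
  have := finite_homology P j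
  exact Module.Finite.equiv (TUnitIso P j).toLinearEquiv.symm

end Finite

section Local

variable {A : Type u} [CommRing A] [IsNoetherianRing A] [IsLocalRing A]
  (P : ChainComplex (ModuleCat.{u} A) ℤ)
  (hP : ∀ i, Module.Finite A (P.X i) ∧ Module.Flat A (P.X i))

include hP in
/-- If `T_p(k) = 0` then `T_p = 0`. -/
theorem isZero_of_isZero_residueField (p : ℤ)
    (hk : IsZero ((TFun P p).obj (ModuleCat.of A (IsLocalRing.ResidueField A))))
    (M : ModuleCat.{u} A) : IsZero ((TFun P p).obj M) := by
  have hsurj : Function.Surjective ((TFun P p).map (ρk A)).hom := by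
    intro y
    have := ModuleCat.subsingleton_of_isZero hk
    exact ⟨0, Subsingleton.elim _ _⟩
  have hepi := (preservesEpi_iff_surjective P hP p).2 hsurj
  obtain ⟨e⟩ := nonempty_iso_tensorLeft_of_preservesEpi P (fun i => (hP i).2) p hepi
  have := (hP p).1
  have hfin := finite_TUnit P p
  set N := (TFun P p).obj (ModuleCat.of A A) with hN
  have h1 : Subsingleton (N ⊗[A] (IsLocalRing.ResidueField A)) := by
    have := ModuleCat.subsingleton_of_isZero hk
    exact (e.app (ModuleCat.of A (IsLocalRing.ResidueField A))).toLinearEquiv.symm.subsingleton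
  have h2 : Subsingleton ((IsLocalRing.ResidueField A) ⊗[A] N) :=
    (TensorProduct.comm A _ _).subsingleton
  have h3 : Subsingleton N := IsLocalRing.subsingleton_tensorProduct.1 h2
  have h4 : Subsingleton (N ⊗[A] M) := by
    refine ⟨fun x y => ?_⟩
    have : ∀ z : N ⊗[A] M, z = 0 := by
      intro z
      induction z using TensorProduct.induction_on with
      | zero => rfl
      | tmul a b => rw [Subsingleton.elim a 0, zero_tmul]
      | add a b ha hb => rw [ha, hb, add_zero]
    rw [this x, this y]
  have h4' : Subsingleton ((tensorLeft N).obj M) := h4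
  have h5 : Subsingleton ((TFun P p).obj M) := (e.app M).toLinearEquiv.subsingleton
  exact ModuleCat.isZero_of_subsingleton _


include hP in
theorem exact_iff_preservesEpi_and_free (p : ℤ) :
    ((TFun P p).PreservesMonomorphisms ∧ (TFun P p).PreservesEpimorphisms) ↔
      ((TFun P p).PreservesEpimorphisms ∧ Module.Free A ((TFun P p).obj (ModuleCat.of A A))) := by
  have := (hP p).1
  have hfin := finite_TUnit P p
  constructor
  · rintro ⟨h1, h2⟩
    obtain ⟨e⟩ := nonempty_iso_tensorLeft_of_preservesEpi P (fun i => (hP i).2) p h2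
    have hflat := flat_of_iso_tensorLeft_of_preservesMono _ e h1
    exact ⟨h2, Module.free_of_flat_of_isLocalRing⟩
  · rintro ⟨h2, hfree⟩
    obtain ⟨e⟩ := nonempty_iso_tensorLeft_of_preservesEpi P (fun i => (hP i).2) p h2
    exact ⟨preservesMono_of_iso_tensorLeft _ e, h2⟩

theorem preservesMono_of_forall_isZero {C D : Type*} [Category C] [Category D]
    [HasZeroMorphisms D] (T : C ⥤ D) (h : ∀ M, IsZero (T.obj M)) : T.PreservesMonomorphisms :=
  ⟨fun {X Y} f _ => ⟨fun g g' _ => (h X).eq_of_tgt _ _⟩⟩

theorem preservesEpi_of_forall_isZero {C D : Type*} [Category C] [Category D]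
    [HasZeroMorphisms D] (T : C ⥤ D) (h : ∀ M, IsZero (T.obj M)) : T.PreservesEpimorphisms :=
  ⟨fun {X Y} f _ => ⟨fun g g' _ => (h Y).eq_of_src _ _⟩⟩

include hP in
theorem exact_and_free_of_adjacent_vanishing (p q r : ℤ) (hqp : q + 1 = p) (hpr : p + 1 = r)
    (hq : IsZero ((TFun P q).obj (ModuleCat.of A (IsLocalRing.ResidueField A))))
    (hr : IsZero ((TFun P r).obj (ModuleCat.of A (IsLocalRing.ResidueField A)))) :
    ((TFun P p).PreservesMonomorphisms ∧ (TFun P p).PreservesEpimorphisms) ∧
      Module.Free A ((TFun P p).obj (ModuleCat.of A A)) := by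
  have hq' := preservesMono_of_forall_isZero (TFun P q) (isZero_of_isZero_residueField P hP q hq)
  have hr' := preservesEpi_of_forall_isZero (TFun P r) (isZero_of_isZero_residueField P hP r hr)
  have h1 : (TFun P p).PreservesEpimorphisms :=
    (preservesEpi_iff_preservesMono P (fun i => (hP i).2) p q hqp).2 hq'
  have h2 : (TFun P p).PreservesMonomorphisms :=
    (preservesEpi_iff_preservesMono P (fun i => (hP i).2) r p hpr).1 hr'
  exact ⟨⟨h2, h1⟩, ((exact_iff_preservesEpi_and_free P hP p).1 ⟨h2, h1⟩).2⟩

end Local

end Groth.Agent.H4FlatCx
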