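import Mathlib
import Groth.Prelude.Def_ega3
import Groth.Agent.Lib.helper4.FlatCx8

/-!
# FlatCx, part 9: the fibre dimension formula
`dim H_j(P ⊗ κ) + dim (P_k ⊗ κ) = dim (Z'_j ⊗ κ) + dim (Z'_k ⊗ κ)`.
-/

set_option autoImplicit false
set_option linter.unusedSectionVars false
universe u

namespace Groth.Agent.H4FlatCx

open CategoryTheory Limits CohIII TensorProduct

section LinAlg

variable {κ : Type*} [Field κ] {H V₁ V₂ V₃ : Type*} [AddCommGroup H] [AddCommGroup V₁]
  [AddCommGroup V₂] [AddCommGroup V₃] [Module κ H] [Module κ V₁] [Module κ V₂] [Module κ V₃]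

theorem finrank_fourTerm [Module.Finite κ V₁] [Module.Finite κ V₂]
    (ι : H →ₗ[κ] V₁) (f : V₁ →ₗ[κ] V₂) (π : V₂ →ₗ[κ] V₃) (hι : Function.Injective ι)
    (hπ : Function.Surjective π) (h1 : Function.Exact ι f) (h2 : Function.Exact f π) :
    Module.finrank κ H + Module.finrank κ V₂ = Module.finrank κ V₁ + Module.finrank κ V₃ := by
  have e1 : Module.finrank κ H = Module.finrank κ (LinearMap.ker f) := by
    rw [h1.linearMap_ker_eq]
    exact (LinearEquiv.ofInjective ι hι).finrank_eq
  have e2 : Module.finrank κ V₃ + Module.finrank κ (LinearMap.range f) = Module.finrank κ V₂ := by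
    rw [← h2.linearMap_ker_eq, ← (π.quotKerEquivOfSurjective hπ).finrank_eq]
    exact Submodule.finrank_quotient_add_finrank _
  have e3 := LinearMap.finrank_range_add_finrank_ker f
  omega

end LinAlg

section Bridge

variable {A B : Type u} [CommRing A] [CommRing B]

/-- auxiliary: dimension of the base change, with the algebra instance as an argument -/
noncomputable def fdOf (A B : Type u) [CommRing A] [CommRing B] [Algebra A B] (X : Type u)
    [AddCommGroup X] [Module A X] : ℕ :=
  Module.finrank B (B ⊗[A] X)

theorem toAlgebra_eq [inst : Algebra A B] : (algebraMap A B).toAlgebra = inst :=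
  Algebra.algebra_ext _ _ (fun _ => rfl)

theorem finrank_extendScalars_obj [Algebra A B] (X : ModuleCat.{u} A) :
    Module.finrank B ((ModuleCat.extendScalars (algebraMap A B)).obj X) =
      Module.finrank B (B ⊗[A] X) := by
  have h1 : Module.finrank B ((ModuleCat.extendScalars (algebraMap A B)).obj X) =
    @fdOf A B _ _ (algebraMap A B).toAlgebra X _ _ := rfl
  rw [h1, toAlgebra_eq]
  rfl

/-- auxiliary: finiteness of the base change, with the algebra instance as an argument -/
def finOf (A B : Type u) [CommRing A] [CommRing B] [Algebra A B] (X : Type u)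
    [AddCommGroup X] [Module A X] : Prop :=
  Module.Finite B (B ⊗[A] X)

theorem finite_extendScalars_obj [inst : Algebra A B] (X : ModuleCat.{u} A) [Module.Finite A X] :
    Module.Finite B ((ModuleCat.extendScalars (algebraMap A B)).obj X) := by
  have h1 : Module.Finite B ((ModuleCat.extendScalars (algebraMap A B)).obj X) ↔
      @finOf A B _ _ (algebraMap A B).toAlgebra X _ _ := Iff.rfl
  rw [h1, toAlgebra_eq]
  unfold finOf
  infer_instance

end Bridge


section ToModuleCat

universe v w

variable {C : Type w} [Category.{v} C] [Abelian C] {R : Type u} [CommRing R]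
  {ι : Type*} {c : ComplexShape ι}
  (F : C ⥤ ModuleCat.{u} R) [F.PreservesZeroMorphisms] [PreservesFiniteColimits F]
  (K : HomologicalComplex C c) (j : ι)

theorem ιH_injective : Function.Injective (ιH F K (c.prev j) j rfl).hom :=
  (ModuleCat.mono_iff_injective _).1 inferInstance

theorem ιH_exact :
    Function.Exact (ιH F K (c.prev j) j rfl).hom (F.map (K.fromOpcycles j (c.next j))).hom := by
  intro w
  constructor
  · intro hw
    let x : ModuleCat.of R R ⟶ F.obj (K.opcycles j) := H4EW.θ _ w
    have hx : x ≫ F.map (K.fromOpcycles j (c.next j)) = 0 := by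
      rw [H4EW.θ_comp, hw]
      ext
      simp [H4EW.θ]
    obtain ⟨y, hy⟩ := exists_lift_ιH F K (c.prev j) j rfl (c.next j) rfl x hx
    refine ⟨y.hom (1 : R), ?_⟩
    have := congrArg (fun f => f.hom (1 : R)) hy
    simpa [x, H4EW.θ] using this
  · rintro ⟨t, rfl⟩
    have := congrArg (fun f => f.hom t) (ιH_comp F K (c.prev j) j rfl (c.next j))
    simpa using this

theorem fromOpcycles_pOpcycles (k : ι) : K.fromOpcycles j k ≫ K.pOpcycles k = 0 := by
  rw [← cancel_epi (K.pOpcycles j), K.p_fromOpcycles_assoc, K.d_pOpcycles, comp_zero]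

theorem map_pOpcycles_surjective_and_exact (k : ι) (hkj : c.prev k = j) :
    Function.Surjective (F.map (K.pOpcycles k)).hom ∧
      Function.Exact (F.map (K.fromOpcycles j k)).hom (F.map (K.pOpcycles k)).hom := by
  have hcok := mapOpcIsCokernel F K j k hkj
  let S : ShortComplex (ModuleCat.{u} R) :=
    ShortComplex.mk (F.map (K.d j k)) (F.map (K.pOpcycles k))
      (by rw [← F.map_comp, K.d_pOpcycles, F.map_zero])
  have hS : S.Exact := ShortComplex.exact_of_g_is_cokernel S hcok
  have hepi : Epi S.g := epi_of_isColimit_cofork hcok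
  refine ⟨(ModuleCat.epi_iff_surjective _).1 hepi, ?_⟩
  have hS' := (ShortComplex.ShortExact.moduleCat_exact_iff_function_exact S).1 hS
  intro x
  constructor
  · intro hx
    obtain ⟨y, hy⟩ := (hS' x).1 hx
    refine ⟨(F.map (K.pOpcycles j)).hom y, ?_⟩
    rw [← hy]
    change (F.map (K.pOpcycles j) ≫ F.map (K.fromOpcycles j k)).hom y = _
    rw [← F.map_comp, K.p_fromOpcycles]
  · rintro ⟨y, rfl⟩
    change (F.map (K.fromOpcycles j k) ≫ F.map (K.pOpcycles k)).hom y = 0
    rw [← F.map_comp, fromOpcycles_pOpcycles, F.map_zero]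
    rfl

end ToModuleCat

section Formula

variable {A : Type u} [CommRing A] {κ : Type u} [Field κ] [Algebra A κ] {ι : Type}
  {c : ComplexShape ι} (P : HomologicalComplex (ModuleCat.{u} A) c)

/-- The fibre dimension formula. -/
theorem finrank_homology_bcCx (j k : ι) (hjk : c.next j = k) (hkj : c.prev k = j)
    [Module.Finite A (P.X j)] [Module.Finite A (P.X k)] :
    Module.finrank κ ((bcCx (algebraMap A κ) P).homology j) + Module.finrank κ (κ ⊗[A] P.X k) =
      Module.finrank κ (κ ⊗[A] P.opcycles j) + Module.finrank κ (κ ⊗[A] P.opcycles k) := by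
  subst hjk
  have hW : Module.Finite A (P.opcycles j) :=
    Module.Finite.of_surjective (P.pOpcycles j).hom (pOpcycles_surjective P j)
  let F := ModuleCat.extendScalars.{u, u, u} (algebraMap A κ)
  have f1 : Module.Finite κ (F.obj (P.opcycles j)) := finite_extendScalars_obj _
  have f2 : Module.Finite κ (F.obj (P.X (c.next j))) := finite_extendScalars_obj _
  have h := map_pOpcycles_surjective_and_exact F P j (c.next j) hkj
  have key := finrank_fourTerm (ιH F P (c.prev j) j rfl).hom
    (F.map (P.fromOpcycles j (c.next j))).hom (F.map (P.pOpcycles (c.next j))).hom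
    (ιH_injective F P j) h.1 (ιH_exact F P j) h.2
  rw [← finrank_extendScalars_obj, ← finrank_extendScalars_obj, ← finrank_extendScalars_obj]
  exact key

end Formula

end Groth.Agent.H4FlatCx
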