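import Mathlib
import Groth.Prelude.Def_ega3
import Groth.Agent.Lib.helper4.FlatCx9
import Groth.Agent.Lib.helper4.FibreDim

/-!
# FlatCx, part 10: `dRank` in terms of fibre dimensions; semicontinuity
-/

set_option autoImplicit false
set_option linter.unusedSectionVars false
universe u

namespace Groth.Agent.H4FlatCx

open CategoryTheory Limits CohIII TensorProduct H4FibreDim

variable {A : Type u} [CommRing A] (P : ChainComplex (ModuleCat.{u} A) ℤ)

theorem dRank_add_fdim (p : ℤ) [Module.Finite A (P.X p)] [Module.Finite A (P.X (p - 1))]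
    (x : PrimeSpectrum A) :
    dRank P p x + fdim (P.X (p - 1)) x = fdim (P.opcycles p) x + fdim (P.opcycles (p - 1)) x :=
  finrank_homology_bcCx (κ := x.asIdeal.ResidueField) P p (p - 1) (by simp) (by simp)

theorem fdim_eq_rankAtStalk (X : Type u) [AddCommGroup X] [Module A X] [Module.Finite A X]
    [Module.Flat A X] (x : PrimeSpectrum A) : fdim X x = Module.rankAtStalk X x :=
  (Module.rankAtStalk_eq x).symm

theorem finite_opcycles (p : ℤ) [Module.Finite A (P.X p)] : Module.Finite A (P.opcycles p) :=
  Module.Finite.of_surjective (P.pOpcycles p).hom (pOpcycles_surjective P p)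

variable [IsNoetherianRing A]
  (hP : ∀ i, Module.Finite A (P.X i) ∧ Module.Flat A (P.X i))

include hP in
theorem eventually_fdim_X_eq (i : ℤ) (x : PrimeSpectrum A) :
    ∀ᶠ x' in nhds x, fdim (P.X i) x' = fdim (P.X i) x := by
  have := (hP i).1
  have := (hP i).2
  have : Module.FinitePresentation A (P.X i) := Module.finitePresentation_of_finite A _
  have hlc : IsLocallyConstant (Module.rankAtStalk (R := A) (P.X i)) :=
    Module.isLocallyConstant_rankAtStalk
  have := hlc.eventually_eq x
  filter_upwards [this] with x' hx'
  rw [fdim_eq_rankAtStalk, fdim_eq_rankAtStalk, hx']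

include hP in
theorem eventually_dRank_le (p : ℤ) (x : PrimeSpectrum A) :
    ∀ᶠ x' in nhds x, dRank P p x' ≤ dRank P p x := by
  have := (hP p).1
  have := (hP (p - 1)).1
  have := finite_opcycles P p
  have := finite_opcycles P (p - 1)
  filter_upwards [eventually_fdim_X_eq P hP (p - 1) x, eventually_fdim_le (P.opcycles p) x,
    eventually_fdim_le (P.opcycles (p - 1)) x] with x' h1 h2 h3
  have e1 := dRank_add_fdim P p x
  have e2 := dRank_add_fdim P p x'
  omega

include hP in
theorem dRank_upperSemicontinuous (p : ℤ) : UpperSemicontinuous (dRank P p) := by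
  intro x y hy
  filter_upwards [eventually_dRank_le P hP p x] with x' hx'
  exact lt_of_le_of_lt hx' hy

end Groth.Agent.H4FlatCx
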