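import Mathlib
import Groth.Prelude.Def_ega3
import Groth.Agent.Lib.helper4.FlatCx10

/-!
# FlatCx, part 11: base change of the complex; the honest base change functor
-/

set_option autoImplicit false
set_option linter.unusedSectionVars false
universe u

namespace Groth.Agent.H4FlatCx

open CategoryTheory Limits CohIII TensorProduct

/-- honest base change functor `M ↦ B ⊗[A] M` -/
noncomputable def bcFun (A B : Type u) [CommRing A] [CommRing B] [Algebra A B] :
    ModuleCat.{u} A ⥤ ModuleCat.{u} B where
  obj M := ModuleCat.of B (B ⊗[A] M)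
  map g := ModuleCat.ofHom (g.hom.baseChange B)
  map_id M := by ext : 1; simp
  map_comp f g := by ext : 1; simp [LinearMap.baseChange_comp]

variable {A B : Type u} [CommRing A] [CommRing B]

theorem extendScalars_eq_bcFun_toAlgebra (φ : A →+* B) :
    ModuleCat.extendScalars.{u,u,u} φ = @bcFun A B _ _ φ.toAlgebra := rfl

theorem extendScalars_eq_bcFun [Algebra A B] :
    ModuleCat.extendScalars.{u,u,u} (algebraMap A B) = bcFun A B := by
  rw [extendScalars_eq_bcFun_toAlgebra, toAlgebra_eq]

variable [Algebra A B]

theorem flat_extendScalars_obj_iff (X : ModuleCat.{u} A) :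
    Module.Flat B ((ModuleCat.extendScalars.{u,u,u} (algebraMap A B)).obj X) ↔
      Module.Flat B (B ⊗[A] X) := by
  rw [extendScalars_eq_bcFun]
  rfl

variable {ι : Type} {c : ComplexShape ι} (P : HomologicalComplex (ModuleCat.{u} A) c)

theorem flat_bcCx_X (i : ι) [Module.Flat A (P.X i)] :
    Module.Flat B ((bcCx (algebraMap A B) P).X i) := by
  change Module.Flat B ((ModuleCat.extendScalars.{u,u,u} (algebraMap A B)).obj (P.X i))
  rw [flat_extendScalars_obj_iff]
  infer_instance

theorem flat_opcycles_bcCx_iff (j : ι) :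
    Module.Flat B ((bcCx (algebraMap A B) P).opcycles j) ↔ Module.Flat B (B ⊗[A] P.opcycles j) := by
  rw [← flat_extendScalars_obj_iff]
  exact Module.Flat.equiv_iff
    (mapOpcIso (ModuleCat.extendScalars.{u,u,u} (algebraMap A B)) P (c.prev j) j rfl).toLinearEquiv


section ChainBC

variable (P : ChainComplex (ModuleCat.{u} A) ℤ) (hP : ∀ i, Module.Flat A (P.X i))

include hP in
theorem flat_bcCx_X' (i : ℤ) : Module.Flat B ((bcCx (algebraMap A B) P).X i) := by
  have := hP i
  exact flat_bcCx_X P i

include hP in
theorem preservesMono_bcCx_iff (p : ℤ) :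
    (TFun (bcCx (algebraMap A B) P) p).PreservesMonomorphisms ↔
      Module.Flat B (B ⊗[A] P.opcycles p) := by
  rw [preservesMono_iff_flat_opcycles (bcCx (algebraMap A B) P) (p + 1) p (by simp) (p - 1)
    (by simp) (flat_bcCx_X' P hP (p - 1)), flat_opcycles_bcCx_iff]

include hP in
theorem preservesEpi_bcCx_iff (p : ℤ) :
    (TFun (bcCx (algebraMap A B) P) p).PreservesEpimorphisms ↔
      Module.Flat B (B ⊗[A] P.opcycles (p - 1)) := by
  rw [preservesEpi_iff_preservesMono (bcCx (algebraMap A B) P) (flat_bcCx_X' P hP) p (p - 1)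
    (by simp), preservesMono_bcCx_iff P hP]

include hP in
theorem preservesMono_iff' (p : ℤ) :
    (TFun P p).PreservesMonomorphisms ↔ Module.Flat A (P.opcycles p) :=
  preservesMono_iff_flat_opcycles P (p + 1) p (by simp) (p - 1) (by simp) (hP (p - 1))

include hP in
theorem preservesEpi_iff' (p : ℤ) :
    (TFun P p).PreservesEpimorphisms ↔ Module.Flat A (P.opcycles (p - 1)) := by
  rw [preservesEpi_iff_preservesMono P hP p (p - 1) (by simp), preservesMono_iff' P hP]

end ChainBC

end Groth.Agent.H4FlatCx
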