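import Mathlib
import Groth.Prelude.Def_ega3
import Groth.Agent.Lib.helper4.FlatCx11

/-!
# Bounded above acyclic complexes of flat modules stay acyclic after tensoring; quasi-isomorphisms
of bounded above flat complexes are preserved by tensoring
-/

set_option autoImplicit false
set_option linter.unusedSectionVars false
universe u

namespace Groth.Agent.H4Qis

open CategoryTheory Limits MonoidalCategory TensorProduct CohIII Groth.Agent.H4FlatCx

section Acyclic

variable {A : Type u} [CommRing A] (K : CochainComplex (ModuleCat.{u} A) ℤ)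
  (hK : ∀ i, Module.Flat A (K.X i))

include hK in
theorem flat_opcycles_of_acyclic (b : ℤ) (hb : ∀ i, b < i → IsZero (K.X i)) (hac : K.Acyclic) :
    ∀ n, Module.Flat A (K.opcycles n) := by
  have main : ∀ m : ℕ, ∀ n : ℤ, b - m < n → Module.Flat A (K.opcycles n) := by
    intro m
    induction m with
    | zero =>
      intro n hn
      have := subsingleton_opcycles_of_isZero K n (hb n (by simpa using hn))
      infer_instance
    | succ m ih =>
      intro n hn
      by_cases hlt : b - m < n
      · exact ih n hlt
      · have h1 : Module.Flat A (K.opcycles (n + 1)) := ih (n + 1) (by push_cast at hn; omega)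
        have h2 : Module.Flat A (K.X (n + 1)) := hK (n + 1)
        have h3 : Module.Flat A (K.homology n) := by
          have := ModuleCat.subsingleton_of_isZero (hac n).isZero_homology
          infer_instance
        exact flat_opcycles_of_flat K n (n + 1) (by simp) (by simp)
  intro n
  exact main ((b - n).toNat + 1) n (by push_cast; omega)

include hK in
theorem isZero_T_of_acyclic (b : ℤ) (hb : ∀ i, b < i → IsZero (K.X i)) (hac : K.Acyclic)
    (n : ℤ) (M : ModuleCat.{u} A) : IsZero (T K n M) := by
  have hfl := flat_opcycles_of_acyclic K hK b hb hac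
  have hmono : ∀ j, (TFun K j).PreservesMonomorphisms := fun j =>
    (preservesMono_iff_flat_opcycles K (j - 1) j (by simp) (j + 1) (by simp) (hK (j + 1))).2 (hfl j)
  have hepi : (TFun K n).PreservesEpimorphisms :=
    (preservesEpi_iff_preservesMono K hK n (n + 1) (by simp)).2 (hmono (n + 1))
  obtain ⟨e⟩ := nonempty_iso_tensorLeft_of_preservesEpi K hK n hepi
  have h0 : IsZero ((TFun K n).obj (ModuleCat.of A A)) :=
    (hac n).isZero_homology.of_iso (TUnitIso K n)
  have hs : Subsingleton ((TFun K n).obj (ModuleCat.of A A)) := ModuleCat.subsingleton_of_isZero h0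
  have hs2 : Subsingleton ((tensorLeft ((TFun K n).obj (ModuleCat.of A A))).obj M) := by
    change Subsingleton (TensorProduct A ((TFun K n).obj (ModuleCat.of A A)) M)
    infer_instance
  have h1 : IsZero ((tensorLeft ((TFun K n).obj (ModuleCat.of A A))).obj M) :=
    ModuleCat.isZero_of_subsingleton _
  exact h1.of_iso (e.app M)

include hK in
theorem acyclic_tensorObj (b : ℤ) (hb : ∀ i, b < i → IsZero (K.X i)) (hac : K.Acyclic)
    (M : ModuleCat.{u} A) : (tensorObj K M).Acyclic := by
  intro n
  rw [HomologicalComplex.exactAt_iff_isZero_homology]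
  exact isZero_T_of_acyclic K hK b hb hac n M

end Acyclic

section Cone

open CochainComplex HomotopyCategory Pretriangulated

variable {C : Type*} [Category C] [Abelian C]

theorem quasiIso_iff_acyclic_mappingCone {K L : CochainComplex C ℤ} (f : K ⟶ L) :
    QuasiIso f ↔ (mappingCone f).Acyclic := by
  rw [← HomologicalComplex.mem_quasiIso_iff, ← HomotopyCategory.quotient_map_mem_quasiIso_iff,
    HomotopyCategory.quasiIso_eq_trW_subcategoryAcyclic,
    ← HomotopyCategory.quotient_obj_mem_subcategoryAcyclic_iff_acyclic]
  exact (subcategoryAcyclic C).trW_iff_of_distinguished _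
    (HomotopyCategory.mappingCone_triangleh_distinguished f)

theorem acyclic_of_iso {K L : CochainComplex C ℤ} (e : K ≅ L) (h : K.Acyclic) : L.Acyclic := by
  intro n
  rw [HomologicalComplex.exactAt_iff_isZero_homology]
  exact (h n).isZero_homology.of_iso
    ((HomologicalComplex.homologyFunctor C _ n).mapIso e.symm)

end Cone

section ConeFlat

open CochainComplex

variable {A : Type u} [CommRing A]

theorem flat_prod (M N : Type u) [AddCommGroup M] [AddCommGroup N] [Module A M] [Module A N]
    [Module.Flat A M] [Module.Flat A N] : Module.Flat A (M × N) :=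
  H4FlatSES.flat_of_flat_of_flat_middle (LinearMap.inl A M N) (LinearMap.snd A M N)
    LinearMap.inl_injective LinearMap.snd_surjective .inl_snd

variable {C D : CochainComplex (ModuleCat.{u} A) ℤ} (φ : C ⟶ D)

theorem flat_mappingCone_X (hC : ∀ i, Module.Flat A (C.X i)) (hD : ∀ i, Module.Flat A (D.X i))
    (i : ℤ) : Module.Flat A ((mappingCone φ).X i) := by
  have := hC (i + 1)
  have := hD i
  have := flat_prod (A := A) (C.X (i + 1)) (D.X i)
  let e : (mappingCone φ).X i ≅ ModuleCat.of A (C.X (i + 1) × D.X i) :=
    HomologicalComplex.homotopyCofiber.XIsoBiprod φ i (i + 1) (by simp) ≪≫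
      ModuleCat.biprodIsoProd _ _
  exact Module.Flat.of_linearEquiv e.toLinearEquiv

theorem isZero_mappingCone_X (b : ℤ) (hC : ∀ i, b < i → IsZero (C.X i))
    (hD : ∀ i, b < i → IsZero (D.X i)) (i : ℤ) (hi : b < i) : IsZero ((mappingCone φ).X i) := by
  refine HomologicalComplex.homotopyCofiber.isZero_X φ i (hD i hi) ?_
  · intro j hj
    simp only [ComplexShape.up_Rel] at hj
    exact hC j (by omega)

/-- Tensoring with any module preserves quasi-isomorphisms between bounded above complexes of
flat modules. -/
theorem quasiIso_tensor (hC : ∀ i, Module.Flat A (C.X i)) (hD : ∀ i, Module.Flat A (D.X i))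
    (bC : ∃ b : ℤ, ∀ i, b < i → IsZero (C.X i)) (bD : ∃ b : ℤ, ∀ i, b < i → IsZero (D.X i))
    [QuasiIso φ] (M : ModuleCat.{u} A) :
    QuasiIso (((tensorRight M).mapHomologicalComplex (ComplexShape.up ℤ)).map φ) := by
  obtain ⟨b₁, hb₁⟩ := bC
  obtain ⟨b₂, hb₂⟩ := bD
  rw [quasiIso_iff_acyclic_mappingCone]
  have hac : (mappingCone φ).Acyclic := (quasiIso_iff_acyclic_mappingCone φ).1 inferInstance
  have h1 := acyclic_tensorObj (mappingCone φ) (flat_mappingCone_X φ hC hD) (max b₁ b₂)
    (isZero_mappingCone_X φ (max b₁ b₂) (fun i hi => hb₁ i (lt_of_le_of_lt (le_max_left _ _) hi))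
      (fun i hi => hb₂ i (lt_of_le_of_lt (le_max_right _ _) hi))) hac M
  exact acyclic_of_iso (mappingCone.mapHomologicalComplexIso φ (tensorRight M)) h1

end ConeFlat

end Groth.Agent.H4Qis
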