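import Mathlib
import Groth.Agent.Lib.helper1.FpqcDescent

/-!
# fpqc descent of affine / quasi-affine morphisms (helper4)
-/

set_option autoImplicit false
universe u
open CategoryTheory CategoryTheory.Limits AlgebraicGeometry MorphismProperty

namespace H4AffDesc

/-- Flat base change for global sections of a qcqs scheme, in `Spec` form. -/
theorem isPullback_Spec_appTop {R S : CommRingCat.{u}} (φ : R ⟶ S) [Flat (Spec.map φ)]
    {Y : Scheme.{u}} (g : Y ⟶ Spec R) [CompactSpace Y] [QuasiSeparatedSpace Y] :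
    IsPullback (Spec.map (pullback.fst (Spec.map φ) g).appTop)
      (Spec.map (pullback.snd (Spec.map φ) g).appTop)
      (Spec.map (Spec.map φ).appTop) (Spec.map g.appTop) := by
  have H : IsPullback (pullback.snd (Spec.map φ) g) (pullback.fst (Spec.map φ) g) g
      (Spec.map φ) := (IsPullback.of_hasPullback (Spec.map φ) g).flip
  have hiso := isIso_pushoutSection_of_isQuasiSeparated_of_flat_right H
    (US := ⊤) (UT := ⊤) (UX := ⊤) (UY := ⊤) le_top le_top (by simp)
    (isAffineOpen_top _) (isAffineOpen_top _) isCompact_univ isQuasiSeparated_univ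
  have hpo := (isIso_pushoutSection_iff H (US := ⊤) (UT := ⊤) (UX := ⊤) (UY := ⊤)
    le_top le_top (by simp)).mp hiso
  have hpb := hpo.op.map Scheme.Spec
  have e1 : ∀ {A B : Scheme.{u}} (h : A ⟶ B) (e : (⊤ : A.Opens) ≤ h ⁻¹ᵁ ⊤),
      h.appLE ⊤ ⊤ e = h.appTop := by
    intro A B h e
    simp [Scheme.Hom.appLE, Scheme.Hom.appTop]
  simp only [e1] at hpb
  exact hpb

/-- For `Y` qcqs over `Spec R` and `R → S` flat, the canonical map `P → Spec Γ(P)` of
`P = Spec S ×_{Spec R} Y` is the base change of `Y → Spec Γ(Y)`. -/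
theorem isPullback_toSpecΓ {R S : CommRingCat.{u}} (φ : R ⟶ S) [Flat (Spec.map φ)]
    {Y : Scheme.{u}} (g : Y ⟶ Spec R) [CompactSpace Y] [QuasiSeparatedSpace Y] :
    IsPullback (pullback (Spec.map φ) g).toSpecΓ (pullback.snd (Spec.map φ) g)
      (Spec.map (pullback.snd (Spec.map φ) g).appTop) Y.toSpecΓ := by
  have hpb := isPullback_Spec_appTop φ g
  have hsq : IsPullback (Spec S).toSpecΓ (Spec.map φ) (Spec.map (Spec.map φ).appTop)
      (Spec R).toSpecΓ :=
    IsPullback.of_horiz_isIso ⟨(Scheme.toSpecΓ_naturality (Spec.map φ)).symm⟩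
  have hout := (IsPullback.of_hasPullback (Spec.map φ) g).paste_horiz hsq
  rw [Scheme.toSpecΓ_naturality, Scheme.toSpecΓ_naturality] at hout
  exact IsPullback.of_right hout (Scheme.toSpecΓ_naturality _).symm hpb

/-- The map `Spec Γ(P) → Spec Γ(Y)` is fpqc when `Spec S → Spec R` is. -/
theorem fpqc_Spec_snd_appTop {R S : CommRingCat.{u}} (φ : R ⟶ S) [Flat (Spec.map φ)]
    [Surjective (Spec.map φ)]
    {Y : Scheme.{u}} (g : Y ⟶ Spec R) [CompactSpace Y] [QuasiSeparatedSpace Y] :
    (@Surjective ⊓ @Flat ⊓ @QuasiCompact : MorphismProperty Scheme.{u})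
      (Spec.map (pullback.snd (Spec.map φ) g).appTop) := by
  have hpb := isPullback_Spec_appTop φ g
  have h1 : (@Surjective ⊓ @Flat ⊓ @QuasiCompact : MorphismProperty Scheme.{u})
      (Spec.map (Spec.map φ).appTop) := by
    have h2 : (@Surjective ⊓ @Flat ⊓ @QuasiCompact : MorphismProperty Scheme.{u})
        ((Spec S).toSpecΓ ≫ Spec.map (Spec.map φ).appTop) := by
      rw [← Scheme.toSpecΓ_naturality]
      exact ⟨⟨inferInstance, inferInstance⟩, inferInstance⟩
    exact (MorphismProperty.cancel_left_of_respectsIso _ _ _).mp h2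
  exact MorphismProperty.of_isPullback hpb h1

/-- Descent of a property of `toSpecΓ` along a faithfully flat ring map. -/
theorem toSpecΓ_descent (P : MorphismProperty Scheme.{u})
    [P.DescendsAlong (@Surjective ⊓ @Flat ⊓ @QuasiCompact : MorphismProperty Scheme.{u})]
    {R S : CommRingCat.{u}} (φ : R ⟶ S) [Flat (Spec.map φ)] [Surjective (Spec.map φ)]
    {Y : Scheme.{u}} (g : Y ⟶ Spec R) [CompactSpace Y] [QuasiSeparatedSpace Y]
    (hP : P (pullback (Spec.map φ) g).toSpecΓ) : P Y.toSpecΓ :=
  MorphismProperty.of_isPullback_of_descendsAlong (isPullback_toSpecΓ φ g)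
    (fpqc_Spec_snd_appTop φ g) hP

lemma compactSpace_of_surjective {X Y : Scheme.{u}} (f : X ⟶ Y) [Surjective f] [CompactSpace X] :
    CompactSpace Y :=
  ⟨by rw [← Set.range_eq_univ.mpr f.surjective]; exact isCompact_range f.continuous⟩

/-- Affine morphisms satisfy fpqc descent. -/
theorem isAffineHom_descendsAlong :
    MorphismProperty.DescendsAlong @IsAffineHom
      (@Surjective ⊓ @Flat ⊓ @QuasiCompact : MorphismProperty Scheme.{u}) := by
  refine IsZariskiLocalAtTarget.descendsAlong_inf_quasiCompact _ _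
    Groth.Agent.Lib.helper1.isLocalIso_inf_surjective_le ?_
  intro R S Y φ g ⟨hsurj, hflat⟩ (hfst : IsAffineHom (pullback.fst (Spec.map φ) g))
  have : Surjective (Spec.map φ) := hsurj
  have : Flat (Spec.map φ) := hflat
  have hPaff : IsAffine (pullback (Spec.map φ) g) :=
    isAffine_of_isAffineHom (pullback.fst (Spec.map φ) g)
  have : CompactSpace Y := compactSpace_of_surjective (pullback.snd (Spec.map φ) g)
  have : QuasiSeparatedSpace Y := by
    have h1 : QuasiSeparated (pullback.fst (Spec.map φ) g) := inferInstance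
    have := Groth.Agent.Lib.helper1.quasiSeparated_descendsAlong.{u}
    have h2 : QuasiSeparated g := MorphismProperty.of_pullback_fst_of_descendsAlong
      (P := @QuasiSeparated)
      (Q := (@Surjective ⊓ @Flat ⊓ @QuasiCompact : MorphismProperty Scheme.{u}))
      ⟨⟨hsurj, hflat⟩, inferInstance⟩ h1
    exact quasiSeparatedSpace_of_quasiSeparated g
  have h3 : IsIso Y.toSpecΓ :=
    toSpecΓ_descent (MorphismProperty.isomorphisms Scheme.{u}) φ g
      (inferInstanceAs (IsIso (pullback (Spec.map φ) g).toSpecΓ))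
  have : IsAffine Y := ⟨h3⟩
  infer_instance

/-- Integral morphisms satisfy fpqc descent. -/
theorem isIntegralHom_descendsAlong :
    MorphismProperty.DescendsAlong @IsIntegralHom
      (@Surjective ⊓ @Flat ⊓ @QuasiCompact : MorphismProperty Scheme.{u}) := by
  rw [IsIntegralHom.eq_universallyClosed_inf_isAffineHom]
  have := isAffineHom_descendsAlong.{u}
  infer_instance

end H4AffDesc
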