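import Mathlib

/-!
# Descent along a finite jointly surjective family of flat maps of affine schemes (helper4)
-/

set_option autoImplicit false
universe u
open CategoryTheory CategoryTheory.Limits AlgebraicGeometry MorphismProperty

namespace H4FFD

/-- Descent along a finite jointly surjective family of flat maps from affine schemes to an
affine scheme: if `P` is Zariski-local at the target and satisfies fpqc descent, then `P g` can be
checked after base change along each member of the family. -/
theorem of_finite_family (P : MorphismProperty Scheme.{u}) [IsZariskiLocalAtTarget P]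
    [P.DescendsAlong (@Surjective ⊓ @Flat ⊓ @QuasiCompact : MorphismProperty Scheme.{u})]
    {Z Y : Scheme.{u}} [IsAffine Z] (g : Y ⟶ Z)
    {σ : Type u} [Finite σ] (W : σ → Scheme.{u}) [∀ j, IsAffine (W j)]
    (p : ∀ j, W j ⟶ Z) [∀ j, Flat (p j)]
    (hsurj : ∀ z : Z, ∃ j, z ∈ Set.range (p j))
    (Q : σ → Scheme.{u}) (fst : ∀ j, Q j ⟶ W j) (snd : ∀ j, Q j ⟶ Y)
    (H : ∀ j, IsPullback (fst j) (snd j) (p j) g)
    (hP : ∀ j, P (fst j)) : P g := by
  let q : ∐ W ⟶ Z := Sigma.desc p
  have hq : ∀ j, Sigma.ι W j ≫ q = p j := fun j => Sigma.ι_desc _ _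
  have hflat : Flat q := by
    rw [IsZariskiLocalAtSource.iff_of_openCover (P := @Flat) (sigmaOpenCover W)]
    intro j
    show Flat (Sigma.ι W j ≫ q)
    rw [hq]; infer_instance
  have hs : Surjective q := by
    refine ⟨fun z => ?_⟩
    obtain ⟨j, w, hw⟩ := hsurj z
    refine ⟨Sigma.ι W j w, ?_⟩
    rw [← Scheme.Hom.comp_apply, hq, hw]
  have hqc : QuasiCompact q := inferInstance
  have hfst : P (pullback.fst q g) := by
    rw [IsZariskiLocalAtTarget.iff_of_openCover (P := P) (sigmaOpenCover W)]
    intro j
    have h1 := (IsPullback.of_hasPullback (pullback.fst q g) (Sigma.ι W j)).paste_horiz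
      (IsPullback.of_hasPullback q g).flip
    rw [hq] at h1
    show P (pullback.snd (pullback.fst q g) (Sigma.ι W j))
    rw [← IsPullback.isoIsPullback_hom_fst _ _ h1.flip (H j), P.cancel_left_of_respectsIso]
    exact hP j
  exact MorphismProperty.of_pullback_fst_of_descendsAlong
    (Q := (@Surjective ⊓ @Flat ⊓ @QuasiCompact : MorphismProperty Scheme.{u}))
    ⟨⟨hs, hflat⟩, hqc⟩ hfst

end H4FFD
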