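import Mathlib

/-!
# fpqc descent of quasi-compact immersions, fppf descent of immersions (helper4)
-/

set_option autoImplicit false
universe u
open CategoryTheory CategoryTheory.Limits AlgebraicGeometry MorphismProperty

namespace H4ImmDesc

variable {X Y Z : Scheme.{u}}

/-- The map to the scheme theoretic image of a quasi-compact morphism is schematically dominant. -/
lemma isSchemeTheoreticallyDominant_toImage (f : X ⟶ Y) [QuasiCompact f] :
    IsSchemeTheoreticallyDominant f.toImage := by
  rw [isSchemeTheoreticallyDominant_iff]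
  refine Scheme.IdealSheafData.ext_of_iSup_eq_top (ι := Y.affineOpens)
    (fun U => ⟨f.imageι ⁻¹ᵁ U.1, U.2.preimage f.imageι⟩) ?_ ?_
  · have : (⨆ U : Y.affineOpens, f.imageι ⁻¹ᵁ U.1) = f.imageι ⁻¹ᵁ (⨆ U : Y.affineOpens, U.1) := by
      rw [Scheme.Hom.preimage_iSup]
    rw [this, iSup_affineOpens_eq_top]
    rfl
  · intro U
    rw [Scheme.Hom.ker_apply]
    simp only [Scheme.IdealSheafData.ideal_bot, Pi.bot_apply]
    exact (RingHom.injective_iff_ker_eq_bot _).mp (f.toImage_app_injective U)

/-- A quasi-compact schematically dominant immersion is an open immersion. -/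
lemma isOpenImmersion_of_isImmersion (f : X ⟶ Y) [IsImmersion f] [QuasiCompact f]
    [IsSchemeTheoreticallyDominant f] : IsOpenImmersion f := by
  have : IsIso f.imageι := (Scheme.isIso_subschemeι_iff_eq_bot _).mpr f.ker_eq_bot
  rw [← f.toImage_imageι]
  infer_instance

/-- Quasi-compactness descends along surjective quasi-compact morphisms. -/
lemma quasiCompact_of_isPullback {A : Scheme.{u}} {fst : A ⟶ X} {snd : A ⟶ Y} {f : X ⟶ Z}
    {g : Y ⟶ Z} (H : IsPullback fst snd f g) [Surjective f] [QuasiCompact f] [QuasiCompact fst] :
    QuasiCompact g := by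
  refine ⟨fun U hU hUc => ?_⟩
  have h1 : (g ⁻¹' U : Set Y) = snd '' (fst ⁻¹' (f ⁻¹' U)) := by
    rw [Scheme.image_preimage_eq_of_isPullback H, Set.image_preimage_eq _ f.surjective]
  rw [h1]
  have h2 : IsCompact (f ⁻¹' U : Set X) := QuasiCompact.isCompact_preimage (f := f) U hU hUc
  have h3 : IsCompact (fst ⁻¹' (f ⁻¹' U) : Set A) :=
    QuasiCompact.isCompact_preimage (f := fst) _ (hU.preimage f.continuous) h2
  exact h3.image snd.continuous

/-- fpqc descent of quasi-compact immersions (canonical pullback form). -/
theorem isImmersion_of_pullback_fst (f : X ⟶ Z) (g : Y ⟶ Z) [Surjective f] [Flat f] [QuasiCompact f]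
    [IsImmersion (pullback.fst f g)] [QuasiCompact (pullback.fst f g)] :
    IsImmersion g ∧ QuasiCompact g := by
  have hqc : QuasiCompact g := quasiCompact_of_isPullback (IsPullback.of_hasPullback f g)
  refine ⟨?_, hqc⟩
  have hdom : IsSchemeTheoreticallyDominant g.toImage := isSchemeTheoreticallyDominant_toImage g
  let h : pullback f g ⟶ pullback f g.imageι :=
    pullback.lift (pullback.fst f g) (pullback.snd f g ≫ g.toImage)
      (by rw [Category.assoc, g.toImage_imageι, pullback.condition])
  have h1 : h ≫ pullback.fst f g.imageι = pullback.fst f g := pullback.lift_fst _ _ _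
  have h2 : h ≫ pullback.snd f g.imageι = pullback.snd f g ≫ g.toImage := pullback.lift_snd _ _ _
  have hpb : IsPullback h (pullback.snd f g) (pullback.snd f g.imageι) g.toImage := by
    refine IsPullback.of_right ?_ h2 (IsPullback.of_hasPullback f g.imageι)
    rw [h1, g.toImage_imageι]
    exact IsPullback.of_hasPullback f g
  have : IsSchemeTheoreticallyDominant h := IsSchemeTheoreticallyDominant.of_isPullback hpb.flip
  have : IsImmersion (h ≫ pullback.fst f g.imageι) := by rw [h1]; infer_instance
  have : IsImmersion h := IsImmersion.of_comp h (pullback.fst f g.imageι)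
  have : QuasiCompact (h ≫ pullback.fst f g.imageι) := by rw [h1]; infer_instance
  have : QuasiCompact h := QuasiCompact.of_comp h (pullback.fst f g.imageι)
  have : IsOpenImmersion h := isOpenImmersion_of_isImmersion h
  have : IsOpenImmersion g.toImage :=
    MorphismProperty.of_isPullback_of_descendsAlong (P := @IsOpenImmersion)
      (Q := @Surjective ⊓ @Flat ⊓ @QuasiCompact) hpb
      ⟨⟨inferInstance, inferInstance⟩, inferInstance⟩ this
  rw [← g.toImage_imageι]
  infer_instance

/-- fpqc descent of quasi-compact immersions. -/
theorem descendsAlong_fpqc :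
    MorphismProperty.DescendsAlong (@IsImmersion ⊓ @QuasiCompact : MorphismProperty Scheme.{u})
      (@Surjective ⊓ @Flat ⊓ @QuasiCompact : MorphismProperty Scheme.{u}) := by
  apply MorphismProperty.DescendsAlong.mk'
  intro X Y Z f g _ hf hfst
  obtain ⟨⟨hf1, hf2⟩, hf3⟩ := hf
  obtain ⟨h1, h2⟩ := hfst
  have : Surjective f := hf1
  have : Flat f := hf2
  have : QuasiCompact f := hf3
  have : IsImmersion (pullback.fst f g) := h1
  have : QuasiCompact (pullback.fst f g) := h2
  exact isImmersion_of_pullback_fst f g

/-- fppf descent of quasi-compact immersions. -/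
theorem descendsAlong_fppf :
    MorphismProperty.DescendsAlong (@IsImmersion ⊓ @QuasiCompact : MorphismProperty Scheme.{u})
      (@Surjective ⊓ @Flat ⊓ @LocallyOfFinitePresentation : MorphismProperty Scheme.{u}) := by
  have := descendsAlong_fpqc.{u}
  infer_instance

/-- fppf descent of immersions (canonical pullback form). -/
theorem isImmersion_of_pullback_fst_fppf (f : X ⟶ Z) (g : Y ⟶ Z) [Surjective f] [Flat f]
    [LocallyOfFinitePresentation f] [IsImmersion (pullback.fst f g)] : IsImmersion g := by
  have hopen : IsOpenMap f := f.isOpenMap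
  have hq : Topology.IsQuotientMap f := hopen.isQuotientMap f.continuous f.surjective
  set R : Set Z := Set.range g with hR
  have hT : IsClosed (closure R \ R) := by
    rw [← hq.isClosed_preimage]
    have h1 : f ⁻¹' (closure R \ R) =
        closure (Set.range (pullback.fst f g)) \ Set.range (pullback.fst f g) := by
      rw [Scheme.Pullback.range_fst, Set.preimage_sdiff,
        hopen.preimage_closure_eq_closure_preimage f.continuous]
    rw [h1]
    have h2 : IsOpen (coborder (Set.range (pullback.fst f g))) :=
      (pullback.fst f g).isLocallyClosed_range.isOpen_coborder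
    have h3 : closure (Set.range (pullback.fst f g)) \ Set.range (pullback.fst f g) =
        (coborder (Set.range (pullback.fst f g)))ᶜ := by
      rw [coborder, compl_compl]
    rw [h3]
    exact h2.isClosed_compl
  let U : Z.Opens := ⟨(closure R \ R)ᶜ, hT.isOpen_compl⟩
  have hRU : Set.range g ⊆ (U : Set Z) := fun z hz h => h.2 hz
  let gU : Y ⟶ U := IsOpenImmersion.lift U.ι g (by simpa using hRU)
  have hgU : gU ≫ U.ι = g := IsOpenImmersion.lift_fac _ _ _
  let f' := pullback.snd f U.ι
  have himm : IsImmersion (pullback.fst f' gU) := by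
    have h1 : IsImmersion (pullback.fst f (gU ≫ U.ι)) := by rwa [hgU]
    have h2 : IsImmersion (pullback.fst f' gU ≫ pullback.fst f U.ι) := by
      rw [← pullbackLeftPullbackSndIso_hom_fst]
      infer_instance
    exact IsImmersion.of_comp _ (pullback.fst f U.ι)
  have hclosed : IsClosed (Set.range (pullback.fst f' gU)) := by
    rw [Scheme.Pullback.range_fst]
    apply IsClosed.preimage f'.continuous
    have h1 : Set.range gU = U.ι ⁻¹' closure R := by
      ext p
      constructor
      · rintro ⟨y, rfl⟩
        refine subset_closure ⟨y, ?_⟩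
        rw [← hgU]; rfl
      · intro hp
        have hpR : U.ι p ∈ R := by
          by_contra hn
          exact p.2 ⟨hp, hn⟩
        obtain ⟨y, hy⟩ := hpR
        refine ⟨y, ?_⟩
        apply U.ι.injective
        rw [← hy, ← hgU]; rfl
    rw [h1]
    exact isClosed_closure.preimage U.ι.continuous
  have hci : IsClosedImmersion (pullback.fst f' gU) := .of_isPreimmersion _ hclosed
  have := descendsAlong_fppf.{u}
  have h5 := MorphismProperty.of_pullback_fst_of_descendsAlong
    (P := (@IsImmersion ⊓ @QuasiCompact : MorphismProperty Scheme.{u}))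
    (Q := (@Surjective ⊓ @Flat ⊓ @LocallyOfFinitePresentation : MorphismProperty Scheme.{u}))
    (f := f') (g := gU) ⟨⟨inferInstance, inferInstance⟩, inferInstance⟩
    ⟨inferInstance, inferInstance⟩
  have : IsImmersion gU := h5.1
  rw [← hgU]
  infer_instance

end H4ImmDesc
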