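import Mathlib
import Groth.Agent.Lib.helper1.FpqcDescent
import Groth.Agent.Lib.helper4.AffDescent
import Groth.Agent.Lib.helper4.ImmDescent
import Groth.Agent.Lib.helper4.FinFamDescent

/-!
# fpqc descent of quasi-affine morphisms (helper4)
-/

set_option autoImplicit false
universe u
open CategoryTheory CategoryTheory.Limits AlgebraicGeometry MorphismProperty

namespace H4QAffDesc

/-- Flat base change for global sections of a qcqs scheme, for a general pullback square over
affine schemes. -/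
theorem isPullback_Spec_appTop' {T S P Y : Scheme.{u}} [IsAffine T] [IsAffine S]
    {fst : P ⟶ T} {snd : P ⟶ Y} {p : T ⟶ S} {g : Y ⟶ S} (H : IsPullback fst snd p g) [Flat p]
    [CompactSpace Y] [QuasiSeparatedSpace Y] :
    IsPullback (Spec.map fst.appTop) (Spec.map snd.appTop) (Spec.map p.appTop)
      (Spec.map g.appTop) := by
  have H' : IsPullback snd fst g p := H.flip
  have hiso := isIso_pushoutSection_of_isQuasiSeparated_of_flat_right H'
    (US := ⊤) (UT := ⊤) (UX := ⊤) (UY := ⊤) le_top le_top (by simp)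
    (isAffineOpen_top _) (isAffineOpen_top _) isCompact_univ isQuasiSeparated_univ
  have hpo := (isIso_pushoutSection_iff H' (US := ⊤) (UT := ⊤) (UX := ⊤) (UY := ⊤)
    le_top le_top (by simp)).mp hiso
  have hpb := hpo.op.map Scheme.Spec
  have e1 : ∀ {A B : Scheme.{u}} (h : A ⟶ B) (e : (⊤ : A.Opens) ≤ h ⁻¹ᵁ ⊤),
      h.appLE ⊤ ⊤ e = h.appTop := by
    intro A B h e
    simp [Scheme.Hom.appLE, Scheme.Hom.appTop]
  simp only [e1] at hpb
  exact hpb

/-- `P → Spec Γ(P)` is the base change of `Y → Spec Γ(Y)`, for a general pullback square over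
affine schemes with flat bottom map. -/
theorem isPullback_toSpecΓ' {T S P Y : Scheme.{u}} [IsAffine T] [IsAffine S]
    {fst : P ⟶ T} {snd : P ⟶ Y} {p : T ⟶ S} {g : Y ⟶ S} (H : IsPullback fst snd p g) [Flat p]
    [CompactSpace Y] [QuasiSeparatedSpace Y] :
    IsPullback P.toSpecΓ snd (Spec.map snd.appTop) Y.toSpecΓ := by
  have hpb := isPullback_Spec_appTop' H
  have hsq : IsPullback T.toSpecΓ p (Spec.map p.appTop) S.toSpecΓ :=
    IsPullback.of_horiz_isIso ⟨(Scheme.toSpecΓ_naturality p).symm⟩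
  have hout := H.paste_horiz hsq
  rw [Scheme.toSpecΓ_naturality, Scheme.toSpecΓ_naturality] at hout
  exact IsPullback.of_right hout (Scheme.toSpecΓ_naturality _).symm hpb

/-- `Spec Γ(T) → Spec Γ(S)` is flat when `T → S` is a flat map of affine schemes. -/
theorem flat_Spec_appTop {T S : Scheme.{u}} [IsAffine T] [IsAffine S] (p : T ⟶ S) [Flat p] :
    Flat (Spec.map p.appTop) := by
  have h2 : Flat (T.toSpecΓ ≫ Spec.map p.appTop) := by
    rw [← Scheme.toSpecΓ_naturality]
    infer_instance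
  exact (MorphismProperty.cancel_left_of_respectsIso @Flat _ _).mp h2

/-- Key step: a qcqs scheme `Y` over an affine scheme `S` is quasi-affine if it becomes so after
base change along a finite jointly surjective family of flat maps from affine schemes. -/
theorem isQuasiAffine_of_finite_family {S Y : Scheme.{u}} [IsAffine S] (g : Y ⟶ S)
    [CompactSpace Y] [QuasiSeparatedSpace Y]
    {σ : Type u} [Finite σ] (W : σ → Scheme.{u}) [∀ j, IsAffine (W j)]
    (p : ∀ j, W j ⟶ S) [∀ j, Flat (p j)]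
    (hsurj : ∀ z : S, ∃ j, z ∈ Set.range (p j))
    (Q : σ → Scheme.{u}) (fst : ∀ j, Q j ⟶ W j) (snd : ∀ j, Q j ⟶ Y)
    (H : ∀ j, IsPullback (fst j) (snd j) (p j) g)
    (hQ : ∀ j, (Q j).IsQuasiAffine) : Y.IsQuasiAffine := by
  have := H4ImmDesc.descendsAlong_fpqc.{u}
  have hflat : ∀ j, Flat (Spec.map (snd j).appTop) := fun j =>
    MorphismProperty.of_isPullback (P := @Flat) (isPullback_Spec_appTop' (H j))
      (flat_Spec_appTop (p j))
  have hsurj' : ∀ a : Spec Γ(Y, ⊤), ∃ j, a ∈ Set.range (Spec.map (snd j).appTop) := by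
    intro a
    obtain ⟨s, hs⟩ := S.toSpecΓ.surjective (Spec.map g.appTop a)
    obtain ⟨j, w, hw⟩ := hsurj s
    have h1 : Spec.map (p j).appTop ((W j).toSpecΓ w) = Spec.map g.appTop a := by
      rw [← Scheme.Hom.comp_apply, ← Scheme.toSpecΓ_naturality, Scheme.Hom.comp_apply, hw, hs]
    obtain ⟨c, hc1, hc2⟩ :=
      Scheme.exists_preimage_of_isPullback (isPullback_Spec_appTop' (H j)) _ _ h1
    exact ⟨j, c, hc2⟩
  have hP : (@IsImmersion ⊓ @QuasiCompact : MorphismProperty Scheme.{u}) Y.toSpecΓ :=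
    H4FFD.of_finite_family _ Y.toSpecΓ (fun j => Spec Γ(Q j, ⊤))
      (fun j => Spec.map (snd j).appTop) hsurj' Q (fun j => (Q j).toSpecΓ) snd
      (fun j => isPullback_toSpecΓ' (H j))
      (fun j => ⟨inferInstance, inferInstance⟩)
  have : IsImmersion Y.toSpecΓ := hP.1
  constructor

/-- A morphism whose preimages of affine opens are quasi-affine schemes is quasi-separated. -/
theorem quasiSeparated_of_forall_isQuasiAffine {X Y : Scheme.{u}} (h : X ⟶ Y)
    (H : ∀ V : Y.Opens, IsAffineOpen V → Scheme.IsQuasiAffine (h ⁻¹ᵁ V : Scheme.{u})) :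
    QuasiSeparated h := by
  rw [HasAffineProperty.eq_targetAffineLocally (P := @QuasiSeparated)]
  intro U
  have := H U.1 U.2
  show QuasiSeparatedSpace (h ⁻¹ᵁ U.1 : Scheme.{u})
  infer_instance

/-- fpqc descent of quasi-affine morphisms (general pullback square). -/
theorem isQuasiAffine_of_isPullback {X Y Z A : Scheme.{u}} {f : X ⟶ Z} {g : Y ⟶ Z}
    {fst : A ⟶ X} {snd : A ⟶ Y} (H : IsPullback fst snd f g)
    [Surjective f] [Flat f] [QuasiCompact f] [QuasiCompact fst]
    (hqa : ∀ V : X.Opens, IsAffineOpen V →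
      Scheme.IsQuasiAffine (fst ⁻¹ᵁ V : Scheme.{u})) :
    QuasiCompact g ∧
      ∀ V : Z.Opens, IsAffineOpen V → Scheme.IsQuasiAffine (g ⁻¹ᵁ V : Scheme.{u}) := by
  have hgqc : QuasiCompact g :=
    H4ImmDesc.quasiCompact_of_isPullback H
  have hfstqs : QuasiSeparated fst := quasiSeparated_of_forall_isQuasiAffine _ hqa
  have hgqs : QuasiSeparated g := by
    have := Groth.Agent.Lib.helper1.quasiSeparated_descendsAlong.{u}
    exact MorphismProperty.of_isPullback_of_descendsAlong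
      (P := @QuasiSeparated)
      (Q := (@Surjective ⊓ @Flat ⊓ @QuasiCompact : MorphismProperty Scheme.{u}))
      H ⟨⟨inferInstance, inferInstance⟩, inferInstance⟩ hfstqs
  refine ⟨hgqc, fun V hV => ?_⟩
  have : IsAffine (V : Scheme.{u}) := hV
  have hYVc : CompactSpace (g ⁻¹ᵁ V : Scheme.{u}) :=
    isCompact_iff_compactSpace.mp (g.isCompact_preimage hV.isCompact)
  have hYVqs : QuasiSeparatedSpace (g ⁻¹ᵁ V : Scheme.{u}) := by
    have h1 := hgqs
    rw [HasAffineProperty.eq_targetAffineLocally (P := @QuasiSeparated)] at h1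
    exact h1 ⟨V, hV⟩
  obtain ⟨I, hI, e⟩ := isCompact_iff_finite_and_eq_biUnion_affineOpens.mp
    (f.isCompact_preimage hV.isCompact)
  have hle : ∀ j : I, j.1.1 ≤ f ⁻¹ᵁ V := by
    intro j
    rw [e]
    exact le_iSup₂ (f := fun (i : X.affineOpens) (_ : i ∈ I) => (i : X.Opens)) j.1 j.2
  have := hI.to_subtype
  have hWaff : ∀ j : I, IsAffine (j.1.1 : Scheme.{u}) := fun j => j.1.2
  have hUY : ∀ j : I, fst ⁻¹ᵁ j.1.1 = fst ⁻¹ᵁ j.1.1 ⊓ snd ⁻¹ᵁ (g ⁻¹ᵁ V) := by
    intro j
    refine le_antisymm (le_inf le_rfl ?_) inf_le_left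
    rw [← Scheme.Hom.comp_preimage, ← H.w, Scheme.Hom.comp_preimage]
    exact fst.preimage_mono (hle j)
  have hsq := fun j : I => Scheme.Hom.isPullback_resLE H
    (US := V) (UT := g ⁻¹ᵁ V) (UX := j.1.1) le_rfl (hle j) (hUY j)
  refine isQuasiAffine_of_finite_family (g.resLE V (g ⁻¹ᵁ V) le_rfl)
    (fun j : I => (j.1.1 : Scheme.{u})) (fun j => f.resLE V j.1.1 (hle j)) ?_
    (fun j => (fst ⁻¹ᵁ j.1.1 : Scheme.{u})) _ _ hsq (fun j => hqa j.1.1 j.1.2)
  intro z
  obtain ⟨x, hx⟩ := f.surjective z.1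
  have hxV : x ∈ f ⁻¹ᵁ V := by
    show f x ∈ V
    rw [hx]; exact z.2
  rw [e] at hxV
  simp only [TopologicalSpace.Opens.mem_iSup] at hxV
  obtain ⟨j, hj, hxj⟩ := hxV
  refine ⟨⟨j, hj⟩, ⟨x, hxj⟩, ?_⟩
  apply Subtype.ext
  rw [Scheme.Hom.coe_resLE_apply]
  exact hx

end H4QAffDesc
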