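import Mathlib
import Groth.Agent.Lib.helper4.ImmDescent

/-!
# fpqc descent of closed subschemes (helper4)
-/

set_option autoImplicit false
universe u
open CategoryTheory CategoryTheory.Limits AlgebraicGeometry MorphismProperty

namespace H4ClosedSub

variable {X X' : Scheme.{u}}

/-- The projection `π*A → A` is fpqc when `π` is. -/
lemma fpqc_pullbackπ (π : X ⟶ X') [Flat π] [Surjective π] [QuasiCompact π] (A : Subobject X') :
    (@Surjective ⊓ @Flat ⊓ @QuasiCompact : MorphismProperty Scheme.{u})
      (Subobject.pullbackπ π A) :=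
  MorphismProperty.of_isPullback (Subobject.isPullback π A).flip
    ⟨⟨inferInstance, inferInstance⟩, inferInstance⟩

/-- The arrow of the pullback of a closed subobject is a closed immersion. -/
lemma isClosedImmersion_pullback_arrow (π : X ⟶ X') (A : Subobject X')
    [IsClosedImmersion A.arrow] : IsClosedImmersion ((Subobject.pullback π).obj A).arrow :=
  MorphismProperty.of_isPullback (P := @IsClosedImmersion) (Subobject.isPullback π A)
    inferInstance

/-- The comparison square for `A ≤ B`. -/
lemma isPullback_ofLE (π : X ⟶ X') (A B : Subobject X') (h : A ≤ B) :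
    IsPullback (Subobject.ofLE _ _ ((Subobject.pullback π).monotone h))
      (Subobject.pullbackπ π A) (Subobject.pullbackπ π B) (Subobject.ofLE A B h) := by
  refine IsPullback.flip (IsPullback.of_bot (v₂₁ := ((Subobject.pullback π).obj B).arrow)
    (v₂₂ := B.arrow) (h₃₁ := π) ?_ ?_ (Subobject.isPullback π B))
  · rw [Subobject.ofLE_arrow, Subobject.ofLE_arrow]
    exact Subobject.isPullback π A
  · rw [← cancel_mono B.arrow, Category.assoc, Category.assoc, Subobject.ofLE_arrow,
      (Subobject.isPullback π A).w, (Subobject.isPullback π B).w, Subobject.ofLE_arrow_assoc]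

/-- If `A ≤ B` and `π*A = π*B` for an fpqc `π`, then `A = B`. -/
lemma eq_of_le_of_pullback_eq (π : X ⟶ X') [Flat π] [Surjective π] [QuasiCompact π]
    (A B : Subobject X') (h : A ≤ B)
    (heq : (Subobject.pullback π).obj A = (Subobject.pullback π).obj B) : A = B := by
  have hiso : IsIso (Subobject.ofLE _ _ ((Subobject.pullback π).monotone h)) :=
    inferInstanceAs (IsIso (Subobject.isoOfEq _ _ heq).hom)
  have h2 : (MorphismProperty.isomorphisms Scheme.{u}) (Subobject.ofLE A B h) :=
    MorphismProperty.of_isPullback_of_descendsAlong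
      (Q := (@Surjective ⊓ @Flat ⊓ @QuasiCompact : MorphismProperty Scheme.{u}))
      (isPullback_ofLE π A B h) (fpqc_pullbackπ π B) hiso
  have : IsIso (Subobject.ofLE A B h) := h2
  refine le_antisymm h (Subobject.le_of_comm (inv (Subobject.ofLE A B h)) ?_)
  rw [IsIso.inv_comp_eq, Subobject.ofLE_arrow]

/-- `π*` is injective on subobjects for an fpqc `π`. -/
lemma pullback_injective (π : X ⟶ X') [Flat π] [Surjective π] [QuasiCompact π]
    (A B : Subobject X')
    (heq : (Subobject.pullback π).obj A = (Subobject.pullback π).obj B) : A = B := by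
  have h1 : (Subobject.pullback π).obj (A ⊓ B) = (Subobject.pullback π).obj A := by
    rw [Subobject.inf_pullback, ← heq, inf_idem]
  have h2 : (Subobject.pullback π).obj (A ⊓ B) = (Subobject.pullback π).obj B := by
    rw [Subobject.inf_pullback, heq, inf_idem]
  have e1 := eq_of_le_of_pullback_eq π (A ⊓ B) A inf_le_left h1
  have e2 := eq_of_le_of_pullback_eq π (A ⊓ B) B inf_le_right h2
  rw [← e1, e2]

/-- fpqc descent of closed subschemes: an `R`-stable closed subscheme of `X` is the pullback of
its scheme-theoretic image in `X'`. -/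
theorem exists_pullback_eq (π : X ⟶ X') [Flat π] [Surjective π] [QuasiCompact π]
    (Y : Subobject X) [IsClosedImmersion Y.arrow]
    (hst : (Subobject.pullback (pullback.fst π π)).obj Y =
      (Subobject.pullback (pullback.snd π π)).obj Y) :
    ∃ Y' : Subobject X', IsClosedImmersion Y'.arrow ∧ (Subobject.pullback π).obj Y' = Y := by
  set h : (Y : Scheme.{u}) ⟶ X' := Y.arrow ≫ π with hh
  let Y' : Subobject X' := Subobject.mk h.imageι
  have hY'arrow : Y'.arrow = (Subobject.underlyingIso h.imageι).hom ≫ h.imageι :=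
    (Subobject.underlyingIso_hom_comp_eq_mk h.imageι).symm
  have hY'cl : IsClosedImmersion Y'.arrow := by
    rw [hY'arrow]; infer_instance
  refine ⟨Y', hY'cl, ?_⟩
  set Z : Subobject X := (Subobject.pullback π).obj Y' with hZ
  have hZcl : IsClosedImmersion Z.arrow := isClosedImmersion_pullback_arrow π Y'
  -- `Y ≤ Z`
  let u : (Y : Scheme.{u}) ⟶ (Y' : Scheme.{u}) :=
    h.toImage ≫ (Subobject.underlyingIso h.imageι).inv
  have hu : u ≫ Y'.arrow = Y.arrow ≫ π := by
    simp only [u, hY'arrow, Category.assoc, Iso.inv_hom_id_assoc, Scheme.Hom.toImage_imageι, hh]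
  have hYZ : Y ≤ Z := by
    apply Subobject.le_of_comm ((Subobject.isPullback π Y').lift u Y.arrow hu)
    exact (Subobject.isPullback π Y').lift_snd _ _ _
  set ℓ : (Y : Scheme.{u}) ⟶ (Z : Scheme.{u}) := Subobject.ofLE Y Z hYZ with hℓ
  have hℓarrow : ℓ ≫ Z.arrow = Y.arrow := Subobject.ofLE_arrow hYZ
  have hℓcl : IsClosedImmersion ℓ := by
    have : IsClosedImmersion (ℓ ≫ Z.arrow) := by rw [hℓarrow]; infer_instance
    exact IsClosedImmersion.of_comp_isClosedImmersion ℓ Z.arrow
  -- scheme theoretic dominance
  let q : (Z : Scheme.{u}) ⟶ (Y' : Scheme.{u}) := Subobject.pullbackπ π Y'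
  have hq : q ≫ Y'.arrow = Z.arrow ≫ π := (Subobject.isPullback π Y').w
  have hqflat : Flat q := (fpqc_pullbackπ π Y').1.2
  have hudom : IsSchemeTheoreticallyDominant u := by
    have : IsSchemeTheoreticallyDominant h.toImage :=
      H4ImmDesc.isSchemeTheoreticallyDominant_toImage h
    infer_instance
  have huqc : QuasiCompact u := inferInstance
  have hsnd : IsSchemeTheoreticallyDominant (pullback.snd u q) := inferInstance
  -- the map to the kernel pair
  let w : pullback u q ⟶ pullback π π :=
    pullback.lift (pullback.fst u q ≫ Y.arrow) (pullback.snd u q ≫ Z.arrow) (by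
      rw [Category.assoc, Category.assoc, ← hu, ← hq, pullback.condition_assoc])
  have hw1 : w ≫ pullback.fst π π = pullback.fst u q ≫ Y.arrow := pullback.lift_fst _ _ _
  have hw2 : w ≫ pullback.snd π π = pullback.snd u q ≫ Z.arrow := pullback.lift_snd _ _ _
  have hf1 : ((Subobject.pullback (pullback.fst π π)).obj Y).Factors w := by
    rw [pullback_factors_iff, hw1]
    exact Subobject.factors_comp_arrow _
  rw [hst, pullback_factors_iff, hw2] at hf1
  let t : pullback u q ⟶ (Y : Scheme.{u}) := Y.factorThru _ hf1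
  have ht : t ≫ Y.arrow = pullback.snd u q ≫ Z.arrow := Subobject.factorThru_arrow _ _ hf1
  have htℓ : t ≫ ℓ = pullback.snd u q := by
    rw [← cancel_mono Z.arrow, Category.assoc, hℓarrow, ht]
  have hℓdom : ℓ.ker = ⊥ := by
    have h1 : ℓ.ker ≤ (t ≫ ℓ).ker := Scheme.Hom.le_ker_comp t ℓ
    rw [htℓ, (pullback.snd u q).ker_eq_bot] at h1
    exact le_bot_iff.mp h1
  have hℓiso : IsIso ℓ := IsClosedImmersion.isIso_iff_ker_eq_bot.mpr hℓdom
  refine le_antisymm (Subobject.le_of_comm (inv ℓ) ?_) hYZ
  rw [IsIso.inv_comp_eq, hℓarrow]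

end H4ClosedSub
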