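import Mathlib

/-! Constructible topology helper lemmas for schemes (helper4). -/

universe u

open AlgebraicGeometry CategoryTheory TopologicalSpace Topology

namespace H4ConsTop

section General

variable {X : Type*} [TopologicalSpace X]

/-- The map to the underlying space. -/
abbrev o : WithConstructibleTopology X → X := WithTopology.ofTopology

theorem isOpen_preimage_of_compact_open {U : Set X} (ho : IsOpen U) (hc : IsCompact U) :
    IsOpen (o ⁻¹' U : Set (WithConstructibleTopology X)) :=
  WithConstructibleTopology.isOpen_iff.2 (hc.isOpen_constructibleTopology_of_isOpen ho)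

theorem isOpen_preimage_compl_of_compact_open {U : Set X} (ho : IsOpen U) (hc : IsCompact U) :
    IsOpen (o ⁻¹' Uᶜ : Set (WithConstructibleTopology X)) :=
  WithConstructibleTopology.isOpen_iff.2
    (IsCompact.isOpen_constructibleTopology_of_isClosed (s := Uᶜ) (by simpa using hc)
      ho.isClosed_compl)

theorem sep [T0Space X] [PrespectralSpace X] (x y : WithConstructibleTopology X) (hxy : x ≠ y) :
    ∃ u v : Set (WithConstructibleTopology X), IsOpen u ∧ IsOpen v ∧ x ∈ u ∧ y ∈ v ∧
      u ∪ v = Set.univ ∧ Disjoint u v := by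
  have hne : o x ≠ o y := fun h => hxy (WithTopology.ofTopology_injective _ h)
  obtain ⟨U, hU, hxor⟩ := exists_isOpen_xor_mem hne
  rcases hxor with ⟨hx, hy⟩ | ⟨hy, hx⟩
  · obtain ⟨U', ⟨hU'o, hU'c⟩, hxU', hU'U⟩ :=
      PrespectralSpace.isTopologicalBasis.exists_subset_of_mem_open hx hU
    refine ⟨o ⁻¹' U', o ⁻¹' U'ᶜ, isOpen_preimage_of_compact_open hU'o hU'c,
      isOpen_preimage_compl_of_compact_open hU'o hU'c, hxU', fun h => hy (hU'U h), ?_, ?_⟩
    · rw [← Set.preimage_union, Set.union_compl_self, Set.preimage_univ]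
    · exact Disjoint.preimage _ disjoint_compl_right
  · obtain ⟨U', ⟨hU'o, hU'c⟩, hyU', hU'U⟩ :=
      PrespectralSpace.isTopologicalBasis.exists_subset_of_mem_open hy hU
    refine ⟨o ⁻¹' U'ᶜ, o ⁻¹' U', isOpen_preimage_compl_of_compact_open hU'o hU'c,
      isOpen_preimage_of_compact_open hU'o hU'c, fun h => hx (hU'U h), hyU', ?_, ?_⟩
    · rw [← Set.preimage_union, Set.compl_union_self, Set.preimage_univ]
    · exact Disjoint.preimage _ disjoint_compl_left

theorem t2 [T0Space X] [PrespectralSpace X] : T2Space (WithConstructibleTopology X) := by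
  refine ⟨fun x y hxy => ?_⟩
  obtain ⟨u, v, hu, hv, hx, hy, -, hd⟩ := sep x y hxy
  exact ⟨u, v, hu, hv, hx, hy, hd⟩

theorem totSep [T0Space X] [PrespectralSpace X] :
    TotallySeparatedSpace (WithConstructibleTopology X) := by
  refine ⟨fun x _ y _ hxy => ?_⟩
  obtain ⟨u, v, hu, hv, hx, hy, huv, hd⟩ := sep x y hxy
  exact ⟨u, v, hu, hv, hx, hy, huv.ge, hd⟩

/-- The inclusion of a subspace is continuous for the constructible topologies when `X` is
quasi-separated and the subspace is open. -/
theorem continuous_val [QuasiSeparatedSpace X] (W : Set X) (hW : IsOpen W) (hWc : IsCompact W) :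
    Continuous[constructibleTopology W, constructibleTopology X] (Subtype.val : W → X) := by
  refine continuous_generateFrom_iff.2 ?_
  rintro B (⟨hBo, hBc⟩ | ⟨hBcl, hBc⟩)
  · apply IsCompact.isOpen_constructibleTopology_of_isOpen
    · have e : (Subtype.val : W → X) ⁻¹' B = Subtype.val ⁻¹' (B ∩ W) := by
        ext ⟨x, hx⟩; simp
      rw [e, Topology.IsInducing.subtypeVal.isCompact_preimage_iff (by simp)]
      exact QuasiSeparatedSpace.inter_isCompact B W hBo hBc hW hWc
    · exact hBo.preimage continuous_subtype_val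
  · apply IsCompact.isOpen_constructibleTopology_of_isClosed
    · have e : ((Subtype.val : W → X) ⁻¹' B)ᶜ = Subtype.val ⁻¹' (Bᶜ ∩ W) := by
        ext ⟨x, hx⟩; simp
      rw [e, Topology.IsInducing.subtypeVal.isCompact_preimage_iff (by simp)]
      exact QuasiSeparatedSpace.inter_isCompact Bᶜ W hBcl.isOpen_compl hBc hW hWc
    · exact hBcl.preimage continuous_subtype_val

theorem isCompact_preimage [QuasiSeparatedSpace X] (W : Set X) (hW : IsOpen W) (hWc : IsCompact W)
    [QuasiSober W] [PrespectralSpace W] [QuasiSeparatedSpace W] :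
    IsCompact (o ⁻¹' W : Set (WithConstructibleTopology X)) := by
  have : CompactSpace W := isCompact_iff_compactSpace.1 hWc
  let g : WithConstructibleTopology W → WithConstructibleTopology X :=
    fun w => WithTopology.toTopology _ (WithTopology.ofTopology w : W).1
  have hg : Continuous g := by
    have h1 := WithTopology.continuous_ofTopology (constructibleTopology W)
    have h2 := continuous_val W hW hWc
    have h3 := WithTopology.continuous_toTopology (constructibleTopology X)
    exact @Continuous.comp _ _ _ _ (constructibleTopology X) _ _ _ h3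
      (@Continuous.comp _ _ _ _ (constructibleTopology W) (constructibleTopology X) _ _ h2 h1)
  have hr : Set.range g = o ⁻¹' W := by
    ext z
    constructor
    · rintro ⟨w, rfl⟩
      exact (WithTopology.ofTopology w : W).2
    · intro hz
      exact ⟨WithTopology.toTopology _ ⟨o z, hz⟩, rfl⟩
  rw [← hr]
  exact isCompact_range hg

theorem weaklyLocallyCompact [QuasiSeparatedSpace X]
    (h : ∀ x : X, ∃ W : Set X, x ∈ W ∧ IsOpen W ∧ IsCompact W ∧ QuasiSober W ∧
      PrespectralSpace W ∧ QuasiSeparatedSpace W) :
    WeaklyLocallyCompactSpace (WithConstructibleTopology X) := by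
  refine ⟨fun z => ?_⟩
  obtain ⟨W, hzW, hW, hWc, h1, h2, h3⟩ := h (o z)
  exact ⟨o ⁻¹' W, isCompact_preimage W hW hWc,
    (isOpen_preimage_of_compact_open hW hWc).mem_nhds hzW⟩

end General

theorem scheme_local (X : Scheme.{u}) (x : X) :
    ∃ W : Set X, x ∈ W ∧ IsOpen W ∧ IsCompact W ∧ QuasiSober W ∧
      PrespectralSpace W ∧ QuasiSeparatedSpace W := by
  obtain ⟨_, ⟨(W : X.Opens), hW : IsAffineOpen W, rfl⟩, hxW, -⟩ :=
    X.isBasis_affineOpens.exists_subset_of_mem_open (Set.mem_univ x) isOpen_univ
  have : IsAffine W.toScheme := hW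
  refine ⟨W, hxW, W.2, hW.isCompact, ?_, ?_, ?_⟩
  · exact inferInstanceAs (QuasiSober W.toScheme)
  · exact inferInstanceAs (PrespectralSpace W.toScheme)
  · exact inferInstanceAs (QuasiSeparatedSpace W.toScheme)

theorem main (X : Scheme.{u}) [QuasiSeparatedSpace X] :
    T2Space (WithConstructibleTopology X) ∧ LocallyCompactSpace (WithConstructibleTopology X) ∧
      TotallyDisconnectedSpace (WithConstructibleTopology X) := by
  have h1 : T2Space (WithConstructibleTopology X) := t2
  have h2 : TotallySeparatedSpace (WithConstructibleTopology X) := totSep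
  have h3 : WeaklyLocallyCompactSpace (WithConstructibleTopology X) :=
    weaklyLocallyCompact (scheme_local X)
  exact ⟨h1, inferInstance, inferInstance⟩

end H4ConsTop
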