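import Mathlib
import Groth.Agent.Lib.helper4.ConsTop

/-! Constructible topology: locally constructible iff clopen (helper4). -/

universe u

open AlgebraicGeometry CategoryTheory TopologicalSpace Topology

namespace H4ConsTop

section General

variable {X : Type*} [TopologicalSpace X]

theorem isOpen_cons_of_retrocompact [PrespectralSpace X] {U : Set X} (hU : IsOpen U)
    (hUr : IsRetrocompact U) :
    IsOpen[constructibleTopology X] U ∧ IsOpen[constructibleTopology X] Uᶜ := by
  constructor
  · have e : U = ⋃₀ {V | ∃ V' : Set X, IsOpen V' ∧ IsCompact V' ∧ V = U ∩ V'} := by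
      ext x
      simp only [Set.mem_sUnion, Set.mem_ofPred_eq]
      constructor
      · intro hx
        obtain ⟨V', ⟨hV'o, hV'c⟩, hxV', -⟩ :=
          PrespectralSpace.isTopologicalBasis.exists_subset_of_mem_open (Set.mem_univ x)
            isOpen_univ
        exact ⟨U ∩ V', ⟨V', hV'o, hV'c, rfl⟩, hx, hxV'⟩
      · rintro ⟨_, ⟨V', -, -, rfl⟩, hx⟩
        exact hx.1
    rw [e]
    refine @isOpen_sUnion X (constructibleTopology X) _ ?_
    rintro _ ⟨V', hV'o, hV'c, rfl⟩
    exact (hUr hV'c hV'o).isOpen_constructibleTopology_of_isOpen (hU.inter hV'o)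
  · have e : Uᶜ = ⋃₀ {V | ∃ V' : Set X, IsOpen V' ∧ IsCompact V' ∧ V = V' ∩ (U ∩ V')ᶜ} := by
      ext x
      simp only [Set.mem_sUnion, Set.mem_ofPred_eq]
      constructor
      · intro hx
        obtain ⟨V', ⟨hV'o, hV'c⟩, hxV', -⟩ :=
          PrespectralSpace.isTopologicalBasis.exists_subset_of_mem_open (Set.mem_univ x)
            isOpen_univ
        exact ⟨V' ∩ (U ∩ V')ᶜ, ⟨V', hV'o, hV'c, rfl⟩, hxV', fun h => hx h.1⟩
      · rintro ⟨_, ⟨V', -, -, rfl⟩, hx⟩
        exact fun h => hx.2 ⟨h, hx.1⟩
    rw [e]
    refine @isOpen_sUnion X (constructibleTopology X) _ ?_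
    rintro _ ⟨V', hV'o, hV'c, rfl⟩
    refine @IsOpen.inter X (constructibleTopology X) _ _
      (hV'c.isOpen_constructibleTopology_of_isOpen hV'o) ?_
    exact IsCompact.isOpen_constructibleTopology_of_isClosed (s := (U ∩ V')ᶜ)
      (by simpa using hUr hV'c hV'o) (hU.inter hV'o).isClosed_compl

theorem isOpen_cons_of_isConstructible [PrespectralSpace X] {s : Set X} (hs : IsConstructible s) :
    IsOpen[constructibleTopology X] s ∧ IsOpen[constructibleTopology X] sᶜ := by
  induction hs using IsConstructible.empty_union_induction with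
  | open_retrocompact U hUopen hUcomp => exact isOpen_cons_of_retrocompact hUopen hUcomp
  | union s hs t ht ihs iht =>
    refine ⟨@IsOpen.union X _ _ (constructibleTopology X) ihs.1 iht.1, ?_⟩
    rw [Set.compl_union]
    exact @IsOpen.inter X (constructibleTopology X) _ _ ihs.2 iht.2
  | compl s hs ih => exact ⟨ih.2, by rw [compl_compl]; exact ih.1⟩

theorem isOpen_cons_of_isLocallyConstructible [PrespectralSpace X] [QuasiSeparatedSpace X]
    {E : Set X} (hE : IsLocallyConstructible E) : IsOpen[constructibleTopology X] E := by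
  have e : E = ⋃₀ {V | ∃ V' : Set X, IsOpen V' ∧ IsCompact V' ∧ V = E ∩ V'} := by
    ext x
    simp only [Set.mem_sUnion, Set.mem_ofPred_eq]
    constructor
    · intro hx
      obtain ⟨V', ⟨hV'o, hV'c⟩, hxV', -⟩ :=
        PrespectralSpace.isTopologicalBasis.exists_subset_of_mem_open (Set.mem_univ x)
          isOpen_univ
      exact ⟨E ∩ V', ⟨V', hV'o, hV'c, rfl⟩, hx, hxV'⟩
    · rintro ⟨_, ⟨V', -, -, rfl⟩, hx⟩
      exact hx.1
  rw [e]
  refine @isOpen_sUnion X (constructibleTopology X) _ ?_
  rintro _ ⟨V', hV'o, hV'c, rfl⟩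
  exact (isOpen_cons_of_isConstructible (hE.inter_of_isOpen_isCompact hV'o hV'c)).1

theorem isLocallyConstructible_compl {E : Set X} (hE : IsLocallyConstructible E) :
    IsLocallyConstructible Eᶜ := by
  intro x
  obtain ⟨U, hU, hUo, hc⟩ := hE x
  exact ⟨U, hU, hUo, by simpa using hc.compl⟩

theorem isConstructible_of_mem_subbasis [QuasiSeparatedSpace X] {B : Set X} (hB : B ∈ constructibleTopologySubbasis X) :
    IsConstructible B := by
  rcases hB with ⟨ho, hc⟩ | ⟨hcl, hc⟩
  · exact hc.isConstructible ho
  · exact isConstructible_compl.1 (hc.isConstructible hcl.isOpen_compl)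

/-- A compact open set of the constructible topology is constructible. -/
theorem isConstructible_of_isCompact_isOpen_cons [QuasiSeparatedSpace X] {s : Set X}
    (hso : IsOpen[constructibleTopology X] s)
    (hsc : @IsCompact X (constructibleTopology X) s) : IsConstructible s := by
  have hbasis := @TopologicalSpace.isTopologicalBasis_of_subbasis X (constructibleTopology X)
    (constructibleTopologySubbasis X) rfl
  obtain ⟨T, hTB, rfl⟩ := @IsTopologicalBasis.open_eq_sUnion X (constructibleTopology X) _
    hbasis _ hso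
  obtain ⟨T', hT'T, hT'fin, hcov⟩ := @IsCompact.elim_finite_subcover_image X _
    (constructibleTopology X) _ _ (fun t => t) hsc
    (fun t ht => @IsTopologicalBasis.isOpen X (constructibleTopology X) _ _ hbasis (hTB ht))
    (by rw [Set.sUnion_eq_biUnion])
  have e : ⋃₀ T = ⋃₀ T' := by
    apply subset_antisymm
    · rwa [Set.sUnion_eq_biUnion (s := T')]
    · exact Set.sUnion_mono hT'T
  rw [e]
  refine IsConstructible.sUnion hT'fin (fun t ht => ?_)
  obtain ⟨f, ⟨hf, hfs⟩, rfl⟩ := hTB (hT'T ht)
  exact IsConstructible.sInter hf (fun b hb => isConstructible_of_mem_subbasis (hfs hb))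

theorem isCompact_cons_of_isClosed_subset [QuasiSeparatedSpace X] (W : Set X) (hW : IsOpen W)
    (hWc : IsCompact W) [QuasiSober W] [PrespectralSpace W] [QuasiSeparatedSpace W]
    {s : Set X} (hs : IsClosed[constructibleTopology X] s) (hsW : s ⊆ W) :
    @IsCompact X (constructibleTopology X) s := by
  have h1 : IsCompact (o ⁻¹' s : Set (WithConstructibleTopology X)) :=
    IsCompact.of_isClosed_subset (isCompact_preimage W hW hWc)
      (WithConstructibleTopology.isClosed_iff.2 hs) (Set.preimage_mono hsW)
  have h2 := @IsCompact.image (WithConstructibleTopology X) X _ (constructibleTopology X) _ o h1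
    (WithTopology.continuous_ofTopology _)
  rwa [Set.image_preimage_eq _ (WithTopology.ofTopology_surjective _)] at h2

theorem locConstr_iff [QuasiSeparatedSpace X] [PrespectralSpace X]
    (hloc : ∀ x : X, ∃ W : Set X, x ∈ W ∧ IsOpen W ∧ IsCompact W ∧ QuasiSober W ∧
      PrespectralSpace W ∧ QuasiSeparatedSpace W) (E : Set X) :
    IsLocallyConstructible E ↔
      (IsOpen[constructibleTopology X] E ∧ IsClosed[constructibleTopology X] E) := by
  constructor
  · intro hE
    exact ⟨isOpen_cons_of_isLocallyConstructible hE,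
      @IsClosed.mk X (constructibleTopology X) E
        (isOpen_cons_of_isLocallyConstructible (isLocallyConstructible_compl hE))⟩
  · rintro ⟨ho, hc⟩
    choose W hxW hWo hWc h1 h2 h3 using hloc
    let U : X → Opens X := fun x => ⟨W x, hWo x⟩
    have hU : IsOpenCover U := by
      rw [IsOpenCover, eq_top_iff]
      intro x _
      exact Opens.mem_iSup.2 ⟨x, hxW x⟩
    refine (IsLocallyConstructible.iff_isConstructible_of_isOpenCover hU (fun x => hWc x)).2
      fun x => ?_
    change IsConstructible (E ∩ W x)
    have hWcl : IsClosed[constructibleTopology X] (W x) :=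
      @IsClosed.mk X (constructibleTopology X) _
        (IsCompact.isOpen_constructibleTopology_of_isClosed (s := (W x)ᶜ)
          (by simpa using hWc x) (hWo x).isClosed_compl)
    have := h1 x; have := h2 x; have := h3 x
    apply isConstructible_of_isCompact_isOpen_cons
    · exact @IsOpen.inter X (constructibleTopology X) _ _ ho
        ((hWc x).isOpen_constructibleTopology_of_isOpen (hWo x))
    · exact isCompact_cons_of_isClosed_subset (W x) (hWo x) (hWc x)
        (@IsClosed.inter X _ _ (constructibleTopology X) hc hWcl) Set.inter_subset_right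

end General

theorem main2 (X : Scheme.{u}) [QuasiSeparatedSpace X] (E : Set X) :
    Topology.IsLocallyConstructible E ↔
      (IsOpen[constructibleTopology X] E ∧ IsClosed[constructibleTopology X] E) :=
  locConstr_iff (scheme_local X) E

end H4ConsTop
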