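import Mathlib
import Groth.Agent.Lib.helper4.ConsTop2

/-! Constructible topology: quasi-compact iff proper for the constructible topologies (helper4). -/

universe u

open AlgebraicGeometry CategoryTheory TopologicalSpace Topology

namespace H4ConsTop

section General

variable {X : Type*} [TopologicalSpace X] {Y : Type*} [TopologicalSpace Y]

/-- Local spectrality hypothesis. -/
def LocSpec (X : Type*) [TopologicalSpace X] : Prop :=
  ∀ x : X, ∃ W : Set X, x ∈ W ∧ IsOpen W ∧ IsCompact W ∧ QuasiSober W ∧
      PrespectralSpace W ∧ QuasiSeparatedSpace W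

/-- The homeomorphism between `(X, constructibleTopology X)` and `WithConstructibleTopology X`. -/
def homeo (X : Type*) [TopologicalSpace X] :
    @Homeomorph X (WithConstructibleTopology X) (constructibleTopology X) _ :=
  @Homeomorph.mk X (WithConstructibleTopology X) (constructibleTopology X) _
    (WithTopology.equiv X _).symm (WithTopology.continuous_toTopology _)
    (WithTopology.continuous_ofTopology _)

theorem isOpen_cons_of_isOpen [PrespectralSpace X] {U : Set X} (hU : IsOpen U) :
    IsOpen[constructibleTopology X] U := by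
  have e : U = ⋃₀ {V | IsOpen V ∧ IsCompact V ∧ V ⊆ U} := by
    ext x
    simp only [Set.mem_sUnion, Set.mem_ofPred_eq]
    constructor
    · intro hx
      obtain ⟨V', ⟨hV'o, hV'c⟩, hxV', hV'U⟩ :=
        PrespectralSpace.isTopologicalBasis.exists_subset_of_mem_open hx hU
      exact ⟨V', ⟨hV'o, hV'c, hV'U⟩, hxV'⟩
    · rintro ⟨V, ⟨-, -, hVU⟩, hx⟩
      exact hVU hx
  rw [e]
  refine @isOpen_sUnion X (constructibleTopology X) _ ?_
  rintro V ⟨hVo, hVc, -⟩
  exact hVc.isOpen_constructibleTopology_of_isOpen hVo

theorem continuous_o [PrespectralSpace X] : Continuous (o : WithConstructibleTopology X → X) := by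
  refine continuous_def.2 fun U hU => ?_
  exact WithConstructibleTopology.isOpen_iff.2 (isOpen_cons_of_isOpen hU)

/-- Preimage of a compact open is compact in the constructible topology. -/
theorem isCompact_preimage_of_compact_open [QuasiSeparatedSpace X] (hloc : LocSpec X)
    {U : Set X} (hU : IsOpen U) (hUc : IsCompact U) :
    IsCompact (o ⁻¹' U : Set (WithConstructibleTopology X)) := by
  choose W hxW hWo hWc h1 h2 h3 using hloc
  obtain ⟨t, ht⟩ := hUc.elim_finite_subcover W hWo (fun x hx => Set.mem_iUnion.2 ⟨x, hxW x⟩)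
  have hcl : IsClosed (o ⁻¹' U : Set (WithConstructibleTopology X)) :=
    ⟨isOpen_preimage_compl_of_compact_open hU hUc⟩
  have hc : IsCompact (⋃ x ∈ t, (o ⁻¹' (W x) : Set (WithConstructibleTopology X))) :=
    t.isCompact_biUnion fun x _ =>
      haveI := h1 x; haveI := h2 x; haveI := h3 x
      isCompact_preimage (W x) (hWo x) (hWc x)
  refine hc.of_isClosed_subset hcl ?_
  intro z hz
  obtain ⟨x, hxt, hx⟩ := Set.mem_iUnion₂.1 (ht hz)
  exact Set.mem_iUnion₂.2 ⟨x, hxt, hx⟩

/-- The induced map on constructible topologies. -/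
def F (f : X → Y) : WithConstructibleTopology X → WithConstructibleTopology Y :=
  fun z => WithTopology.toTopology _ (f (o z))

theorem continuous_cons (f : X → Y) (hf : Continuous f)
    (hqc : ∀ V : Set Y, IsOpen V → IsCompact V → IsCompact (f ⁻¹' V)) :
    Continuous[constructibleTopology X, constructibleTopology Y] f := by
  refine continuous_generateFrom_iff.2 ?_
  rintro B (⟨hBo, hBc⟩ | ⟨hBcl, hBc⟩)
  · exact (hqc B hBo hBc).isOpen_constructibleTopology_of_isOpen (hBo.preimage hf)
  · exact IsCompact.isOpen_constructibleTopology_of_isClosed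
      (by simpa using hqc Bᶜ hBcl.isOpen_compl hBc) (hBcl.preimage hf)

theorem continuous_F (f : X → Y) (hf : Continuous f)
    (hqc : ∀ V : Set Y, IsOpen V → IsCompact V → IsCompact (f ⁻¹' V)) : Continuous (F f) := by
  have h1 := WithTopology.continuous_ofTopology (constructibleTopology X)
  have h2 := continuous_cons f hf hqc
  have h3 := WithTopology.continuous_toTopology (constructibleTopology Y)
  exact @Continuous.comp _ _ _ _ (constructibleTopology Y) _ _ _ h3
    (@Continuous.comp _ _ _ _ (constructibleTopology X) (constructibleTopology Y) _ _ h2 h1)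

theorem isProperMap_F [T0Space Y] [PrespectralSpace Y] [QuasiSeparatedSpace X]
    [QuasiSeparatedSpace Y] (hlX : LocSpec X)
    (hlY : LocSpec Y) (f : X → Y) (hf : Continuous f)
    (hqc : ∀ V : Set Y, IsOpen V → IsCompact V → IsCompact (f ⁻¹' V)) : IsProperMap (F f) := by
  have hF := continuous_F f hf hqc
  have : T2Space (WithConstructibleTopology Y) := t2
  have : WeaklyLocallyCompactSpace (WithConstructibleTopology Y) := weaklyLocallyCompact hlY
  refine isProperMap_iff_isCompact_preimage.2 ⟨hF, fun K hK => ?_⟩
  choose W hxW hWo hWc h1 h2 h3 using hlY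
  obtain ⟨t, ht⟩ := hK.elim_finite_subcover (fun y : Y => (o ⁻¹' (W y) :
    Set (WithConstructibleTopology Y))) (fun y => isOpen_preimage_of_compact_open (hWo y) (hWc y))
    (fun z _ => Set.mem_iUnion.2 ⟨o z, hxW (o z)⟩)
  have hc : IsCompact (⋃ y ∈ t, (o ⁻¹' (f ⁻¹' (W y)) : Set (WithConstructibleTopology X))) :=
    t.isCompact_biUnion fun y _ =>
      isCompact_preimage_of_compact_open hlX ((hWo y).preimage hf) (hqc _ (hWo y) (hWc y))
  refine hc.of_isClosed_subset (hK.isClosed.preimage hF) ?_
  intro z hz
  obtain ⟨y, hyt, hy⟩ := Set.mem_iUnion₂.1 (ht hz)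
  exact Set.mem_iUnion₂.2 ⟨y, hyt, hy⟩

theorem qc_of_isProperMap_F [PrespectralSpace X] [QuasiSeparatedSpace Y]
    (hlY : LocSpec Y) (f : X → Y) (hF : IsProperMap (F f))
    (V : Set Y) (hV : IsOpen V) (hVc : IsCompact V) : IsCompact (f ⁻¹' V) := by
  have h1 := hF.isCompact_preimage (isCompact_preimage_of_compact_open hlY hV hVc)
  have h2 := h1.image continuous_o
  convert h2 using 1
  ext x
  constructor
  · intro hx
    exact ⟨WithTopology.toTopology _ x, hx, rfl⟩
  · rintro ⟨z, hz, rfl⟩
    exact hz

theorem isProperMap_F_iff (f : X → Y) :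
    IsProperMap (F f) ↔ @IsProperMap X Y (constructibleTopology X) (constructibleTopology Y) f := by
  constructor
  · intro h
    have h1 := @Homeomorph.isProperMap X _ (constructibleTopology X) _ (homeo X)
    have h2 := @Homeomorph.isProperMap _ Y _ (constructibleTopology Y)
      (@Homeomorph.symm _ _ (constructibleTopology Y) _ (homeo Y))
    have key := @IsProperMap.comp X _ Y (constructibleTopology X) _ (constructibleTopology Y) _ _ h2
      (@IsProperMap.comp X _ _ (constructibleTopology X) _ _ _ _ h h1)
    exact key
  · intro h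
    have h1 := @Homeomorph.isProperMap _ X _ (constructibleTopology X)
      (@Homeomorph.symm _ _ (constructibleTopology X) _ (homeo X))
    have h2 := @Homeomorph.isProperMap Y _ (constructibleTopology Y) _ (homeo Y)
    have key := @IsProperMap.comp _ Y _ _ (constructibleTopology Y) _ _ _ h2
      (@IsProperMap.comp _ X Y _ (constructibleTopology X) (constructibleTopology Y) _ _ h h1)
    exact key

end General

theorem main3 {X Y : Scheme.{u}} [QuasiSeparatedSpace X]
    [QuasiSeparatedSpace Y] (f : X ⟶ Y) :
    QuasiCompact f ↔ @IsProperMap X Y (constructibleTopology X) (constructibleTopology Y) f := by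
  rw [← isProperMap_F_iff, quasiCompact_iff]
  constructor
  · intro h
    exact isProperMap_F (scheme_local X) (scheme_local Y) f f.continuous h
  · intro h V hV hVc
    exact qc_of_isProperMap_F (scheme_local Y) f h V hV hVc

end H4ConsTop
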