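import Mathlib

/-!
# One-dimensional irreducible Noetherian spaces: proper closed subsets are finite
-/

set_option autoImplicit false
universe u

namespace Groth.Agent.H4Curve

open TopologicalSpace

variable {α : Type*} [TopologicalSpace α]

/-- In a space of Krull dimension `≤ 1`, a point which is not a maximal point... more precisely:
if `ξ ⤳ z ⤳ c` with `ξ ≠ z` then `c = z`. -/
theorem eq_of_specializes_of_dim_le_one [T0Space α] (hdim : topologicalKrullDim α ≤ 1)
    {ξ z c : α} (h1 : ξ ⤳ z) (h1' : ξ ≠ z) (h2 : z ⤳ c) : c = z := by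
  by_contra hne
  let A₀ : IrreducibleCloseds α := ⟨closure {c}, isIrreducible_singleton.closure, isClosed_closure⟩
  let A₁ : IrreducibleCloseds α := ⟨closure {z}, isIrreducible_singleton.closure, isClosed_closure⟩
  let A₂ : IrreducibleCloseds α := ⟨closure {ξ}, isIrreducible_singleton.closure, isClosed_closure⟩
  have hlt : ∀ {a b : α}, a ⤳ b → a ≠ b →
      (⟨closure {b}, isIrreducible_singleton.closure, isClosed_closure⟩ : IrreducibleCloseds α) <
        ⟨closure {a}, isIrreducible_singleton.closure, isClosed_closure⟩ := by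
    intro a b hab hne'
    rw [lt_iff_le_and_ne]
    constructor
    · change closure {b} ⊆ closure {a}
      exact closure_minimal (Set.singleton_subset_iff.2 (specializes_iff_mem_closure.1 hab))
        isClosed_closure
    · intro heq
      have h3 : closure ({b} : Set α) = closure {a} := congrArg IrreducibleCloseds.carrier heq
      have hg : IsGenericPoint b (closure {a}) := h3
      exact hne' (hg.eq (rfl : IsGenericPoint a (closure {a}))).symm
  have h01 : A₀ < A₁ := hlt h2 (fun h => hne h.symm)
  have h12 : A₁ < A₂ := hlt h1 h1'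
  have e1 : Order.height A₀ + 1 ≤ Order.height A₁ := Order.height_add_one_le h01
  have e2 : Order.height A₁ + 1 ≤ Order.height A₂ := Order.height_add_one_le h12
  have e3 : (2 : ℕ∞) ≤ Order.height A₂ := by
    calc (2 : ℕ∞) = 0 + 1 + 1 := by norm_num
      _ ≤ Order.height A₀ + 1 + 1 := by gcongr; exact zero_le
      _ ≤ Order.height A₁ + 1 := by gcongr
      _ ≤ Order.height A₂ := e2
  have e4 : (Order.height A₂ : WithBot ℕ∞) ≤ topologicalKrullDim α := Order.height_le_krullDim A₂
  have e5 : ((2 : ℕ∞) : WithBot ℕ∞) ≤ 1 := (WithBot.coe_le_coe.2 e3).trans (e4.trans hdim)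
  have e6 : (2 : ℕ∞) ≤ 1 := by exact_mod_cast e5
  norm_num at e6

/-- In a Noetherian quasi-sober `T₀` space of dimension `≤ 1`, a closed subset all of whose points
are proper specializations of points outside... concretely: a closed subset in which every point
`z` admits a generization `ξ ≠ z` is finite. -/
theorem finite_of_isClosed_of_forall_exists_generization [T0Space α] [QuasiSober α]
    [NoetherianSpace α] (hdim : topologicalKrullDim α ≤ 1) {Z : Set α} (hZ : IsClosed Z)
    (h : ∀ z ∈ Z, ∃ ξ : α, ξ ⤳ z ∧ ξ ≠ z) : Z.Finite := by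
  obtain ⟨S, hSfin, hScl, hSirr, hSU⟩ :=
    NoetherianSpace.exists_finite_set_isClosed_irreducible hZ
  rw [hSU]
  refine hSfin.sUnion fun t ht => ?_
  obtain ⟨z, hz⟩ := QuasiSober.sober (hSirr t ht) (hScl t ht)
  have hzt : z ∈ t := hz.mem
  have hzZ : z ∈ Z := by
    rw [hSU]
    exact ⟨t, ht, hzt⟩
  obtain ⟨ξ, hξz, hne⟩ := h z hzZ
  have : t = {z} := by
    apply Set.Subset.antisymm
    · intro c hc
      rw [← hz.def] at hc
      exact eq_of_specializes_of_dim_le_one hdim hξz hne (specializes_iff_mem_closure.2 hc)
    · exact Set.singleton_subset_iff.2 hzt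
  rw [this]
  exact Set.finite_singleton z

end Groth.Agent.H4Curve
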