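import Mathlib
import Groth.Agent.Lib.helper26.KrullAkizuki

/-!
# Existence of a one-dimensional Noetherian local domain dominating a Noetherian local domain
(the "blow-up trick"), in terms of subrings of the fraction field.
-/

set_option autoImplicit false
universe u

namespace Groth.Agent.H4Dvr

open IsLocalRing

variable {K : Type u} [Field K]

/-- A valuation subring as a subalgebra over a subring it contains. -/
def valSubalg (R : Subring K) (V : ValuationSubring K) (h : R ≤ V.toSubring) : Subalgebra R K :=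
  { V.toSubring with algebraMap_mem' := fun r => h r.2 }

theorem isFractionRing_of_le (R E : Subring K) [IsFractionRing R K] (h : R ≤ E) :
    IsFractionRing E K := by
  have : FaithfulSMul E K := (faithfulSMul_iff_algebraMap_injective E K).2 Subtype.val_injective
  apply IsFractionRing.of_field
  intro z
  obtain ⟨a, b, -, rfl⟩ := IsFractionRing.div_surjective (A := R) z
  exact ⟨⟨a, h a.2⟩, ⟨b, h b.2⟩, rfl⟩

/-- The blow-up trick: a Noetherian local domain which is not a field is dominated by a
Noetherian local domain of dimension `≤ 1` with the same fraction field. -/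
theorem exists_dimLE_one (R : Subring K) [IsNoetherianRing R] [IsLocalRing R] [IsFractionRing R K]
    (hnf : maximalIdeal R ≠ ⊥) :
    ∃ (E : Subring K) (J : Ideal E), R ≤ E ∧ IsNoetherianRing E ∧ Ring.KrullDimLE 1 E ∧
      IsFractionRing E K ∧ J ≠ ⊤ ∧ ∀ r ∈ maximalIdeal R, ∃ e ∈ J, (e : K) = (r : K) := by
  classical
  obtain ⟨V, hRV, hV⟩ := Ideal.image_subset_nonunits_valuationSubring (maximalIdeal R)
    (Ideal.IsPrime.ne_top inferInstance)
  obtain ⟨s, hs⟩ : (maximalIdeal R).FG := IsNoetherian.noetherian _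
  have hsne : ∃ a ∈ s, a ≠ 0 := by
    by_contra h
    push Not at h
    apply hnf
    rw [← hs, Ideal.span_eq_bot]
    exact h
  obtain ⟨a₀, ha₀s, ha₀⟩ := hsne
  obtain ⟨x, hxs, hxmax⟩ := Finset.exists_max_image s (fun a => V.valuation (a : K)) ⟨a₀, ha₀s⟩
  have hx0 : (x : K) ≠ 0 := by
    intro h
    have h1 := hxmax a₀ ha₀s
    simp only [h, map_zero] at h1
    have h2 : V.valuation (a₀ : K) = 0 := le_antisymm h1 zero_le
    rw [map_eq_zero] at h2
    exact ha₀ (Subtype.ext h2)
  have hxm : x ∈ maximalIdeal R := hs ▸ Ideal.subset_span hxs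
  have hxV : (x : K) ∈ V.nonunits := hV ⟨x, hxm, rfl⟩
  let T : Set K := (fun a : R => (a : K) / (x : K)) '' (s : Set R)
  have hTfin : T.Finite := (Finset.finite_toSet s).image _
  let D : Subalgebra R K := Algebra.adjoin R T
  have hDV : D ≤ valSubalg R V hRV := by
    rw [Algebra.adjoin_le_iff]
    rintro _ ⟨a, ha, rfl⟩
    change (a : K) / (x : K) ∈ V
    rw [← ValuationSubring.valuation_le_one_iff, map_div₀]
    exact div_le_one_of_le₀ (hxmax a ha) zero_le
  have hDfg : D.FG := Subalgebra.fg_def.2 ⟨T, hTfin, rfl⟩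
  have hDft : Algebra.FiniteType R D := (Subalgebra.fg_iff_finiteType D).1 hDfg
  have hDnoeth : IsNoetherianRing D := Algebra.FiniteType.isNoetherianRing R D
  let D' : Subring K := D.toSubring
  have hRD : R ≤ D' := fun r hr => D.algebraMap_mem ⟨r, hr⟩
  have hD'noeth : IsNoetherianRing D' := hDnoeth
  have hD'fr : IsFractionRing D' K := isFractionRing_of_le R D' hRD
  let x' : D' := ⟨x, hRD x.2⟩
  let I : Ideal D' := Ideal.span {x'}
  have hI : I ≠ ⊤ := by
    rw [Ne, Ideal.span_singleton_eq_top]
    intro hu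
    obtain ⟨w, hw⟩ := hu.exists_right_inv
    have hwV : (w : K) ∈ V := hDV w.2
    have h1 : (x : K) * (w : K) = 1 := congrArg Subtype.val hw
    have h2 : V.valuation (x : K) < 1 := (ValuationSubring.mem_nonunits_iff V).1 hxV
    have h3 : V.valuation (w : K) ≤ 1 := (V.valuation_le_one_iff _).2 hwV
    have h4 := congrArg V.valuation h1
    rw [map_mul, map_one] at h4
    have h5 : V.valuation (x : K) * V.valuation (w : K) < 1 := by
      calc V.valuation (x : K) * V.valuation (w : K) ≤ V.valuation (x : K) * 1 :=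
            mul_le_mul_right h3 _
        _ < 1 := by rwa [mul_one]
    exact absurd h4 (ne_of_lt h5)
  have hsI : ∀ a ∈ s, (⟨a, hRD a.2⟩ : D') ∈ I := by
    intro a ha
    rw [Ideal.mem_span_singleton']
    have hmem : (a : K) / (x : K) ∈ D' := Algebra.subset_adjoin ⟨a, ha, rfl⟩
    refine ⟨⟨_, hmem⟩, Subtype.ext ?_⟩
    change (a : K) / (x : K) * (x : K) = (a : K)
    rw [div_mul_cancel₀ _ hx0]
  have hmI : ∀ r ∈ maximalIdeal R, (⟨r, hRD r.2⟩ : D') ∈ I := by
    intro r hr
    have hle : maximalIdeal R ≤ I.comap (Subring.inclusion hRD) := by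
      rw [← hs, Ideal.span_le]
      intro a ha
      exact hsI a ha
    exact hle hr
  obtain ⟨⟨q, hq⟩⟩ := Ideal.nonempty_minimalPrimes hI
  have hqp : q.IsPrime := hq.1.1
  have hht : q.height ≤ 1 := Ideal.height_le_one_of_isPrincipal_of_mem_minimalPrimes I q hq
  let E : Subring K := (LocalSubring.ofPrime D' q).toSubring
  have hD'E : D' ≤ E := LocalSubring.le_ofPrime D' q
  refine ⟨E, maximalIdeal E, hRD.trans hD'E, ?_, ?_, ?_, Ideal.IsPrime.ne_top inferInstance, ?_⟩
  · exact IsLocalization.isNoetherianRing q.primeCompl E hD'noeth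
  · rw [Ring.krullDimLE_iff, IsLocalization.AtPrime.ringKrullDim_eq_height q E]
    exact_mod_cast hht
  · exact IsFractionRing.isFractionRing_of_isDomain_of_isLocalization q.primeCompl E K
  · intro r hr
    refine ⟨algebraMap D' E ⟨r, hRD r.2⟩, ?_, rfl⟩
    rw [← IsLocalization.AtPrime.map_eq_maximalIdeal q E]
    exact Ideal.mem_map_of_mem _ (hq.1.2 (hmI r hr))

end Groth.Agent.H4Dvr
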