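import Mathlib
import Groth.Agent.Lib.helper26.KrullAkizuki
import Groth.Agent.Lib.helper4.DvrExists1

/-!
# Existence of DVRs dominating Noetherian local domains (finite extension case)
-/

set_option autoImplicit false
universe u

namespace Groth.Agent.H4Dvr

open IsLocalRing Groth.Agent.Lib.helper26.KrullAkizuki

variable {K L : Type u} [Field K] [Field L] [Algebra K L]

/-- A valuation subring of a finite extension `L` of `K` containing a Noetherian domain `E ⊆ K`
of dimension `≤ 1` with fraction field `K`, whose nonunits contain the image of a nonzero proper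
ideal of `E`: it is a DVR. -/
theorem exists_dvr_of_dimLE_one [FiniteDimensional K L]
    (E : Subring K) [IsNoetherianRing E] [Ring.KrullDimLE 1 E] [IsFractionRing E K]
    (J : Ideal E) (hJ : J ≠ ⊤) (hJ0 : J ≠ ⊥) :
    ∃ O : ValuationSubring L, IsDiscreteValuationRing O ∧ (∀ e : E, algebraMap K L e ∈ O) ∧
      ∀ e ∈ J, algebraMap K L (e : K) ∈ O.nonunits := by
  let f : K →+* L := algebraMap K L
  let φ : E ≃+* E.map f := Subring.equivMapOfInjective E f f.injective
  let J' : Ideal (E.map f) := J.comap φ.symm.toRingHom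
  have hJ' : J' ≠ ⊤ := Ideal.comap_ne_top _ hJ
  obtain ⟨O, hEO, hO⟩ := Ideal.image_subset_nonunits_valuationSubring J' hJ'
  have hmem : ∀ e : E, f e ∈ O := fun e => hEO (φ e).2
  have hnon : ∀ e ∈ J, f (e : K) ∈ O.nonunits := by
    intro e he
    apply hO
    refine ⟨φ e, ?_, rfl⟩
    change φ.symm (φ e) ∈ J
    rwa [RingEquiv.symm_apply_apply]
  refine ⟨O, ?_, hmem, hnon⟩
  let g : E →+* O := (Subring.inclusion hEO).comp φ.toRingHom
  let _ : Algebra E O := g.toAlgebra
  have : IsScalarTower E O L := IsScalarTower.of_algebraMap_eq (fun _ => rfl)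
  have hnoeth : IsNoetherianRing O := krullAkizuki E K L O (fun x y h => Subtype.ext h)
  have hnf : ¬ IsField O := by
    intro hF
    obtain ⟨e, heJ, he0⟩ := Submodule.exists_mem_ne_zero_of_ne_bot hJ0
    have hc := hnon e heJ
    have hc0 : f (e : K) ≠ 0 := by
      rw [Ne, map_eq_zero]
      exact fun h => he0 (Subtype.ext h)
    obtain ⟨w, hw⟩ := hF.mul_inv_cancel (a := (⟨f (e : K), hmem e⟩ : O))
      (fun h => hc0 (congrArg Subtype.val h))
    have h1 : f (e : K) * (w : L) = 1 := congrArg Subtype.val hw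
    have h2 : O.valuation (f (e : K)) < 1 := (ValuationSubring.mem_nonunits_iff O).1 hc
    have h3 : O.valuation (w : L) ≤ 1 := (O.valuation_le_one_iff _).2 w.2
    have h4 := congrArg O.valuation h1
    rw [map_mul, map_one] at h4
    have h5 : O.valuation (f (e : K)) * O.valuation (w : L) < 1 := by
      calc O.valuation (f (e : K)) * O.valuation (w : L) ≤ O.valuation (f (e : K)) * 1 :=
            mul_le_mul_right h3 _
        _ < 1 := by rwa [mul_one]
    exact absurd h4 (ne_of_lt h5)
  have h : IsDiscreteValuationRing O ↔ ValuationRing O :=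
    (IsDiscreteValuationRing.TFAE O hnf).out 0 1
  exact h.2 inferInstance

/-- A Noetherian local domain `R ⊆ K` (with fraction field `K`) which is not a field is
dominated by a discrete valuation ring of any finite extension `L` of `K`. -/
theorem exists_dvr_dominating_finite [FiniteDimensional K L]
    (R : Subring K) [IsNoetherianRing R] [IsLocalRing R] [IsFractionRing R K]
    (hnf : maximalIdeal R ≠ ⊥) :
    ∃ O : ValuationSubring L, IsDiscreteValuationRing O ∧ (∀ r : R, algebraMap K L r ∈ O) ∧
      ∀ r ∈ maximalIdeal R, algebraMap K L (r : K) ∈ O.nonunits := by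
  obtain ⟨E, J, hRE, hE1, hE2, hE3, hJ, hJm⟩ := exists_dimLE_one R hnf
  have hJ0 : J ≠ ⊥ := by
    obtain ⟨r, hr, hr0⟩ := Submodule.exists_mem_ne_zero_of_ne_bot hnf
    obtain ⟨e, heJ, he⟩ := hJm r hr
    intro h
    rw [h, Ideal.mem_bot] at heJ
    apply hr0
    apply Subtype.ext
    rw [← he, heJ]
    rfl
  obtain ⟨O, hO, hEO, hJO⟩ := exists_dvr_of_dimLE_one (L := L) E J hJ hJ0
  refine ⟨O, hO, fun r => hEO ⟨r, hRE r.2⟩, ?_⟩
  intro r hr
  obtain ⟨e, heJ, he⟩ := hJm r hr
  rw [← he]
  exact hJO e heJ

end Groth.Agent.H4Dvr
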