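import Mathlib
import Groth.Agent.Lib.helper4.DvrExists2

/-!
# Existence of DVRs dominating Noetherian local domains: finitely generated extensions
-/

set_option autoImplicit false
universe u

namespace Groth.Agent.H4Dvr

open IsLocalRing

variable {L : Type u} [Field L]

/-- One step: adjoin `x` or `x⁻¹` to a Noetherian local subring and localize, staying Noetherian
local and dominating. -/
theorem exists_step (R : Subring L) [IsNoetherianRing R] [IsLocalRing R] (x : L) :
    ∃ R₁ : Subring L, R ≤ R₁ ∧ (x ∈ R₁ ∨ x⁻¹ ∈ R₁) ∧ IsNoetherianRing R₁ ∧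
      ∃ (_ : IsLocalRing R₁), ∀ r ∈ maximalIdeal R, ∃ r₁ ∈ maximalIdeal R₁, (r₁ : L) = (r : L) := by
  obtain ⟨V, hRV, hV⟩ := Ideal.image_subset_nonunits_valuationSubring (maximalIdeal R)
    (Ideal.IsPrime.ne_top inferInstance)
  obtain ⟨x', hx'V, hx'⟩ : ∃ x', x' ∈ V ∧ (x' = x ∨ x' = x⁻¹) :=
    (V.mem_or_inv_mem x).elim (fun h => ⟨x, h, Or.inl rfl⟩) (fun h => ⟨x⁻¹, h, Or.inr rfl⟩)
  let D : Subalgebra R L := Algebra.adjoin R {x'}
  have hDV : D ≤ valSubalg R V hRV := by
    rw [Algebra.adjoin_le_iff, Set.singleton_subset_iff]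
    exact hx'V
  have hDfg : D.FG := Subalgebra.fg_def.2 ⟨{x'}, Set.finite_singleton _, rfl⟩
  have hDft : Algebra.FiniteType R D := (Subalgebra.fg_iff_finiteType D).1 hDfg
  have hDnoeth : IsNoetherianRing D := Algebra.FiniteType.isNoetherianRing R D
  let D' : Subring L := D.toSubring
  have hRD : R ≤ D' := fun r hr => D.algebraMap_mem ⟨r, hr⟩
  have hD'V : D' ≤ V.toSubring := hDV
  have hD'noeth : IsNoetherianRing D' := hDnoeth
  have hx'D : x' ∈ D' := Algebra.subset_adjoin rfl
  let P : Ideal D' := (maximalIdeal V).comap (Subring.inclusion hD'V)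
  have hP : P.IsPrime := Ideal.comap_isPrime _ _
  let R₁ : Subring L := (LocalSubring.ofPrime D' P).toSubring
  have hD'R₁ : D' ≤ R₁ := LocalSubring.le_ofPrime D' P
  refine ⟨R₁, hRD.trans hD'R₁, ?_, ?_, inferInstance, ?_⟩
  · rcases hx' with h | h
    · exact Or.inl (h ▸ hD'R₁ hx'D)
    · exact Or.inr (h ▸ hD'R₁ hx'D)
  · exact IsLocalization.isNoetherianRing P.primeCompl R₁ hD'noeth
  · intro r hr
    refine ⟨algebraMap D' R₁ ⟨r, hRD r.2⟩, ?_, rfl⟩
    rw [← IsLocalization.AtPrime.map_eq_maximalIdeal P R₁]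
    apply Ideal.mem_map_of_mem
    change Subring.inclusion hD'V ⟨r, hRD r.2⟩ ∈ maximalIdeal V
    have h1 : (r : L) ∈ V.nonunits := hV ⟨r, hr, rfl⟩
    obtain ⟨h2, h3⟩ := ValuationSubring.mem_nonunits_iff_exists_mem_maximalIdeal.1 h1
    exact h3

theorem isFractionRing_of_closure_eq_top (R : Subring L)
    (h : Subfield.closure (R : Set L) = ⊤) : IsFractionRing R L := by
  have : FaithfulSMul R L := (faithfulSMul_iff_algebraMap_injective R L).2 Subtype.val_injective
  apply IsFractionRing.of_field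
  intro z
  have hz : z ∈ Subfield.closure (R : Set L) := h ▸ Subfield.mem_top z
  rw [Subfield.mem_closure_iff, Subring.closure_eq] at hz
  obtain ⟨a, ha, b, hb, rfl⟩ := hz
  exact ⟨⟨a, ha⟩, ⟨b, hb⟩, rfl⟩

/-- A Noetherian local subring `R` of a field `L`, not a field, such that `L` is generated as a
field by `R` and a finite set, is dominated by a DVR of `L`. -/
theorem exists_dvr_dominating_fg (S : Finset L) :
    ∀ (R : Subring L) [IsNoetherianRing R] [IsLocalRing R], maximalIdeal R ≠ ⊥ →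
      Subfield.closure ((R : Set L) ∪ S) = ⊤ →
      ∃ O : ValuationSubring L, IsDiscreteValuationRing O ∧ R ≤ O.toSubring ∧
        ∀ r ∈ maximalIdeal R, (r : L) ∈ O.nonunits := by
  classical
  induction S using Finset.induction_on with
  | empty =>
    intro R _ _ hnf hcl
    rw [Finset.coe_empty, Set.union_empty] at hcl
    have := isFractionRing_of_closure_eq_top R hcl
    obtain ⟨O, hO, h1, h2⟩ := exists_dvr_dominating_finite (K := L) (L := L) R hnf
    exact ⟨O, hO, fun r hr => h1 ⟨r, hr⟩, h2⟩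
  | insert x S hxS ih =>
    intro R _ _ hnf hcl
    obtain ⟨R₁, hRR₁, hx, hnoeth, hloc, hmax⟩ := exists_step R x
    have hnf₁ : maximalIdeal R₁ ≠ ⊥ := by
      obtain ⟨r, hr, hr0⟩ := Submodule.exists_mem_ne_zero_of_ne_bot hnf
      obtain ⟨r₁, hr₁, he⟩ := hmax r hr
      intro h
      rw [h, Ideal.mem_bot] at hr₁
      apply hr0
      apply Subtype.ext
      rw [← he, hr₁]
      rfl
    have hcl₁ : Subfield.closure ((R₁ : Set L) ∪ S) = ⊤ := by
      rw [eq_top_iff, ← hcl, Subfield.closure_le]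
      rintro z (hz | hz)
      · exact Subfield.subset_closure (Or.inl (hRR₁ hz))
      · rw [Finset.coe_insert, Set.mem_insert_iff] at hz
        rcases hz with rfl | hz
        · rcases hx with hx | hx
          · exact Subfield.subset_closure (Or.inl hx)
          · have := (Subfield.closure ((R₁ : Set L) ∪ S)).inv_mem
              (Subfield.subset_closure (Or.inl hx))
            rwa [inv_inv] at this
        · exact Subfield.subset_closure (Or.inr hz)
    obtain ⟨O, hO, h1, h2⟩ := ih R₁ hnf₁ hcl₁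
    refine ⟨O, hO, hRR₁.trans h1, ?_⟩
    intro r hr
    obtain ⟨r₁, hr₁, he⟩ := hmax r hr
    rw [← he]
    exact h2 r₁ hr₁

end Groth.Agent.H4Dvr
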