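import Mathlib
import Groth.Agent.Lib.helper4.DvrExists4

/-!
# Existence of DVRs dominating Noetherian local domains: abstract form, f.g. extensions (S4433)
-/

set_option autoImplicit false
universe u

namespace Groth.Agent.H4Dvr

open IsLocalRing

/-- abstract version with an injective map to a field generated by the image and a finite set -/
theorem exists_dvr_abstract_of_closure (A : Type u) [CommRing A] [IsNoetherianRing A]
    [IsLocalRing A] (L : Type u) [Field L] (f : A →+* L) (hf : Function.Injective f)
    (hA : ¬ IsField A) (S : Finset L)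
    (hcl : Subfield.closure (Set.range f ∪ S) = ⊤) :
    ∃ R : ValuationSubring L, IsDiscreteValuationRing R ∧ (∀ a : A, f a ∈ R) ∧
      ∀ a ∈ IsLocalRing.maximalIdeal A, R.valuation (f a) < 1 := by
  let R₀ : Subring L := f.range
  let e : A ≃+* R₀ := RingEquiv.ofBijective f.rangeRestrict
    ⟨fun a b h => hf (congrArg Subtype.val h), f.rangeRestrict_surjective⟩
  have he : ∀ a, ((e a : R₀) : L) = f a := fun a => rfl
  have h1 : IsNoetherianRing R₀ := isNoetherianRing_of_ringEquiv A e
  have h2 : IsLocalRing R₀ := e.isLocalRing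
  have hmax : ∀ a ∈ maximalIdeal A, e a ∈ maximalIdeal R₀ := by
    intro a ha
    rw [mem_maximalIdeal, mem_nonunits_iff] at ha ⊢
    intro hu
    apply ha
    have := hu.map e.symm
    rwa [RingEquiv.symm_apply_apply] at this
  have h4 : maximalIdeal R₀ ≠ ⊥ := by
    have hm : maximalIdeal A ≠ ⊥ := fun h => hA (isField_iff_maximalIdeal_eq.2 h)
    obtain ⟨a, ha, ha0⟩ := Submodule.exists_mem_ne_zero_of_ne_bot hm
    intro h
    have := hmax a ha
    rw [h, Ideal.mem_bot] at this
    exact ha0 (e.injective (by rw [this, map_zero]))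
  have hcl' : Subfield.closure ((R₀ : Set L) ∪ S) = ⊤ := by
    rw [← hcl]
    rfl
  obtain ⟨O, hO, hRO, hmO⟩ := exists_dvr_dominating_fg S R₀ h4 hcl'
  refine ⟨O, hO, fun a => hRO (e a).2, ?_⟩
  intro a ha
  rw [← ValuationSubring.mem_nonunits_iff]
  exact hmO (e a) (hmax a ha)

/-- S4433 -/
theorem exists_dvr_abstract_fg (A : Type u) [CommRing A] [IsDomain A] [IsNoetherianRing A]
    [IsLocalRing A] (hA : ¬ IsField A) (K : Type u) [Field K] [Algebra A K] [IsFractionRing A K]
    (L : Type u) [Field L] [Algebra K L] [Algebra A L] [IsScalarTower A K L]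
    (hfg : (⊤ : IntermediateField K L).FG) :
    ∃ R : ValuationSubring L, IsDiscreteValuationRing R ∧ (∀ a : A, algebraMap A L a ∈ R) ∧
      ∀ a ∈ IsLocalRing.maximalIdeal A, R.valuation (algebraMap A L a) < 1 := by
  obtain ⟨S, hS⟩ := hfg
  have hf : Function.Injective (algebraMap A L) := by
    rw [IsScalarTower.algebraMap_eq A K L]
    exact (algebraMap K L).injective.comp (IsFractionRing.injective A K)
  apply exists_dvr_abstract_of_closure A L (algebraMap A L) hf hA S
  rw [eq_top_iff]
  intro z _
  let F := Subfield.closure (Set.range (algebraMap A L) ∪ (S : Set L))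
  let F' : IntermediateField K L :=
    { F with
      algebraMap_mem' := by
        intro k
        obtain ⟨a, b, -, rfl⟩ := IsFractionRing.div_surjective (A := A) k
        rw [map_div₀, ← IsScalarTower.algebraMap_apply, ← IsScalarTower.algebraMap_apply]
        exact F.div_mem (Subfield.subset_closure (Or.inl ⟨a, rfl⟩))
          (Subfield.subset_closure (Or.inl ⟨b, rfl⟩)) }
  have hle : IntermediateField.adjoin K (S : Set L) ≤ F' := by
    rw [IntermediateField.adjoin_le_iff]
    intro s hs
    exact Subfield.subset_closure (Or.inr hs)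
  rw [hS] at hle
  exact hle (IntermediateField.mem_top)

end Groth.Agent.H4Dvr
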