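import Mathlib
import Groth.Agent.Lib.helper4.DvrExists5

/-!
# Integral closure as intersection of DVRs (Noetherian case, f.g. extension) (S4434)
-/

set_option autoImplicit false
universe u

namespace Groth.Agent.H4Dvr

open IsLocalRing Polynomial Algebra

variable {L : Type u} [Field L]

theorem exists_dvr_not_mem (R : Subring L) [IsNoetherianRing R] (S : Finset L)
    (hcl : Subfield.closure ((R : Set L) ∪ S) = ⊤) (x : L) (hx : ¬ IsIntegral R x) :
    ∃ O : ValuationSubring L, IsDiscreteValuationRing O ∧ R ≤ O.toSubring ∧ x ∉ O := by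
  have hx0 : x ≠ 0 := by
    rintro rfl
    exact hx isIntegral_zero
  let _ := invertibleOfNonzero hx0
  let B := R[x⁻¹]
  let xinv : B.toSubring := ⟨x⁻¹, subset_adjoin rfl⟩
  have hspan : Ideal.span {xinv} ≠ ⊤ := fun eq ↦ hx <|
    have ⟨p, hp, hpx⟩ := exists_aeval_invOf_eq_zero_of_idealMap_adjoin_sup_span_eq_top _
      (⊥ : Ideal R) bot_ne_top (top_unique <| eq.ge.trans le_add_self)
    ⟨p, by simpa [Monic, sub_eq_zero] using hp, by simpa [aeval_def] using hpx⟩
  have hBfg : B.FG := Subalgebra.fg_def.2 ⟨{x⁻¹}, Set.finite_singleton _, rfl⟩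
  have hBft : Algebra.FiniteType R B := (Subalgebra.fg_iff_finiteType B).1 hBfg
  have hBnoeth : IsNoetherianRing B := Algebra.FiniteType.isNoetherianRing R B
  let B' : Subring L := B.toSubring
  have hRB : R ≤ B' := fun r hr => B.algebraMap_mem ⟨r, hr⟩
  have hB'noeth : IsNoetherianRing B' := hBnoeth
  obtain ⟨M, hM, hle⟩ := Ideal.exists_le_maximal _ hspan
  have hMp : M.IsPrime := hM.isPrime
  let R₁ : Subring L := (LocalSubring.ofPrime B' M).toSubring
  have hB'R₁ : B' ≤ R₁ := LocalSubring.le_ofPrime B' M
  have hR₁noeth : IsNoetherianRing R₁ := IsLocalization.isNoetherianRing M.primeCompl R₁ hB'noeth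
  have hxinv : algebraMap B' R₁ xinv ∈ maximalIdeal R₁ := by
    rw [← IsLocalization.AtPrime.map_eq_maximalIdeal M R₁]
    exact Ideal.mem_map_of_mem _ (hle (Ideal.subset_span rfl))
  have hnf : maximalIdeal R₁ ≠ ⊥ := by
    intro h
    rw [h, Ideal.mem_bot] at hxinv
    have h0 : (x⁻¹ : L) = 0 := congrArg Subtype.val hxinv
    exact hx0 (inv_eq_zero.1 h0)
  have hcl₁ : Subfield.closure ((R₁ : Set L) ∪ S) = ⊤ := by
    rw [_root_.eq_top_iff, ← hcl, Subfield.closure_le]
    rintro z (hz | hz)
    · exact Subfield.subset_closure (Or.inl (hB'R₁ (hRB hz)))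
    · exact Subfield.subset_closure (Or.inr hz)
  obtain ⟨O, hO, h1, h2⟩ := exists_dvr_dominating_fg S R₁ hnf hcl₁
  refine ⟨O, hO, (hRB.trans hB'R₁).trans h1, ?_⟩
  have h3 : (x⁻¹ : L) ∈ O.nonunits := h2 _ hxinv
  exact (O.inv_mem_nonunits_iff.mp h3).resolve_left hx0

/-- S4434 -/
theorem isIntegral_iff_mem_dvr (A : Type u) [CommRing A] [IsDomain A] [IsNoetherianRing A]
    (K : Type u) [Field K] [Algebra A K] [IsFractionRing A K]
    (L : Type u) [Field L] [Algebra K L] [Algebra A L] [IsScalarTower A K L]
    (hfg : (⊤ : IntermediateField K L).FG) (x : L) :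
    IsIntegral A x ↔ ∀ R : ValuationSubring L, IsDiscreteValuationRing R →
      (∀ a : A, algebraMap A L a ∈ R) → x ∈ R := by
  constructor
  · intro hx R _ hAR
    let φ : A →+* R := (algebraMap A L).codRestrict R.toSubring hAR
    have h1 : IsIntegral R x :=
      IsIntegral.map_of_comp_eq φ (RingHom.id L) (by ext; rfl) hx
    obtain ⟨y, hy⟩ := IsIntegrallyClosed.isIntegral_iff.1 h1
    rw [← hy]
    exact y.2
  · intro h
    by_contra hx
    obtain ⟨S, hS⟩ := hfg
    have hf : Function.Injective (algebraMap A L) := by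
      rw [IsScalarTower.algebraMap_eq A K L]
      exact (algebraMap K L).injective.comp (IsFractionRing.injective A K)
    let f := algebraMap A L
    let R₀ : Subring L := f.range
    let e : A ≃+* R₀ := RingEquiv.ofBijective f.rangeRestrict
      ⟨fun a b h => hf (congrArg Subtype.val h), f.rangeRestrict_surjective⟩
    have h1 : IsNoetherianRing R₀ := isNoetherianRing_of_ringEquiv A e
    have hx' : ¬ IsIntegral R₀ x := by
      intro hi
      apply hx
      exact IsIntegral.map_of_comp_eq e.symm.toRingHom (RingHom.id L) (by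
        ext r
        obtain ⟨a, rfl⟩ := e.surjective r
        simp only [RingHom.comp_apply, RingEquiv.toRingHom_eq_coe, RingHom.coe_coe,
          RingEquiv.symm_apply_apply, RingHom.id_apply]
        rfl) hi
    have hcl : Subfield.closure ((R₀ : Set L) ∪ S) = ⊤ := by
      rw [_root_.eq_top_iff]
      intro z _
      let F := Subfield.closure ((R₀ : Set L) ∪ (S : Set L))
      let F' : IntermediateField K L :=
        { F with
          algebraMap_mem' := by
            intro k
            obtain ⟨a, b, -, rfl⟩ := IsFractionRing.div_surjective (A := A) k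
            rw [map_div₀, ← IsScalarTower.algebraMap_apply, ← IsScalarTower.algebraMap_apply]
            exact F.div_mem (Subfield.subset_closure (Or.inl ⟨a, rfl⟩))
              (Subfield.subset_closure (Or.inl ⟨b, rfl⟩)) }
      have hle : IntermediateField.adjoin K (S : Set L) ≤ F' := by
        rw [IntermediateField.adjoin_le_iff]
        intro s hs
        exact Subfield.subset_closure (Or.inr hs)
      rw [hS] at hle
      exact hle (IntermediateField.mem_top)
    obtain ⟨O, hO, hRO, hxO⟩ := exists_dvr_not_mem R₀ S hcl x hx'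
    exact hxO (h O hO (fun a => hRO ⟨a, rfl⟩))

end Groth.Agent.H4Dvr
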