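import Mathlib
import Groth.Agent.Lib.helper4.DvrExists5

/-!
# DVR factorization of a ring hom from a Noetherian local ring to a field;
finite generation of residue fields for essentially finite type maps.
-/

set_option autoImplicit false
universe u

namespace Groth.Agent.H4Dvr

open IsLocalRing

/-- A ring hom `f` from a Noetherian local ring to a field `L`, not killing the maximal ideal,
such that `L` is generated as a field by the image and a finite set, factors through a DVR of `L`
via a local homomorphism. -/
theorem exists_dvr_of_ringHom (R : Type u) [CommRing R] [IsNoetherianRing R] [IsLocalRing R]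
    (L : Type u) [Field L] (f : R →+* L) (hker : ∃ a ∈ maximalIdeal R, f a ≠ 0) (S : Finset L)
    (hcl : Subfield.closure (Set.range f ∪ S) = ⊤) :
    ∃ (O : ValuationSubring L) (h : ∀ a, f a ∈ O), IsDiscreteValuationRing O ∧
      IsLocalHom (f.codRestrict O.toSubring h) := by
  let R₀ : Subring L := f.range
  have hsurj : Function.Surjective f.rangeRestrict := f.rangeRestrict_surjective
  have h1 : IsNoetherianRing R₀ := isNoetherianRing_of_surjective R R₀ f.rangeRestrict hsurj
  have h2 : IsLocalRing R₀ := IsLocalRing.of_surjective' f.rangeRestrict hsurj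
  have h3 : IsLocalHom f.rangeRestrict := IsLocalHom.of_surjective _ hsurj
  have hmax : ∀ a ∈ maximalIdeal R, f.rangeRestrict a ∈ maximalIdeal R₀ := by
    intro a ha
    rw [mem_maximalIdeal, mem_nonunits_iff] at ha ⊢
    exact fun hu => ha (isUnit_of_map_unit f.rangeRestrict a hu)
  have h4 : maximalIdeal R₀ ≠ ⊥ := by
    obtain ⟨a, ha, ha0⟩ := hker
    intro h
    have := hmax a ha
    rw [h, Ideal.mem_bot] at this
    exact ha0 (congrArg Subtype.val this)
  obtain ⟨O, hO, hRO, hmO⟩ := exists_dvr_dominating_fg S R₀ h4 hcl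
  refine ⟨O, fun a => hRO ⟨a, rfl⟩, hO, ⟨?_⟩⟩
  intro a hu
  by_contra hna
  have ha : a ∈ maximalIdeal R := by rwa [mem_maximalIdeal, mem_nonunits_iff]
  have h5 : f a ∈ O.nonunits := hmO _ (hmax a ha)
  obtain ⟨h6, h7⟩ := ValuationSubring.mem_nonunits_iff_exists_mem_maximalIdeal.1 h5
  rw [mem_maximalIdeal, mem_nonunits_iff] at h7
  exact h7 hu

/-- If `ψ : R → S` is essentially of finite type and `ρ : S → L` is a surjection onto a field,
then `L` is generated as a field by the image of `R` and a finite set. -/
theorem closure_eq_top_of_essFiniteType {R S L : Type u} [CommRing R] [CommRing S] [Field L]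
    (ψ : R →+* S) (hψ : ψ.EssFiniteType) (ρ : S →+* L) (hρ : Function.Surjective ρ) :
    ∃ T : Finset L, Subfield.closure (Set.range (ρ.comp ψ) ∪ T) = ⊤ := by
  classical
  letI := ψ.toAlgebra
  have hess : Algebra.EssFiniteType R S := hψ
  let s := Algebra.EssFiniteType.finset R S
  refine ⟨s.image ρ, ?_⟩
  rw [eq_top_iff]
  intro z _
  obtain ⟨σ, rfl⟩ := hρ z
  let F := Subfield.closure (Set.range (ρ.comp ψ) ∪ ↑(s.image ρ))
  have hadj : ∀ a ∈ Algebra.adjoin R (s : Set S), ρ a ∈ F := by
    intro a ha
    induction ha using Algebra.adjoin_induction with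
    | mem x hx =>
      refine Subfield.subset_closure (Or.inr ?_)
      rw [Finset.coe_image]
      exact ⟨x, hx, rfl⟩
    | algebraMap r => exact Subfield.subset_closure (Or.inl ⟨r, rfl⟩)
    | add x y _ _ hx hy => rw [map_add]; exact F.add_mem hx hy
    | mul x y _ _ hx hy => rw [map_mul]; exact F.mul_mem hx hy
  obtain ⟨⟨a, b⟩, hab⟩ := IsLocalization.surj (Algebra.EssFiniteType.submonoid R S) σ
  have hb : IsUnit ((b : Algebra.EssFiniteType.subalgebra R S) : S) := b.2
  have hb0 : ρ ((b : Algebra.EssFiniteType.subalgebra R S) : S) ≠ 0 := (hb.map ρ).ne_zero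
  have h1 : ρ σ * ρ ((b : Algebra.EssFiniteType.subalgebra R S) : S) = ρ (a : S) := by
    rw [← map_mul]
    exact congrArg ρ hab
  have h2 : ρ σ = ρ (a : S) / ρ ((b : Algebra.EssFiniteType.subalgebra R S) : S) := by
    rw [eq_div_iff hb0, h1]
  rw [h2]
  exact F.div_mem (hadj _ a.2) (hadj _ (b : Algebra.EssFiniteType.subalgebra R S).2)

end Groth.Agent.H4Dvr
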