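import Mathlib
import Groth.Agent.Lib.helper4.DvrExists6

/-!
# A DVR containing a Noetherian subring in which a given finite set of nonunits of a valuation
ring stays in the maximal ideal

(Reconstructed by lead: the original `DvrExists8.lean` of helper4 never reached `origin/main`,
although `DvrProper1`, `DvrProper3`, `DvrProper6`, `FFProper` and `Rat2` use it.)
-/

set_option autoImplicit false
universe u

namespace Groth.Agent.H4Dvr

open IsLocalRing Polynomial Algebra

variable {L : Type u} [Field L]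

theorem exists_dvr_of_finite_nonunits (R : Subring L) [IsNoetherianRing R]
    (W : ValuationSubring L) (hRW : R ≤ W.toSubring) (T : Set L) (hT : T.Finite)
    (hTW : T ⊆ W.nonunits) (hT0 : ∃ t ∈ T, t ≠ 0) (S : Finset L)
    (hcl : Subfield.closure ((R : Set L) ∪ S) = ⊤) :
    ∃ O : ValuationSubring L, IsDiscreteValuationRing O ∧ R ≤ O.toSubring ∧
      T ⊆ O.nonunits := by
  let B : Subalgebra R L := Algebra.adjoin R T
  have hBfg : B.FG := Subalgebra.fg_def.2 ⟨T, hT, rfl⟩
  have hBft : Algebra.FiniteType R B := (Subalgebra.fg_iff_finiteType B).1 hBfg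
  have hBnoeth : IsNoetherianRing B := Algebra.FiniteType.isNoetherianRing R B
  let B' : Subring L := B.toSubring
  have hRB : R ≤ B' := fun r hr => B.algebraMap_mem ⟨r, hr⟩
  have hB'noeth : IsNoetherianRing B' := hBnoeth
  have hTWmem : ∀ t ∈ T, t ∈ W := fun t ht => (W.mem_nonunits_iff_exists_mem_maximalIdeal.1
    (hTW ht)).1
  have hBW : B' ≤ W.toSubring := by
    intro z hz
    have hz' : z ∈ Algebra.adjoin R T := hz
    refine Algebra.adjoin_induction (p := fun z _ => z ∈ W.toSubring) ?_ ?_ ?_ ?_ hz'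
    · intro t ht
      exact hTWmem t ht
    · intro r
      exact hRW r.2
    · intro a b _ _ ha hb
      exact W.toSubring.add_mem ha hb
    · intro a b _ _ ha hb
      exact W.toSubring.mul_mem ha hb
  let ι : B' →+* W := Subring.inclusion hBW
  let M : Ideal B' := (maximalIdeal W).comap ι
  have hMp : M.IsPrime := Ideal.comap_isPrime ι _
  have hTB : ∀ t ∈ T, t ∈ B' := fun t ht => Algebra.subset_adjoin ht
  have hTM : ∀ (t : L) (ht : t ∈ T), (⟨t, hTB t ht⟩ : B') ∈ M := by
    intro t ht
    have h1 := (W.mem_nonunits_iff_exists_mem_maximalIdeal.1 (hTW ht))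
    obtain ⟨h2, h3⟩ := h1
    exact h3
  let R₁ : Subring L := (LocalSubring.ofPrime B' M).toSubring
  have hB'R₁ : B' ≤ R₁ := LocalSubring.le_ofPrime B' M
  have hR₁noeth : IsNoetherianRing R₁ := IsLocalization.isNoetherianRing M.primeCompl R₁ hB'noeth
  have hTmax : ∀ (t : L) (ht : t ∈ T), algebraMap B' R₁ ⟨t, hTB t ht⟩ ∈ maximalIdeal R₁ := by
    intro t ht
    rw [← IsLocalization.AtPrime.map_eq_maximalIdeal M R₁]
    exact Ideal.mem_map_of_mem _ (hTM t ht)
  have hnf : maximalIdeal R₁ ≠ ⊥ := by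
    intro h
    obtain ⟨t, ht, ht0⟩ := hT0
    have h1 := hTmax t ht
    rw [h, Ideal.mem_bot] at h1
    have h0 : (t : L) = 0 := congrArg Subtype.val h1
    exact ht0 h0
  have hcl₁ : Subfield.closure ((R₁ : Set L) ∪ S) = ⊤ := by
    rw [_root_.eq_top_iff, ← hcl, Subfield.closure_le]
    rintro z (hz | hz)
    · exact Subfield.subset_closure (Or.inl (hB'R₁ (hRB hz)))
    · exact Subfield.subset_closure (Or.inr hz)
  obtain ⟨O, hO, h1, h2⟩ := exists_dvr_dominating_fg S R₁ hnf hcl₁
  refine ⟨O, hO, (hRB.trans hB'R₁).trans h1, ?_⟩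
  intro t ht
  exact h2 _ (hTmax t ht)

end Groth.Agent.H4Dvr
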