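import Mathlib
import Groth.Agent.Lib.helper4.DvrExists7
import Groth.Agent.Lib.helper4.DvrExists8

/-!
# From DVR-existence to centres of DVRs of residue fields (chart lemmas)
-/

set_option autoImplicit false
universe u

namespace Groth.Agent.H4Dvr

open AlgebraicGeometry CategoryTheory Limits IsLocalRing

variable {X Y : Scheme.{u}} (f : X ⟶ Y)

/-- The DVR existence part of the valuative criterion. -/
def DvrExistence (f : X ⟶ Y) : Prop :=
  ∀ (A : Type u) [CommRing A] [IsDomain A] [IsDiscreteValuationRing A]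
    (x : Spec (CommRingCat.of (FractionRing A)) ⟶ X) (y : Spec (CommRingCat.of A) ⟶ Y),
    x ≫ f = Spec.map (CommRingCat.ofHom (algebraMap A (FractionRing A))) ≫ y →
    ∃ l : Spec (CommRingCat.of A) ⟶ X, l ≫ f = y ∧
      Spec.map (CommRingCat.ofHom (algebraMap A (FractionRing A))) ≫ l = x

/-- `Γ(U) → k(x)` for `x ∈ U`. -/
noncomputable def toResidue {U : X.Opens} (x : X) (hx : x ∈ U) : Γ(X, U) ⟶ X.residueField x :=
  X.presheaf.germ U x hx ≫ X.residue x

theorem fromSpecResidueField_eq {U : X.Opens} (hU : IsAffineOpen U) (x : X) (hx : x ∈ U) :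
    X.fromSpecResidueField x = Spec.map (toResidue x hx) ≫ hU.fromSpec := by
  rw [Scheme.fromSpecResidueField, ← hU.fromSpecStalk_eq_fromSpecStalk hx,
    IsAffineOpen.fromSpecStalk, toResidue, Spec.map_comp, Category.assoc]

theorem eq_SpecMap_fromSpec {R : CommRingCat.{u}} [IsLocalRing R] (l : Spec R ⟶ X)
    {U : X.Opens} (hU : IsAffineOpen U) (h : l (closedPoint R) ∈ U) :
    l = Spec.map (X.presheaf.germ U _ h ≫ Scheme.stalkClosedPointTo l) ≫ hU.fromSpec := by
  conv_lhs => rw [← Scheme.Spec_stalkClosedPointTo_fromSpecStalk l,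
    ← hU.fromSpecStalk_eq_fromSpecStalk h, IsAffineOpen.fromSpecStalk]
  rw [Spec.map_comp, Category.assoc]

theorem appLE_germ (Y₀ : Y.Opens) (U : X.Opens) (e : U ≤ f ⁻¹ᵁ Y₀) (x : X) (hx : x ∈ U) :
    f.appLE Y₀ U e ≫ X.presheaf.germ U x hx =
      Y.presheaf.germ Y₀ (f x) (e hx) ≫ f.stalkMap x := by
  simp [Scheme.Hom.germ_stalkMap, Scheme.Hom.appLE]

/-- `Γ(Y₀) → k(x)` for `f x ∈ Y₀`. -/
noncomputable def baseToResidue {Y₀ : Y.Opens} (x : X) (hx : f x ∈ Y₀) :
    Γ(Y, Y₀) ⟶ X.residueField x :=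
  Y.presheaf.germ Y₀ (f x) hx ≫ f.stalkMap x ≫ X.residue x

theorem appLE_toResidue (Y₀ : Y.Opens) (U : X.Opens) (e : U ≤ f ⁻¹ᵁ Y₀) (x : X) (hx : x ∈ U) :
    f.appLE Y₀ U e ≫ toResidue x hx = baseToResidue f x (e hx) := by
  rw [toResidue, ← Category.assoc, appLE_germ, Category.assoc, baseToResidue]

end Groth.Agent.H4Dvr
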