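import Mathlib
import Groth.Agent.Lib.helper4.DvrProper1

/-!
# Centre of a DVR of the residue field `k(x)` on a chart (from DVR-existence)
-/

set_option autoImplicit false
universe u

namespace Groth.Agent.H4Dvr

open AlgebraicGeometry CategoryTheory Limits IsLocalRing

variable {X Y : Scheme.{u}} (f : X ⟶ Y)

theorem exists_chart_of_dvr (H : DvrExistence f) (x : X) {Y₀ : Y.Opens} (hY₀ : IsAffineOpen Y₀)
    (hx : f x ∈ Y₀) (O : ValuationSubring (X.residueField x)) [IsDiscreteValuationRing O]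
    (hO : ∀ b, (baseToResidue f x hx).hom b ∈ O)
    {ι : Type*} (𝒰 : ι → X.Opens) (h𝒰 : ∀ i, IsAffineOpen (𝒰 i)) (hle : ∀ i, 𝒰 i ≤ f ⁻¹ᵁ Y₀)
    (hcov : ∀ z : X, f z ∈ Y₀ → ∃ i, z ∈ 𝒰 i) :
    ∃ (i : ι) (hxi : x ∈ 𝒰 i), ∀ e, (toResidue x hxi).hom e ∈ O := by
  let eO : FractionRing O ≃ₐ[O] X.residueField x := FractionRing.algEquiv O (X.residueField x)
  let βO : Γ(Y, Y₀) ⟶ CommRingCat.of O :=
    CommRingCat.ofHom ((baseToResidue f x hx).hom.codRestrict O.toSubring hO)
  let incl : CommRingCat.of O ⟶ X.residueField x := CommRingCat.ofHom O.subtype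
  let alg : CommRingCat.of O ⟶ CommRingCat.of (FractionRing O) :=
    CommRingCat.ofHom (algebraMap O (FractionRing O))
  let einv : X.residueField x ⟶ CommRingCat.of (FractionRing O) :=
    CommRingCat.ofHom (eO.symm : X.residueField x →+* FractionRing O)
  have halg : alg = incl ≫ einv := by
    ext a
    exact (eO.symm_apply_eq.2 (eO.commutes a).symm).symm
  have hβ : baseToResidue f x hx = βO ≫ incl := rfl
  let xA : Spec (CommRingCat.of (FractionRing O)) ⟶ X := Spec.map einv ≫ X.fromSpecResidueField x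
  let yA : Spec (CommRingCat.of O) ⟶ Y := Spec.map βO ≫ hY₀.fromSpec
  have hsq : xA ≫ f = Spec.map alg ≫ yA := by
    obtain ⟨i₀, hxi₀⟩ := hcov x hx
    change (Spec.map einv ≫ X.fromSpecResidueField x) ≫ f = Spec.map alg ≫ Spec.map βO ≫ hY₀.fromSpec
    rw [fromSpecResidueField_eq (h𝒰 i₀) x hxi₀, Category.assoc, Category.assoc,
      ← IsAffineOpen.SpecMap_appLE_fromSpec f hY₀ (h𝒰 i₀) (hle i₀), ← Spec.map_comp_assoc,
      ← Spec.map_comp_assoc, ← Spec.map_comp_assoc, ← Category.assoc (f.appLE _ _ _),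
      appLE_toResidue, hβ, halg, Category.assoc]
  obtain ⟨l, hl1, hl2⟩ := H O xA yA hsq
  have hz : f (l (closedPoint O)) ∈ Y₀ := by
    have h1 : f (l (closedPoint O)) = yA (closedPoint O) := by
      rw [← hl1]
      rfl
    rw [h1]
    have : yA (closedPoint O) ∈ Set.range hY₀.fromSpec := ⟨Spec.map βO (closedPoint O), rfl⟩
    rw [hY₀.range_fromSpec] at this
    exact this
  obtain ⟨i, hzi⟩ := hcov _ hz
  have hl := eq_SpecMap_fromSpec l (h𝒰 i) hzi
  let lam : Γ(X, 𝒰 i) ⟶ CommRingCat.of O :=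
    X.presheaf.germ (𝒰 i) _ hzi ≫ Scheme.stalkClosedPointTo l
  have hxi : x ∈ 𝒰 i := by
    let ξ : Spec (CommRingCat.of (FractionRing O)) := closedPoint (FractionRing O)
    have h1 : xA ξ = x := by
      change (X.fromSpecResidueField x) (Spec.map einv ξ) = x
      exact Scheme.fromSpecResidueField_apply x _
    have h2 : xA ξ ∈ Set.range (h𝒰 i).fromSpec := by
      rw [← hl2, hl]
      exact ⟨Spec.map lam (Spec.map alg ξ), rfl⟩
    rw [(h𝒰 i).range_fromSpec, h1] at h2
    exact h2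
  refine ⟨i, hxi, ?_⟩
  have key : lam ≫ incl = toResidue x hxi := by
    have h3 : Spec.map alg ≫ Spec.map lam ≫ (h𝒰 i).fromSpec =
        Spec.map einv ≫ Spec.map (toResidue x hxi) ≫ (h𝒰 i).fromSpec := by
      rw [← hl, hl2, ← fromSpecResidueField_eq (h𝒰 i) x hxi]
    rw [← Category.assoc, ← Category.assoc, cancel_mono, ← Spec.map_comp, ← Spec.map_comp] at h3
    have h4 : lam ≫ alg = toResidue x hxi ≫ einv := Spec.map_injective h3
    rw [halg, ← Category.assoc] at h4
    have hmono : Mono einv := by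
      have : IsIso einv := (eO.symm.toRingEquiv.toCommRingCatIso).isIso_hom
      infer_instance
    exact (cancel_mono einv).1 h4
  intro e
  rw [← key]
  exact (lam.hom e).2

end Groth.Agent.H4Dvr
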