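import Mathlib
import Groth.Agent.Lib.helper4.DvrProper2

/-!
# Centre of an arbitrary valuation ring of `k(x)` on a chart of a finite affine cover
-/

set_option autoImplicit false
universe u

namespace Groth.Agent.H4Dvr

open AlgebraicGeometry CategoryTheory Limits IsLocalRing

variable {X Y : Scheme.{u}} (f : X ⟶ Y)

theorem essFiniteType_germ_stalkMap [LocallyOfFiniteType f] (x : X) {Y₀ : Y.Opens}
    (hY₀ : IsAffineOpen Y₀) (hx : f x ∈ Y₀) :
    (Y.presheaf.germ Y₀ (f x) hx ≫ f.stalkMap x).hom.EssFiniteType := by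
  have hloc := hY₀.isLocalization_stalk ⟨f x, hx⟩
  have h1 : (Y.presheaf.germ Y₀ (f x) hx).hom.EssFiniteType := by
    let _ : Algebra Γ(Y, Y₀) (Y.presheaf.stalk (f x)) :=
      TopCat.Presheaf.algebra_section_stalk Y.presheaf ⟨f x, hx⟩
    have h0 := @RingHom.EssFiniteType.holdsForLocalization _ (Y.presheaf.stalk (f x)) _ _ _
      (hY₀.primeIdealOf ⟨f x, hx⟩).asIdeal.primeCompl hloc
    exact h0
  have h2 : (f.stalkMap x).hom.EssFiniteType := LocallyOfFiniteType.stalkMap f x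
  exact h1.comp h2

theorem exists_chart_of_valuationSubring [IsLocallyNoetherian Y] [LocallyOfFiniteType f]
    (H : DvrExistence f) (x : X) {Y₀ : Y.Opens} (hY₀ : IsAffineOpen Y₀) (hx : f x ∈ Y₀)
    (W : ValuationSubring (X.residueField x))
    (hW : ∀ b, (baseToResidue f x hx).hom b ∈ W)
    {ι : Type*} [Finite ι] (𝒰 : ι → X.Opens) (h𝒰 : ∀ i, IsAffineOpen (𝒰 i))
    (hle : ∀ i, 𝒰 i ≤ f ⁻¹ᵁ Y₀) (hcov : ∀ z : X, f z ∈ Y₀ → ∃ i, z ∈ 𝒰 i) :
    ∃ (i : ι) (hxi : x ∈ 𝒰 i), ∀ e, (toResidue x hxi).hom e ∈ W := by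
  classical
  by_contra hcon
  push Not at hcon
  choose e he using hcon
  let T : Set (X.residueField x) :=
    {t | ∃ (i : ι) (hxi : x ∈ 𝒰 i), t = ((toResidue x hxi).hom (e i hxi))⁻¹}
  have hTfin : T.Finite := by
    apply (Set.finite_range (fun i : ι =>
      if h : x ∈ 𝒰 i then ((toResidue x h).hom (e i h))⁻¹ else 0)).subset
    rintro t ⟨i, hxi, rfl⟩
    exact ⟨i, by simp [hxi]⟩
  have hTW : T ⊆ W.nonunits := by
    rintro t ⟨i, hxi, rfl⟩
    rw [SetLike.mem_coe, W.inv_mem_nonunits_iff]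
    exact Or.inr (he i hxi)
  have hT0 : ∃ t ∈ T, t ≠ 0 := by
    obtain ⟨i, hxi⟩ := hcov x hx
    refine ⟨_, ⟨i, hxi, rfl⟩, inv_ne_zero ?_⟩
    intro h0
    exact he i hxi (h0 ▸ W.zero_mem)
  let β := (baseToResidue f x hx).hom
  let R : Subring (X.residueField x) := β.range
  have hB : IsNoetherianRing Γ(Y, Y₀) := IsLocallyNoetherian.component_noetherian ⟨Y₀, hY₀⟩
  have hRnoeth : IsNoetherianRing R :=
    isNoetherianRing_of_surjective _ _ β.rangeRestrict β.rangeRestrict_surjective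
  have hRW : R ≤ W.toSubring := by
    rintro _ ⟨b, rfl⟩
    exact hW b
  obtain ⟨S, hS⟩ := closure_eq_top_of_essFiniteType
    (Y.presheaf.germ Y₀ (f x) hx ≫ f.stalkMap x).hom (essFiniteType_germ_stalkMap f x hY₀ hx)
    (X.residue x).hom IsLocalRing.residue_surjective
  have hcl : Subfield.closure ((R : Set (X.residueField x)) ∪ S) = ⊤ := by
    rw [← hS]
    rfl
  obtain ⟨O, hO, hRO, hTO⟩ := exists_dvr_of_finite_nonunits R W hRW T hTfin hTW hT0 S hcl
  obtain ⟨i, hxi, hi⟩ := exists_chart_of_dvr f H x hY₀ hx O (fun b => hRO ⟨b, rfl⟩) 𝒰 h𝒰 hle hcov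
  have h1 := hi (e i hxi)
  have h2 : ((toResidue x hxi).hom (e i hxi))⁻¹ ∈ O.nonunits := hTO ⟨i, hxi, rfl⟩
  rw [O.inv_mem_nonunits_iff] at h2
  rcases h2 with h0 | h2
  · exact he i hxi (h0 ▸ W.zero_mem)
  · exact h2 h1

end Groth.Agent.H4Dvr
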