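import Mathlib
import Groth.Agent.Lib.helper4.DvrProper3

/-!
# DVR-existence implies the existence part of the valuative criterion
(locally Noetherian base, finite type morphism)
-/

set_option autoImplicit false
universe u

namespace Groth.Agent.H4Dvr

open AlgebraicGeometry CategoryTheory Limits IsLocalRing TopologicalSpace

variable {X Y : Scheme.{u}} (f : X ⟶ Y)

theorem existence_of_dvrExistence [IsLocallyNoetherian Y] [LocallyOfFiniteType f] [QuasiCompact f]
    (H : DvrExistence f) : ValuativeCriterion.Existence f := by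
  rintro ⟨V, K, i₁, i₂, ⟨w⟩⟩
  have hVloc : IsLocalRing (CommRingCat.of V) := (inferInstance : IsLocalRing V)
  obtain ⟨Y₀, hY₀, hy₀, -⟩ :=
    exists_isAffineOpen_mem_and_subset (x := i₂ (closedPoint V)) (U := ⊤) trivial
  have hi₂ := eq_SpecMap_fromSpec i₂ hY₀ hy₀
  let alg : CommRingCat.of V ⟶ CommRingCat.of K := CommRingCat.ofHom (algebraMap V K)
  let β : Γ(Y, Y₀) ⟶ CommRingCat.of V :=
    Y.presheaf.germ Y₀ _ hy₀ ≫ Scheme.stalkClosedPointTo i₂
  have w' : i₁ ≫ f = Spec.map alg ≫ Spec.map β ≫ hY₀.fromSpec := by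
    rw [w]
    exact congrArg (Spec.map alg ≫ ·) hi₂
  let x := i₁ (closedPoint K)
  have hx : f x ∈ Y₀ := by
    have h1 : f x = (i₁ ≫ f) (closedPoint K) := rfl
    rw [h1, w']
    have : (Spec.map alg ≫ Spec.map β ≫ hY₀.fromSpec) (closedPoint K) ∈
        Set.range hY₀.fromSpec := ⟨Spec.map β (Spec.map alg (closedPoint K)), rfl⟩
    rw [hY₀.range_fromSpec] at this
    exact this
  -- finite affine cover of the preimage
  have hcomp : IsCompact (f ⁻¹ᵁ Y₀ : Set X) := f.isCompact_preimage hY₀.isCompact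
  obtain ⟨s, hsfin, hs⟩ := isCompact_iff_finite_and_eq_biUnion_affineOpens.1 hcomp
  have hfin : Finite ↥s := hsfin.to_subtype
  let 𝒰 : ↥s → X.Opens := fun i => (i.1 : X.Opens)
  have h𝒰 : ∀ i, IsAffineOpen (𝒰 i) := fun i => i.1.2
  have hle : ∀ i, 𝒰 i ≤ f ⁻¹ᵁ Y₀ := by
    intro i
    rw [hs]
    exact le_iSup₂ (f := fun (j : X.affineOpens) (_ : j ∈ s) => (j : X.Opens)) i.1 i.2
  have hcov : ∀ z : X, f z ∈ Y₀ → ∃ i, z ∈ 𝒰 i := by
    intro z hz
    have hz' : z ∈ f ⁻¹ᵁ Y₀ := hz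
    rw [hs] at hz'
    simp only [Opens.mem_iSup] at hz'
    obtain ⟨j, hj, hzj⟩ := hz'
    exact ⟨⟨j, hj⟩, hzj⟩
  -- the field map `k(x) → K`
  let φK : X.presheaf.stalk x ⟶ CommRingCat.of K := Scheme.stalkClosedPointTo i₁
  let ιK : X.residueField x →+* K := IsLocalRing.ResidueField.lift φK.hom
  have hιK : ∀ t : X.presheaf.stalk x, ιK ((X.residue x).hom t) = φK.hom t :=
    fun t => IsLocalRing.ResidueField.lift_residue_apply _ t
  let W : ValuationSubring (X.residueField x) :=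
    (ValuationRing.valuation V K).valuationSubring.comap ιK
  have hWmem : ∀ t, t ∈ W ↔ ∃ a : V, algebraMap V K a = ιK t := by
    intro t
    rw [ValuationSubring.mem_comap, Valuation.mem_valuationSubring_iff,
      ← Valuation.mem_integer_iff, ValuationRing.mem_integer_iff]
  -- compatibility on each chart containing `x`
  have star : ∀ (i : ↥s) (hxi : x ∈ 𝒰 i),
      f.appLE Y₀ (𝒰 i) (hle i) ≫ (X.presheaf.germ (𝒰 i) x hxi ≫ φK) = β ≫ alg := by
    intro i hxi
    have h1 := eq_SpecMap_fromSpec i₁ (h𝒰 i) hxi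
    have h2 : Spec.map (f.appLE Y₀ (𝒰 i) (hle i) ≫ (X.presheaf.germ (𝒰 i) x hxi ≫ φK)) ≫
        hY₀.fromSpec = Spec.map (β ≫ alg) ≫ hY₀.fromSpec := by
      rw [Spec.map_comp, Category.assoc, IsAffineOpen.SpecMap_appLE_fromSpec f hY₀ (h𝒰 i) (hle i),
        ← Category.assoc, ← h1, w', Spec.map_comp β alg, Category.assoc]
    exact Spec.map_injective ((cancel_mono hY₀.fromSpec).1 h2)
  have hW : ∀ b, (baseToResidue f x hx).hom b ∈ W := by
    intro b
    obtain ⟨i, hxi⟩ := hcov x hx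
    rw [hWmem]
    refine ⟨β.hom b, ?_⟩
    have h3 := congrArg (fun g => g.hom b) (star i hxi)
    simp only [CommRingCat.hom_comp, RingHom.comp_apply] at h3
    rw [← appLE_toResidue f Y₀ (𝒰 i) (hle i) x hxi]
    simp only [CommRingCat.hom_comp, RingHom.comp_apply, toResidue]
    rw [hιK]
    exact h3.symm
  obtain ⟨i, hxi, hi⟩ := exists_chart_of_valuationSubring f H x hY₀ hx W hW 𝒰 h𝒰 hle hcov
  -- the ring map `Γ(U_i) → V`
  let ρK : Γ(X, 𝒰 i) →+* K := (X.presheaf.germ (𝒰 i) x hxi ≫ φK).hom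
  have hρK : ∀ e, ρK e ∈ (ValuationRing.valuation V K).integer := by
    intro e
    rw [ValuationRing.mem_integer_iff]
    obtain ⟨a, ha⟩ := (hWmem _).1 (hi e)
    refine ⟨a, ?_⟩
    rw [ha]
    simp only [toResidue, CommRingCat.hom_comp, RingHom.comp_apply, ρK]
    rw [hιK]
  let ρV : Γ(X, 𝒰 i) →+* V :=
    (ValuationRing.equivInteger V K).symm.toRingHom.comp
      (ρK.codRestrict (ValuationRing.valuation V K).integer hρK)
  have hρV : ∀ e, algebraMap V K (ρV e) = ρK e := by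
    intro e
    have h4 := ValuationRing.coe_equivInteger_apply V K (ρV e)
    rw [← h4]
    simp only [ρV, RingHom.comp_apply, RingEquiv.toRingHom_eq_coe, RingHom.coe_coe,
      RingEquiv.apply_symm_apply]
    rfl
  have hρV' : CommRingCat.ofHom ρV ≫ alg = X.presheaf.germ (𝒰 i) x hxi ≫ φK := by
    ext e
    exact hρV e
  refine ⟨⟨⟨Spec.map (CommRingCat.ofHom ρV) ≫ (h𝒰 i).fromSpec, ?_, ?_⟩⟩⟩
  · rw [← Category.assoc, ← Spec.map_comp, hρV']
    exact (eq_SpecMap_fromSpec i₁ (h𝒰 i) hxi).symm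
  · rw [Category.assoc, ← IsAffineOpen.SpecMap_appLE_fromSpec f hY₀ (h𝒰 i) (hle i),
      ← Category.assoc, ← Spec.map_comp]
    have h5 : f.appLE Y₀ (𝒰 i) (hle i) ≫ CommRingCat.ofHom ρV = β := by
      ext b
      apply IsFractionRing.injective V K
      have h3 := congrArg (fun g => g.hom b) (star i hxi)
      simp only [CommRingCat.hom_comp, RingHom.comp_apply] at h3
      simp only [CommRingCat.hom_comp, RingHom.comp_apply, CommRingCat.hom_ofHom]
      rw [hρV]
      exact h3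
    rw [h5]
    exact hi₂.symm

end Groth.Agent.H4Dvr
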