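import Mathlib
import Groth.Agent.Lib.helper4.DvrExists7

/-!
# Valuation rings / DVRs through a specialization (scheme level)
-/

set_option autoImplicit false
universe u

namespace Groth.Agent.H4Dvr

open AlgebraicGeometry CategoryTheory IsLocalRing

variable {X Y : Scheme.{u}} (p : X ⟶ Y) (x : X) (y' : Y) (hsp : p.base x ⤳ y')

/-- The ring map `O_{Y,y'} → k(x)` for a specialization `p x ⤳ y'`. -/
noncomputable def toRes : Y.presheaf.stalk y' ⟶ X.residueField x :=
  Y.presheaf.stalkSpecializes hsp ≫ p.stalkMap x ≫ X.residue x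

theorem w_eq : X.fromSpecResidueField x ≫ p =
    Spec.map (toRes p x y' hsp) ≫ Y.fromSpecStalk y' := by
  rw [Scheme.fromSpecResidueField, Category.assoc, ← Scheme.SpecMap_stalkMap_fromSpecStalk,
    ← Scheme.SpecMap_stalkSpecializes_fromSpecStalk hsp]
  simp_rw [← Spec.map_comp_assoc]
  rfl

theorem exists_hom_of_factor (A : ValuationSubring (X.residueField x))
    (hA : ∀ a, (toRes p x y' hsp).hom a ∈ A)
    (hloc : IsLocalHom ((toRes p x y' hsp).hom.codRestrict A.toSubring hA)) :
    ∃ h : Spec (CommRingCat.of A) ⟶ Y, h.base (closedPoint A) = y' ∧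
      Spec.map (CommRingCat.ofHom A.subtype) ≫ h = X.fromSpecResidueField x ≫ p := by
  let g : Y.presheaf.stalk y' ⟶ CommRingCat.of A :=
    CommRingCat.ofHom ((toRes p x y' hsp).hom.codRestrict _ hA)
  refine ⟨Spec.map g ≫ Y.fromSpecStalk y', ?_, ?_⟩
  · have h1 : Spec.map g (closedPoint A) = closedPoint (Y.presheaf.stalk y') :=
      comap_closedPoint (S := A) ((toRes p x y' hsp).hom.codRestrict A.toSubring hA)
    simp only [Scheme.Hom.comp_base, TopCat.coe_comp, Function.comp_apply]
    rw [h1, Y.fromSpecStalk_closedPoint]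
  · rw [w_eq p x y' hsp, ← Category.assoc, ← Spec.map_comp]
    rfl

theorem exists_mem_maximalIdeal_ne_zero (hne : y' ≠ p.base x) :
    ∃ a ∈ maximalIdeal (Y.presheaf.stalk y'), (toRes p x y' hsp).hom a ≠ 0 := by
  by_contra hcon
  push Not at hcon
  apply hne
  let ξ : Spec (X.residueField x) := closedPoint (X.residueField x)
  have h1 : (X.fromSpecResidueField x ≫ p).base ξ = p.base x := by
    simp only [Scheme.Hom.comp_base, TopCat.coe_comp, Function.comp_apply]
    rw [Scheme.fromSpecResidueField_apply]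
  rw [w_eq p x y' hsp] at h1
  simp only [Scheme.Hom.comp_base, TopCat.coe_comp, Function.comp_apply] at h1
  have h2 : (Spec.map (toRes p x y' hsp)).base ξ = closedPoint (Y.presheaf.stalk y') := by
    apply PrimeSpectrum.ext
    apply le_antisymm
    · exact IsLocalRing.le_maximalIdeal (Ideal.IsPrime.ne_top inferInstance)
    · intro a ha
      change (toRes p x y' hsp).hom a ∈ ξ.asIdeal
      rw [hcon a ha]
      exact Ideal.zero_mem _
  rw [h2, Y.fromSpecStalk_closedPoint] at h1
  exact h1

include hsp in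
/-- S4447 -/
theorem exists_valuationRing_through_specialization (hne : y' ≠ p.base x) :
    ∃ (A : ValuationSubring (X.residueField x)) (h : Spec (CommRingCat.of A) ⟶ Y), A ≠ ⊤ ∧
      h.base (IsLocalRing.closedPoint A) = y' ∧
      Spec.map (CommRingCat.ofHom A.subtype) ≫ h = X.fromSpecResidueField x ≫ p := by
  obtain ⟨A, hA, hloc⟩ := exists_factor_valuationRing (toRes p x y' hsp).hom
  obtain ⟨h, h1, h2⟩ := exists_hom_of_factor p x y' hsp A hA hloc
  refine ⟨A, h, ?_, h1, h2⟩
  rintro rfl
  obtain ⟨a, ha, ha0⟩ := exists_mem_maximalIdeal_ne_zero p x y' hsp hne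
  have hnu : ¬ IsUnit a := by rwa [mem_maximalIdeal, mem_nonunits_iff] at ha
  apply hnu
  apply isUnit_of_map_unit ((toRes p x y' hsp).hom.codRestrict (⊤ : ValuationSubring _).toSubring hA)
  rw [isUnit_iff_exists_inv]
  refine ⟨⟨((toRes p x y' hsp).hom a)⁻¹, trivial⟩, Subtype.ext ?_⟩
  exact mul_inv_cancel₀ ha0

include hsp in
theorem essFiniteType_stalkSpecializes_comp [LocallyOfFiniteType p] :
    (Y.presheaf.stalkSpecializes hsp ≫ p.stalkMap x).hom.EssFiniteType := by
  obtain ⟨V, hV, hy'V, -⟩ := exists_isAffineOpen_mem_and_subset (x := y') (U := ⊤) trivial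
  have hyV : p.base x ∈ V := hsp.mem_open V.isOpen hy'V
  have hloc := hV.isLocalization_stalk ⟨p.base x, hyV⟩
  have h1 : (Y.presheaf.germ V (p.base x) hyV).hom.EssFiniteType := by
    let _ : Algebra Γ(Y, V) (Y.presheaf.stalk (p.base x)) :=
      TopCat.Presheaf.algebra_section_stalk Y.presheaf ⟨p.base x, hyV⟩
    have h0 := @RingHom.EssFiniteType.holdsForLocalization _ (Y.presheaf.stalk (p.base x)) _ _ _
      (hV.primeIdealOf ⟨p.base x, hyV⟩).asIdeal.primeCompl hloc
    exact h0
  have h2 : (p.stalkMap x).hom.EssFiniteType := LocallyOfFiniteType.stalkMap p x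
  have h3 : ((Y.presheaf.germ V (p.base x) hyV) ≫ p.stalkMap x).hom.EssFiniteType := h1.comp h2
  rw [← Y.presheaf.germ_stalkSpecializes hy'V hsp, Category.assoc] at h3
  exact RingHom.EssFiniteType.of_comp (Y.presheaf.germ V y' hy'V).hom h3

include hsp in
/-- S4450 -/
theorem exists_dvr_through_specialization [IsLocallyNoetherian Y] [LocallyOfFiniteType p]
    (hne : y' ≠ p.base x) :
    ∃ (A : ValuationSubring (X.residueField x)) (h : Spec (CommRingCat.of A) ⟶ Y),
      IsDiscreteValuationRing A ∧ h.base (IsLocalRing.closedPoint A) = y' ∧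
      Spec.map (CommRingCat.ofHom A.subtype) ≫ h = X.fromSpecResidueField x ≫ p := by
  obtain ⟨T, hT⟩ := closure_eq_top_of_essFiniteType
    (Y.presheaf.stalkSpecializes hsp ≫ p.stalkMap x).hom
    (essFiniteType_stalkSpecializes_comp p x y' hsp) (X.residue x).hom
    IsLocalRing.residue_surjective
  have hT' : Subfield.closure (Set.range (toRes p x y' hsp).hom ∪ (T : Set _)) = ⊤ := hT
  obtain ⟨A, hA, hdvr, hloc⟩ := exists_dvr_of_ringHom (Y.presheaf.stalk y') (X.residueField x)
    (toRes p x y' hsp).hom (exists_mem_maximalIdeal_ne_zero p x y' hsp hne) T hT'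
  obtain ⟨h, h1, h2⟩ := exists_hom_of_factor p x y' hsp A hA hloc
  exact ⟨A, h, hdvr, h1, h2⟩

end Groth.Agent.H4Dvr
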