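import Mathlib
import Groth.Agent.Lib.helper4.DvrProper3
import Groth.Agent.Lib.helper4.DvrScheme

/-!
# The existence part of the valuative criterion from a chart property
-/

set_option autoImplicit false
universe u

namespace Groth.Agent.H4Dvr

open AlgebraicGeometry CategoryTheory Limits IsLocalRing TopologicalSpace

variable {X Y : Scheme.{u}} (f : X ⟶ Y)

/-- Chart property: every valuation ring of a residue field `k(x)` dominating the local ring of
a point `y₀` of `Y` contains the image of the sections over one of the charts containing `x`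
of any finite affine cover of the preimage of an affine neighbourhood of `y₀`. -/
def ChartProp (f : X ⟶ Y) : Prop :=
  ∀ (x : X) (y₀ : Y) (hsp : f.base x ⤳ y₀) (W : ValuationSubring (X.residueField x))
    (_ : ∀ a, (toRes f x y₀ hsp).hom a ∈ W)
    (_ : ∀ a ∈ maximalIdeal (Y.presheaf.stalk y₀), (toRes f x y₀ hsp).hom a ∈ W.nonunits)
    (Y₀ : Y.Opens) (_ : IsAffineOpen Y₀) (_ : y₀ ∈ Y₀)
    (ι : Type u) [Finite ι] (𝒰 : ι → X.Opens) (_ : ∀ i, IsAffineOpen (𝒰 i))
    (_ : ∀ i, 𝒰 i ≤ f ⁻¹ᵁ Y₀) (_ : ∀ z : X, f z ∈ Y₀ → ∃ i, z ∈ 𝒰 i),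
    ∃ (i : ι) (hxi : x ∈ 𝒰 i), ∀ e, (toResidue x hxi).hom e ∈ W

/-- compatibility of the two stalk maps of a valuative square -/
theorem stalk_compat {V K : Type u} [CommRing V] [IsDomain V] [ValuationRing V] [Field K]
    [Algebra V K] [IsFractionRing V K] (i₁ : Spec (CommRingCat.of K) ⟶ X)
    (i₂ : Spec (CommRingCat.of V) ⟶ Y)
    (w : i₁ ≫ f = Spec.map (CommRingCat.ofHom (algebraMap V K)) ≫ i₂)
    (hsp : f.base (i₁ (closedPoint K)) ⤳ i₂ (closedPoint V)) :
    Y.presheaf.stalkSpecializes hsp ≫ f.stalkMap (i₁ (closedPoint K)) ≫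
        Scheme.stalkClosedPointTo i₁ =
      Scheme.stalkClosedPointTo i₂ ≫ CommRingCat.ofHom (algebraMap V K) := by
  apply Spec.map_injective
  rw [← cancel_mono (Y.fromSpecStalk (i₂ (closedPoint V)))]
  rw [Spec.map_comp, Spec.map_comp, Category.assoc, Category.assoc,
    Scheme.SpecMap_stalkSpecializes_fromSpecStalk, Scheme.SpecMap_stalkMap_fromSpecStalk,
    ← Category.assoc, Scheme.Spec_stalkClosedPointTo_fromSpecStalk, w, Spec.map_comp,
    Category.assoc, Scheme.Spec_stalkClosedPointTo_fromSpecStalk]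

theorem existence_of_chartProp [QuasiCompact f] (H : ChartProp f) :
    ValuativeCriterion.Existence f := by
  rintro ⟨V, K, i₁, i₂, ⟨w⟩⟩
  have hVloc : IsLocalRing (CommRingCat.of V) := (inferInstance : IsLocalRing V)
  obtain ⟨Y₀, hY₀, hy₀, -⟩ :=
    exists_isAffineOpen_mem_and_subset (x := i₂ (closedPoint V)) (U := ⊤) trivial
  have hi₂ := eq_SpecMap_fromSpec i₂ hY₀ hy₀
  let alg : CommRingCat.of V ⟶ CommRingCat.of K := CommRingCat.ofHom (algebraMap V K)
  let β : Γ(Y, Y₀) ⟶ CommRingCat.of V :=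
    Y.presheaf.germ Y₀ _ hy₀ ≫ Scheme.stalkClosedPointTo i₂
  have w' : i₁ ≫ f = Spec.map alg ≫ Spec.map β ≫ hY₀.fromSpec := by
    rw [w]
    exact congrArg (Spec.map alg ≫ ·) hi₂
  let x := i₁ (closedPoint K)
  have hx : f x ∈ Y₀ := by
    have h1 : f x = (i₁ ≫ f) (closedPoint K) := rfl
    rw [h1, w']
    have : (Spec.map alg ≫ Spec.map β ≫ hY₀.fromSpec) (closedPoint K) ∈
        Set.range hY₀.fromSpec := ⟨Spec.map β (Spec.map alg (closedPoint K)), rfl⟩
    rw [hY₀.range_fromSpec] at this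
    exact this
  have hsp : f.base x ⤳ i₂ (closedPoint V) := by
    have h1 : f.base x = (i₁ ≫ f) (closedPoint K) := rfl
    rw [h1, w]
    exact (IsLocalRing.specializes_closedPoint (Spec.map alg (closedPoint K))).map i₂.continuous
  have hcompat := stalk_compat f i₁ i₂ w hsp
  -- finite affine cover of the preimage
  have hcomp : IsCompact (f ⁻¹ᵁ Y₀ : Set X) := f.isCompact_preimage hY₀.isCompact
  obtain ⟨s, hsfin, hs⟩ := isCompact_iff_finite_and_eq_biUnion_affineOpens.1 hcomp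
  have hfin : Finite ↥s := hsfin.to_subtype
  let 𝒰 : ↥s → X.Opens := fun i => (i.1 : X.Opens)
  have h𝒰 : ∀ i, IsAffineOpen (𝒰 i) := fun i => i.1.2
  have hle : ∀ i, 𝒰 i ≤ f ⁻¹ᵁ Y₀ := by
    intro i
    rw [hs]
    exact le_iSup₂ (f := fun (j : X.affineOpens) (_ : j ∈ s) => (j : X.Opens)) i.1 i.2
  have hcov : ∀ z : X, f z ∈ Y₀ → ∃ i, z ∈ 𝒰 i := by
    intro z hz
    have hz' : z ∈ f ⁻¹ᵁ Y₀ := hz
    rw [hs] at hz'
    simp only [Opens.mem_iSup] at hz'
    obtain ⟨j, hj, hzj⟩ := hz'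
    exact ⟨⟨j, hj⟩, hzj⟩
  -- the field map `k(x) → K`
  let φK : X.presheaf.stalk x ⟶ CommRingCat.of K := Scheme.stalkClosedPointTo i₁
  let ιK : X.residueField x →+* K := IsLocalRing.ResidueField.lift φK.hom
  have hιK : ∀ t : X.presheaf.stalk x, ιK ((X.residue x).hom t) = φK.hom t :=
    fun t => IsLocalRing.ResidueField.lift_residue_apply _ t
  let W : ValuationSubring (X.residueField x) :=
    (ValuationRing.valuation V K).valuationSubring.comap ιK
  have hWmem : ∀ t, t ∈ W ↔ ∃ a : V, algebraMap V K a = ιK t := by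
    intro t
    rw [ValuationSubring.mem_comap, Valuation.mem_valuationSubring_iff,
      ← Valuation.mem_integer_iff, ValuationRing.mem_integer_iff]
  have hres : ∀ a, ιK ((toRes f x _ hsp).hom a) =
      algebraMap V K ((Scheme.stalkClosedPointTo i₂).hom a) := by
    intro a
    have h3 := congrArg (fun g => g.hom a) hcompat
    simp only [CommRingCat.hom_comp, RingHom.comp_apply, CommRingCat.hom_ofHom] at h3
    rw [← h3]
    simp only [toRes, CommRingCat.hom_comp, RingHom.comp_apply]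
    rw [hιK]
  have hW1 : ∀ a, (toRes f x _ hsp).hom a ∈ W := by
    intro a
    rw [hWmem]
    exact ⟨_, (hres a).symm⟩
  have hW2 : ∀ a ∈ maximalIdeal (Y.presheaf.stalk (i₂ (closedPoint V))),
      (toRes f x _ hsp).hom a ∈ W.nonunits := by
    intro a ha
    rw [ValuationSubring.mem_nonunits_iff_or]
    by_contra hcon
    push Not at hcon
    obtain ⟨h0, h1⟩ := hcon
    obtain ⟨v', hv'⟩ := (hWmem _).1 h1
    rw [map_inv₀, hres] at hv'
    have hloc : IsLocalHom (Scheme.stalkClosedPointTo i₂).hom :=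
      Scheme.isLocalHom_stalkClosedPointTo i₂
    have hnu : (Scheme.stalkClosedPointTo i₂).hom a ∈ maximalIdeal V :=
      map_nonunit (Scheme.stalkClosedPointTo i₂).hom a ha
    apply hnu
    have h0' : algebraMap V K ((Scheme.stalkClosedPointTo i₂).hom a) ≠ 0 := by
      rw [← hres]
      exact (map_ne_zero ιK).2 h0
    have h2 : algebraMap V K ((Scheme.stalkClosedPointTo i₂).hom a * v') = 1 := by
      rw [map_mul, hv', mul_inv_cancel₀ h0']
    have h3 : (Scheme.stalkClosedPointTo i₂).hom a * v' = 1 :=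
      IsFractionRing.injective V K (h2.trans (map_one _).symm)
    exact IsUnit.of_mul_eq_one _ h3
  -- compatibility on each chart containing `x`
  have star : ∀ (i : ↥s) (hxi : x ∈ 𝒰 i),
      f.appLE Y₀ (𝒰 i) (hle i) ≫ (X.presheaf.germ (𝒰 i) x hxi ≫ φK) = β ≫ alg := by
    intro i hxi
    have h1 := eq_SpecMap_fromSpec i₁ (h𝒰 i) hxi
    have h2 : Spec.map (f.appLE Y₀ (𝒰 i) (hle i) ≫ (X.presheaf.germ (𝒰 i) x hxi ≫ φK)) ≫
        hY₀.fromSpec = Spec.map (β ≫ alg) ≫ hY₀.fromSpec := by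
      rw [Spec.map_comp, Category.assoc, IsAffineOpen.SpecMap_appLE_fromSpec f hY₀ (h𝒰 i) (hle i),
        ← Category.assoc, ← h1, w', Spec.map_comp β alg, Category.assoc]
    exact Spec.map_injective ((cancel_mono hY₀.fromSpec).1 h2)
  obtain ⟨i, hxi, hi⟩ := H x _ hsp W hW1 hW2 Y₀ hY₀ hy₀ ↥s 𝒰 h𝒰 hle hcov
  -- the ring map `Γ(U_i) → V`
  let ρK : Γ(X, 𝒰 i) →+* K := (X.presheaf.germ (𝒰 i) x hxi ≫ φK).hom
  have hρK : ∀ e, ρK e ∈ (ValuationRing.valuation V K).integer := by
    intro e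
    rw [ValuationRing.mem_integer_iff]
    obtain ⟨a, ha⟩ := (hWmem _).1 (hi e)
    refine ⟨a, ?_⟩
    rw [ha]
    simp only [toResidue, CommRingCat.hom_comp, RingHom.comp_apply, ρK]
    rw [hιK]
  let ρV : Γ(X, 𝒰 i) →+* V :=
    (ValuationRing.equivInteger V K).symm.toRingHom.comp
      (ρK.codRestrict (ValuationRing.valuation V K).integer hρK)
  have hρV : ∀ e, algebraMap V K (ρV e) = ρK e := by
    intro e
    have h4 := ValuationRing.coe_equivInteger_apply V K (ρV e)
    rw [← h4]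
    simp only [ρV, RingHom.comp_apply, RingEquiv.toRingHom_eq_coe, RingHom.coe_coe,
      RingEquiv.apply_symm_apply]
    rfl
  have hρV' : CommRingCat.ofHom ρV ≫ alg = X.presheaf.germ (𝒰 i) x hxi ≫ φK := by
    ext e
    exact hρV e
  refine ⟨⟨⟨Spec.map (CommRingCat.ofHom ρV) ≫ (h𝒰 i).fromSpec, ?_, ?_⟩⟩⟩
  · rw [← Category.assoc, ← Spec.map_comp, hρV']
    exact (eq_SpecMap_fromSpec i₁ (h𝒰 i) hxi).symm
  · rw [Category.assoc, ← IsAffineOpen.SpecMap_appLE_fromSpec f hY₀ (h𝒰 i) (hle i),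
      ← Category.assoc, ← Spec.map_comp]
    have h5 : f.appLE Y₀ (𝒰 i) (hle i) ≫ CommRingCat.ofHom ρV = β := by
      ext b
      apply IsFractionRing.injective V K
      have h3 := congrArg (fun g => g.hom b) (star i hxi)
      simp only [CommRingCat.hom_comp, RingHom.comp_apply] at h3
      simp only [CommRingCat.hom_comp, RingHom.comp_apply, CommRingCat.hom_ofHom]
      rw [hρV]
      exact h3
    rw [h5]
    exact hi₂.symm

end Groth.Agent.H4Dvr
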