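import Mathlib

/-!
# Centres of valuation subrings of the function field of an integral scheme
-/

set_option autoImplicit false
universe u

namespace Groth.Agent.H4FF

open AlgebraicGeometry CategoryTheory Limits IsLocalRing

variable {X Y : Scheme.{u}} [IsIntegral X]

/-- `R` dominates the local ring of `X` at `x` (inside the function field). -/
def Dominates (R : ValuationSubring X.functionField) (x : X) : Prop :=
  (∀ a : X.presheaf.stalk x, algebraMap (X.presheaf.stalk x) X.functionField a ∈ R) ∧
    ∀ a ∈ IsLocalRing.maximalIdeal (X.presheaf.stalk x),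
      R.valuation (algebraMap (X.presheaf.stalk x) X.functionField a) < 1

/-- `R` dominates the local ring of `Y` at `y` through `f`. -/
def DominatesBase (f : X ⟶ Y) (R : ValuationSubring X.functionField) (y : Y)
    (hy : f.base (genericPoint X) ⤳ y) : Prop :=
  (∀ a : Y.presheaf.stalk y,
      (Y.presheaf.stalkSpecializes hy ≫ f.stalkMap (genericPoint X)).hom a ∈ R) ∧
    ∀ a ∈ IsLocalRing.maximalIdeal (Y.presheaf.stalk y),
      R.valuation ((Y.presheaf.stalkSpecializes hy ≫ f.stalkMap (genericPoint X)).hom a) < 1

/-- The inclusion `Spec K(X) → Spec R`. -/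
noncomputable abbrev genIncl (R : ValuationSubring X.functionField) :
    Spec X.functionField ⟶ Spec (CommRingCat.of R) :=
  Spec.map (CommRingCat.ofHom R.subtype)

instance (R : ValuationSubring X.functionField) : IsDominant (genIncl R) := by
  constructor
  change DenseRange (PrimeSpectrum.comap R.subtype)
  rw [PrimeSpectrum.denseRange_comap_iff_ker_le_nilRadical]
  have : RingHom.ker R.subtype = ⊥ := (RingHom.injective_iff_ker_eq_bot _).1 Subtype.val_injective
  rw [this]
  exact bot_le

theorem genericPoint_specializes (x : X) : genericPoint X ⤳ x :=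
  (genericPoint_spec X).specializes trivial

theorem algebraMap_eq (x : X) :
    algebraMap (X.presheaf.stalk x) X.functionField =
      (X.presheaf.stalkSpecializes (genericPoint_specializes x)).hom := rfl

/-- Two morphisms `Spec R → X` that agree on the generic point are equal (`X` separated). -/
theorem lift_ext {Z : Scheme.{u}} [Z.IsSeparated] (R : ValuationSubring X.functionField)
    (l₁ l₂ : Spec (CommRingCat.of R) ⟶ Z) (h : genIncl R ≫ l₁ = genIncl R ≫ l₂) : l₁ = l₂ :=
  ext_of_isDominant (genIncl R) h

theorem dominates_of_lift (R : ValuationSubring X.functionField)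
    (l : Spec (CommRingCat.of R) ⟶ X)
    (hl : genIncl R ≫ l = X.fromSpecStalk (genericPoint X)) :
    Dominates R (l (closedPoint R)) := by
  set x := l (closedPoint R) with hx
  let φ : X.presheaf.stalk x ⟶ CommRingCat.of R := Scheme.stalkClosedPointTo l
  have h1 : l = Spec.map φ ≫ X.fromSpecStalk x := (Scheme.Spec_stalkClosedPointTo_fromSpecStalk l).symm
  have h2 : Spec.map (φ ≫ CommRingCat.ofHom R.subtype) ≫ X.fromSpecStalk x =
      Spec.map (X.presheaf.stalkSpecializes (genericPoint_specializes x)) ≫ X.fromSpecStalk x := by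
    rw [Scheme.SpecMap_stalkSpecializes_fromSpecStalk, ← hl, Spec.map_comp, Category.assoc, ← h1]
    rfl
  have h3 : φ ≫ CommRingCat.ofHom R.subtype =
      X.presheaf.stalkSpecializes (genericPoint_specializes x) :=
    Spec.map_injective ((cancel_mono _).1 h2)
  have h4 : ∀ a, ((φ.hom a : R) : X.functionField) =
      algebraMap (X.presheaf.stalk x) X.functionField a := by
    intro a
    exact congrArg (fun g => g.hom a) h3
  refine ⟨fun a => ?_, fun a ha => ?_⟩
  · rw [← h4]
    exact (φ.hom a).2
  · rw [← h4, ← ValuationSubring.valuation_lt_one_iff]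
    have : IsLocalHom φ.hom := Scheme.isLocalHom_stalkClosedPointTo l
    exact map_nonunit φ.hom a ha
/-- A general local-hom lift: a ring hom `stalk y → R` that is local gives a morphism
`Spec R → Y` sending the closed point to `y`. -/
theorem closedPoint_SpecMap_fromSpecStalk {Z : Scheme.{u}} (z : Z) (R : Type u) [CommRing R]
    [IsLocalRing R] (g : Z.presheaf.stalk z →+* R) [IsLocalHom g] :
    (Spec.map (CommRingCat.ofHom g) ≫ Z.fromSpecStalk z) (closedPoint R) = z := by
  have h1 : Spec.map (CommRingCat.ofHom g) (closedPoint R) = closedPoint (Z.presheaf.stalk z) :=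
    comap_closedPoint (S := R) g
  simp only [Scheme.Hom.comp_base, TopCat.coe_comp, Function.comp_apply]
  rw [h1, Z.fromSpecStalk_closedPoint]

theorem isLocalHom_codRestrict {A : Type*} [CommRing A] [IsLocalRing A] {K : Type*} [Field K]
    (R : ValuationSubring K) (g : A →+* K) (h1 : ∀ a, g a ∈ R)
    (h2 : ∀ a ∈ maximalIdeal A, R.valuation (g a) < 1) :
    IsLocalHom (g.codRestrict R.toSubring h1) := by
  constructor
  intro a ha
  by_contra hna
  have h3 : a ∈ maximalIdeal A := hna
  have h4 := h2 a h3
  have h5 : (g.codRestrict R.toSubring h1 a) ∈ maximalIdeal R := by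
    rw [ValuationSubring.valuation_lt_one_iff]
    exact h4
  exact h5 ha

theorem lift_of_dominates (R : ValuationSubring X.functionField) (x : X) (h : Dominates R x) :
    ∃ l : Spec (CommRingCat.of R) ⟶ X, l (closedPoint R) = x ∧
      genIncl R ≫ l = X.fromSpecStalk (genericPoint X) := by
  let g : X.presheaf.stalk x →+* R :=
    (algebraMap (X.presheaf.stalk x) X.functionField).codRestrict R.toSubring h.1
  have hloc : IsLocalHom g := isLocalHom_codRestrict R _ h.1 h.2
  refine ⟨Spec.map (CommRingCat.ofHom g) ≫ X.fromSpecStalk x,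
    closedPoint_SpecMap_fromSpecStalk x R g, ?_⟩
  rw [← Scheme.SpecMap_stalkSpecializes_fromSpecStalk (genericPoint_specializes x),
    ← Category.assoc, ← Spec.map_comp]
  rfl

/-- A valuation subring containing the sections over an affine open has a centre in it. -/
theorem lift_of_affine (R : ValuationSubring X.functionField) {U : X.Opens} (hU : IsAffineOpen U)
    [Nonempty U] (h : ∀ s : Γ(X, U), (X.germToFunctionField U).hom s ∈ R) :
    ∃ l : Spec (CommRingCat.of R) ⟶ X, l (closedPoint R) ∈ U ∧
      genIncl R ≫ l = X.fromSpecStalk (genericPoint X) := by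
  let g : Γ(X, U) →+* R := (X.germToFunctionField U).hom.codRestrict R.toSubring h
  refine ⟨Spec.map (CommRingCat.ofHom g) ≫ hU.fromSpec, ?_, ?_⟩
  · have : (Spec.map (CommRingCat.ofHom g) ≫ hU.fromSpec) (closedPoint R) ∈
        Set.range hU.fromSpec := ⟨Spec.map (CommRingCat.ofHom g) (closedPoint R), rfl⟩
    rw [hU.range_fromSpec] at this
    exact this
  · have hξ : genericPoint X ∈ U :=
      ((genericPoint_spec X).mem_open_set_iff U.isOpen).mpr (by simpa using ‹Nonempty U›)
    rw [← hU.fromSpecStalk_eq_fromSpecStalk hξ, IsAffineOpen.fromSpecStalk, ← Category.assoc,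
      ← Spec.map_comp]
    rfl

theorem mem_of_dominates_of_affine [X.IsSeparated] (R : ValuationSubring X.functionField)
    (x : X) (hx : Dominates R x) {U : X.Opens} (hU : IsAffineOpen U) [Nonempty U]
    (h : ∀ s : Γ(X, U), (X.germToFunctionField U).hom s ∈ R) : x ∈ U := by
  obtain ⟨l₁, h1, h1'⟩ := lift_of_dominates R x hx
  obtain ⟨l₂, h2, h2'⟩ := lift_of_affine R hU h
  have := lift_ext R l₁ l₂ (h1'.trans h2'.symm)
  rw [← h1, this]
  exact h2

theorem dominates_unique [X.IsSeparated] (R : ValuationSubring X.functionField)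
    (x x' : X) (hx : Dominates R x) (hx' : Dominates R x') : x = x' := by
  obtain ⟨l₁, h1, h1'⟩ := lift_of_dominates R x hx
  obtain ⟨l₂, h2, h2'⟩ := lift_of_dominates R x' hx'
  have := lift_ext R l₁ l₂ (h1'.trans h2'.symm)
  rw [← h1, this]
  exact h2

theorem liftBase_of_dominatesBase (f : X ⟶ Y) (R : ValuationSubring X.functionField) (y : Y)
    (hy : f.base (genericPoint X) ⤳ y) (h : DominatesBase f R y hy) :
    ∃ l : Spec (CommRingCat.of R) ⟶ Y, l (closedPoint R) = y ∧
      genIncl R ≫ l = X.fromSpecStalk (genericPoint X) ≫ f := by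
  let g : Y.presheaf.stalk y →+* R :=
    (Y.presheaf.stalkSpecializes hy ≫ f.stalkMap (genericPoint X)).hom.codRestrict R.toSubring h.1
  have hloc : IsLocalHom g := isLocalHom_codRestrict R _ h.1 h.2
  refine ⟨Spec.map (CommRingCat.ofHom g) ≫ Y.fromSpecStalk y,
    closedPoint_SpecMap_fromSpecStalk y R g, ?_⟩
  rw [← Scheme.SpecMap_stalkMap_fromSpecStalk, ← Scheme.SpecMap_stalkSpecializes_fromSpecStalk hy,
    ← Category.assoc, ← Spec.map_comp, ← Category.assoc, ← Spec.map_comp]
  rfl

theorem dominatesBase_of_dominates (f : X ⟶ Y) (R : ValuationSubring X.functionField) (x : X)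
    (hx : Dominates R x) :
    DominatesBase f R (f x) (f.base.hom.map_specializes (genericPoint_specializes x)) := by
  have key : ∀ a, (Y.presheaf.stalkSpecializes
        (f.base.hom.map_specializes (genericPoint_specializes x)) ≫
        f.stalkMap (genericPoint X)).hom a =
      algebraMap (X.presheaf.stalk x) X.functionField ((f.stalkMap x).hom a) := by
    intro a
    rw [Scheme.Hom.stalkSpecializes_stalkMap]
    rfl
  refine ⟨fun a => ?_, fun a ha => ?_⟩
  · rw [key]
    exact hx.1 _
  · rw [key]
    apply hx.2
    exact map_nonunit (f.stalkMap x).hom a ha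

theorem dominatesBase_unique [Y.IsSeparated] (f : X ⟶ Y) (R : ValuationSubring X.functionField)
    (y y' : Y) (hy : f.base (genericPoint X) ⤳ y) (hy' : f.base (genericPoint X) ⤳ y')
    (h : DominatesBase f R y hy) (h' : DominatesBase f R y' hy') : y = y' := by
  obtain ⟨l₁, h1, h1'⟩ := liftBase_of_dominatesBase f R y hy h
  obtain ⟨l₂, h2, h2'⟩ := liftBase_of_dominatesBase f R y' hy' h'
  have := lift_ext R l₁ l₂ (h1'.trans h2'.symm)
  rw [← h1, this]
  exact h2

end Groth.Agent.H4FF
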