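import Mathlib

/-! Maximal points and irreducible components (helper4). -/

namespace Groth.Agent.H4Gen
open Topology TopologicalSpace Set AlgebraicGeometry CategoryTheory
universe u

section Top
variable {W : Type u} [TopologicalSpace W]

/-- In a quasi-sober T0 space, `closure {w}` is an irreducible component iff `w` has no proper
generization. -/
theorem closure_singleton_mem_irreducibleComponents_iff [QuasiSober W] [T0Space W] (w : W) :
    closure ({w} : Set W) ∈ irreducibleComponents W ↔ ∀ w' : W, w' ⤳ w → w' = w := by
  constructor
  · intro h w' hw'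
    have hle : closure ({w} : Set W) ⊆ closure {w'} := by
      rw [IsClosed.closure_subset_iff isClosed_closure, singleton_subset_iff]
      exact specializes_iff_mem_closure.1 hw'
    have heq : closure ({w'} : Set W) = closure {w} :=
      Subset.antisymm (h.2 isIrreducible_singleton.closure hle) hle
    exact ((inseparable_iff_closure_eq.2 heq).eq)
  · intro h
    refine ⟨isIrreducible_singleton.closure, fun Z hZ hle => ?_⟩
    obtain ⟨ξ, hξ⟩ := QuasiSober.sober hZ.closure isClosed_closure
    have hw : w ∈ closure Z := subset_closure (hle (subset_closure (mem_singleton w)))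
    have hspec : ξ ⤳ w := by rw [specializes_iff_mem_closure, hξ.def]; exact hw
    have := h ξ hspec
    subst this
    show Z ⊆ closure {ξ}
    rw [hξ.def]; exact subset_closure

/-- Every irreducible component of a quasi-sober space is the closure of a point. -/
theorem exists_eq_closure_of_mem_irreducibleComponents [QuasiSober W] {Z : Set W}
    (hZ : Z ∈ irreducibleComponents W) : ∃ ξ : W, closure ({ξ} : Set W) = Z := by
  obtain ⟨ξ, hξ⟩ := QuasiSober.sober hZ.1 (isClosed_of_mem_irreducibleComponents Z hZ)
  exact ⟨ξ, hξ.def⟩

end Top

section Sch
variable (X : Scheme.{u}) (x : X)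

theorem fromSpecStalk_specializes (z : Spec (X.presheaf.stalk x)) : X.fromSpecStalk x z ⤳ x := by
  have : X.fromSpecStalk x z ∈ Set.range (X.fromSpecStalk x) := ⟨z, rfl⟩
  rw [Scheme.range_fromSpecStalk] at this
  exact this

theorem exists_of_specializes {y : X} (h : y ⤳ x) : ∃ z, X.fromSpecStalk x z = y := by
  have : y ∈ Set.range (X.fromSpecStalk x) := by rw [Scheme.range_fromSpecStalk]; exact h
  exact this

theorem fromSpecStalk_injective : Function.Injective (X.fromSpecStalk x) :=
  (X.fromSpecStalk x).isEmbedding.injective

theorem fromSpecStalk_specializes_iff (z z' : Spec (X.presheaf.stalk x)) :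
    X.fromSpecStalk x z ⤳ X.fromSpecStalk x z' ↔ z ⤳ z' :=
  (X.fromSpecStalk x).isEmbedding.isInducing.specializes_iff

/-- `z` is a maximal point of `Spec 𝒪_{X,x}` iff its image is a maximal point of `X`. -/
theorem maximal_iff (z : Spec (X.presheaf.stalk x)) :
    closure ({z} : Set (Spec (X.presheaf.stalk x))) ∈
        irreducibleComponents (Spec (X.presheaf.stalk x) : Type u) ↔
      closure ({X.fromSpecStalk x z} : Set X) ∈ irreducibleComponents (X : Type u) := by
  rw [closure_singleton_mem_irreducibleComponents_iff,
    closure_singleton_mem_irreducibleComponents_iff]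
  constructor
  · intro h y hy
    obtain ⟨z', rfl⟩ := exists_of_specializes X x (hy.trans (fromSpecStalk_specializes X x z))
    rw [h z' ((fromSpecStalk_specializes_iff X x z' z).1 hy)]
  · intro h z' hz'
    exact fromSpecStalk_injective X x (h _ ((fromSpecStalk_specializes_iff X x z' z).2 hz'))

end Sch

end Groth.Agent.H4Gen
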