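import Mathlib
import Groth.Agent.Lib.helper4.Generization

/-! Local rings of an integral separated scheme inside the function field (helper4). -/

open AlgebraicGeometry CategoryTheory

universe u

namespace Groth.Agent.H4FunField

theorem isDominant_SpecMap_of_injective {R S : CommRingCat.{u}} (j : R ⟶ S)
    (hj : Function.Injective j.hom) : IsDominant (Spec.map j) := by
  constructor
  have : DenseRange (PrimeSpectrum.comap j.hom) := by
    rw [PrimeSpectrum.denseRange_comap_iff_ker_le_nilRadical,
      (RingHom.injective_iff_ker_eq_bot _).1 hj]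
    exact bot_le
  exact this

/-- The canonical map from a stalk to the function field, as a morphism of `CommRingCat`. -/
noncomputable def toFF (X : Scheme.{u}) [IrreducibleSpace X] (x : X) :
    X.presheaf.stalk x ⟶ X.functionField :=
  X.presheaf.stalkSpecializes ((genericPoint_spec X).specializes trivial)

theorem toFF_hom (X : Scheme.{u}) [IrreducibleSpace X] (x : X) :
    (toFF X x).hom = algebraMap (X.presheaf.stalk x) X.functionField := rfl

theorem SpecMap_toFF (X : Scheme.{u}) [IrreducibleSpace X] (x : X) :
    Spec.map (toFF X x) ≫ X.fromSpecStalk x = X.fromSpecStalk (genericPoint X) :=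
  Scheme.SpecMap_stalkSpecializes_fromSpecStalk _

/-- Two maps `Spec B ⟶ X` through local rings of `X`, compatible with the embeddings in the
function field, coincide when `X` is separated. -/
theorem SpecMap_comp_fromSpecStalk_eq (X : Scheme.{u}) [IsIntegral X] [X.IsSeparated]
    {B : CommRingCat.{u}} [IsReduced B] (j : B ⟶ X.functionField)
    (hj : Function.Injective j.hom) (x y : X)
    (φ : X.presheaf.stalk x ⟶ B) (ψ : X.presheaf.stalk y ⟶ B)
    (hφ : φ ≫ j = toFF X x) (hψ : ψ ≫ j = toFF X y) :
    Spec.map φ ≫ X.fromSpecStalk x = Spec.map ψ ≫ X.fromSpecStalk y := by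
  have := isDominant_SpecMap_of_injective j hj
  apply ext_of_isDominant (Spec.map j)
  rw [← Category.assoc, ← Spec.map_comp, hφ, SpecMap_toFF,
    ← Category.assoc, ← Spec.map_comp, hψ, SpecMap_toFF]

theorem toFF_injective (X : Scheme.{u}) [IsIntegral X] (x : X) :
    Function.Injective (toFF X x).hom := by
  rw [toFF_hom]
  exact IsFractionRing.injective _ _

/-- If `O_x ⊆ O_y` inside the function field, there is a ring map `O_x ⟶ O_y` over it. -/
theorem exists_hom_of_range_le (X : Scheme.{u}) [IsIntegral X] (x y : X)
    (h : (algebraMap (X.presheaf.stalk x) X.functionField).range ≤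
      (algebraMap (X.presheaf.stalk y) X.functionField).range) :
    ∃ φ : X.presheaf.stalk x ⟶ X.presheaf.stalk y, φ ≫ toFF X y = toFF X x := by
  let jy := algebraMap (X.presheaf.stalk y) X.functionField
  let jx := algebraMap (X.presheaf.stalk x) X.functionField
  have hinj : Function.Injective jy := IsFractionRing.injective _ _
  let ey : X.presheaf.stalk y ≃+* jy.range := RingEquiv.ofBijective jy.rangeRestrict
    ⟨fun a b hab => hinj (congrArg Subtype.val hab), jy.rangeRestrict_surjective⟩
  let φ : X.presheaf.stalk x →+* X.presheaf.stalk y :=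
    ey.symm.toRingHom.comp ((Subring.inclusion h).comp jx.rangeRestrict)
  refine ⟨CommRingCat.ofHom φ, ?_⟩
  ext a
  change jy (ey.symm _) = jx a
  have : (jy.rangeRestrict (ey.symm ((Subring.inclusion h) (jx.rangeRestrict a))) : X.functionField)
      = jx a := by
    have := ey.apply_symm_apply ((Subring.inclusion h) (jx.rangeRestrict a))
    exact congrArg Subtype.val this
  exact this

end Groth.Agent.H4FunField
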