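import Mathlib
import Groth.Agent.Lib.helper4.FunField
import Groth.Agent.Lib.helper4.FFCenter1

/-!
# Local uniqueness of morphisms from spectra of local domains; DVR points
-/

set_option autoImplicit false
universe u

namespace Groth.Agent.H4Rat

open AlgebraicGeometry CategoryTheory Limits TopologicalSpace IsLocalRing

/-- A morphism from a local scheme whose closed point maps to a generization of `z` factors
through `Spec O_{Z,z}`. -/
theorem factor_fromSpecStalk {R : CommRingCat.{u}} [IsLocalRing R] {Z : Scheme.{u}} (z : Z)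
    (m : Spec R ⟶ Z) (h : m (closedPoint R) ⤳ z) :
    Spec.map (Z.presheaf.stalkSpecializes h ≫ Scheme.stalkClosedPointTo m) ≫ Z.fromSpecStalk z =
      m := by
  rw [Spec.map_comp, Category.assoc, Scheme.SpecMap_stalkSpecializes_fromSpecStalk,
    Scheme.Spec_stalkClosedPointTo_fromSpecStalk]

/-- **Local uniqueness**: two morphisms from the spectrum of a local domain which send the closed
point to generizations of a common point and agree at the generic point are equal. -/
theorem hom_ext_of_local {R : CommRingCat.{u}} [IsLocalRing R] [IsDomain R] {K : CommRingCat.{u}}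
    (j : R ⟶ K) (hj : Function.Injective j.hom)
    {Z : Scheme.{u}} (z : Z) (m₁ m₂ : Spec R ⟶ Z) (h₁ : m₁ (closedPoint R) ⤳ z)
    (h₂ : m₂ (closedPoint R) ⤳ z) (h : Spec.map j ≫ m₁ = Spec.map j ≫ m₂) : m₁ = m₂ := by
  have hdom : IsDominant (Spec.map j) := Groth.Agent.H4FunField.isDominant_SpecMap_of_injective j hj
  rw [← factor_fromSpecStalk z m₁ h₁, ← factor_fromSpecStalk z m₂ h₂]
  congr 1
  apply ext_of_isDominant (ι := Spec.map j)
  rw [← cancel_mono (Z.fromSpecStalk z), Category.assoc, Category.assoc,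
    factor_fromSpecStalk z m₁ h₁, factor_fromSpecStalk z m₂ h₂, h]

section Lift

variable {Y : Scheme.{u}} {K : Type u} [Field K] (O : ValuationSubring K)
  (h₁ : Spec (CommRingCat.of O) ⟶ Y) (hK : Spec (CommRingCat.of K) ⟶ Y)
  (hfac : Spec.map (CommRingCat.ofHom O.subtype) ≫ h₁ = hK)

include hfac in
theorem specializes_of_lift : hK (closedPoint K) ⤳ h₁ (closedPoint O) := by
  have h2 : hK (closedPoint K) =
      h₁ (Spec.map (CommRingCat.ofHom O.subtype) (closedPoint K)) := by
    rw [← hfac]
    rfl
  rw [h2]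
  exact (IsLocalRing.specializes_closedPoint (R := O) _).map h₁.continuous

include hfac in
theorem mem_of_lift (y₀ : Y) (hy : h₁ (closedPoint O) = y₀) (hsp : hK (closedPoint K) ⤳ y₀)
    (b : Y.presheaf.stalk y₀) :
    (Y.presheaf.stalkSpecializes hsp ≫ Scheme.stalkClosedPointTo hK).hom b ∈ O ∧
      (b ∈ maximalIdeal (Y.presheaf.stalk y₀) →
        (Y.presheaf.stalkSpecializes hsp ≫ Scheme.stalkClosedPointTo hK).hom b ∈ O.nonunits) := by
  subst hy
  let β : Y.presheaf.stalk (h₁ (closedPoint O)) ⟶ CommRingCat.of O := Scheme.stalkClosedPointTo h₁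
  have hβ : β ≫ CommRingCat.ofHom O.subtype =
      Y.presheaf.stalkSpecializes hsp ≫ Scheme.stalkClosedPointTo hK := by
    apply Spec.map_injective
    rw [← cancel_mono (Y.fromSpecStalk (h₁ (closedPoint O))), factor_fromSpecStalk _ hK hsp,
      Spec.map_comp, Category.assoc, Scheme.Spec_stalkClosedPointTo_fromSpecStalk, hfac]
  have hb : (Y.presheaf.stalkSpecializes hsp ≫ Scheme.stalkClosedPointTo hK).hom b =
      ((β.hom b : O) : K) := by
    rw [← hβ]
    rfl
  rw [hb]
  refine ⟨(β.hom b).2, fun hbm => ?_⟩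
  have hloc : IsLocalHom β.hom := Scheme.isLocalHom_stalkClosedPointTo h₁
  have h3 : β.hom b ∈ maximalIdeal O := map_nonunit β.hom b hbm
  rw [ValuationSubring.mem_nonunits_iff_exists_mem_maximalIdeal]
  exact ⟨(β.hom b).2, h3⟩

end Lift

end Groth.Agent.H4Rat
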