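import Mathlib

/-!
# Composite of a valuation subring with a valuation subring of its residue field
-/

set_option autoImplicit false

namespace Groth.Agent.H4VComp

open IsLocalRing

variable {L : Type*} [Field L] (V₁ : ValuationSubring L) (V₂ : ValuationSubring (ResidueField V₁))

theorem residue_eq_zero_of_mem_nonunits {a : L} (ha : a ∈ V₁.nonunits) :
    ∃ h : a ∈ V₁, residue V₁ ⟨a, h⟩ = 0 := by
  obtain ⟨h, hm⟩ := (ValuationSubring.mem_nonunits_iff_exists_mem_maximalIdeal).1 ha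
  exact ⟨h, (residue_eq_zero_iff _).2 hm⟩

theorem residue_mul_inv {a : L} (ha0 : a ≠ 0) (h : a ∈ V₁) (h' : a⁻¹ ∈ V₁) :
    residue V₁ ⟨a, h⟩ * residue V₁ ⟨a⁻¹, h'⟩ = 1 := by
  rw [← map_mul]
  have : (⟨a, h⟩ : V₁) * ⟨a⁻¹, h'⟩ = 1 := Subtype.ext (mul_inv_cancel₀ ha0)
  rw [this, map_one]

/-- The composite valuation subring. -/
def comp : ValuationSubring L where
  carrier := {a | ∃ h : a ∈ V₁, residue V₁ ⟨a, h⟩ ∈ V₂}
  mul_mem' := by
    rintro a b ⟨ha, ha'⟩ ⟨hb, hb'⟩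
    refine ⟨V₁.mul_mem _ _ ha hb, ?_⟩
    have : (⟨a * b, V₁.mul_mem _ _ ha hb⟩ : V₁) = ⟨a, ha⟩ * ⟨b, hb⟩ := rfl
    rw [this, map_mul]
    exact V₂.mul_mem _ _ ha' hb'
  one_mem' := by
    refine ⟨V₁.one_mem, ?_⟩
    have : (⟨1, V₁.one_mem⟩ : V₁) = 1 := rfl
    rw [this, map_one]
    exact V₂.one_mem
  add_mem' := by
    rintro a b ⟨ha, ha'⟩ ⟨hb, hb'⟩
    refine ⟨V₁.add_mem _ _ ha hb, ?_⟩
    have : (⟨a + b, V₁.add_mem _ _ ha hb⟩ : V₁) = ⟨a, ha⟩ + ⟨b, hb⟩ := rfl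
    rw [this, map_add]
    exact V₂.add_mem _ _ ha' hb'
  zero_mem' := by
    refine ⟨V₁.zero_mem, ?_⟩
    have : (⟨0, V₁.zero_mem⟩ : V₁) = 0 := rfl
    rw [this, map_zero]
    exact V₂.zero_mem
  neg_mem' := by
    rintro a ⟨ha, ha'⟩
    refine ⟨V₁.neg_mem _ ha, ?_⟩
    have : (⟨-a, V₁.neg_mem _ ha⟩ : V₁) = -⟨a, ha⟩ := rfl
    rw [this, map_neg]
    exact V₂.neg_mem _ ha'
  mem_or_inv_mem' := by
    intro a
    by_cases h1 : a ∈ V₁.nonunits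
    · left
      obtain ⟨h, h0⟩ := residue_eq_zero_of_mem_nonunits V₁ h1
      exact ⟨h, h0 ▸ V₂.zero_mem⟩
    by_cases h2 : a⁻¹ ∈ V₁.nonunits
    · right
      obtain ⟨h, h0⟩ := residue_eq_zero_of_mem_nonunits V₁ h2
      exact ⟨h, h0 ▸ V₂.zero_mem⟩
    rw [ValuationSubring.mem_nonunits_iff_or] at h1 h2
    push Not at h1 h2
    obtain ⟨ha0, hinv⟩ := h1
    have ha : a ∈ V₁ := by
      have := h2.2
      rwa [inv_inv] at this
    have hmul := residue_mul_inv V₁ ha0 ha hinv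
    rcases V₂.mem_or_inv_mem (residue V₁ ⟨a, ha⟩) with h | h
    · exact Or.inl ⟨ha, h⟩
    · right
      refine ⟨hinv, ?_⟩
      rw [eq_inv_of_mul_eq_one_right hmul]
      exact h

theorem mem_comp_iff {a : L} : a ∈ comp V₁ V₂ ↔ ∃ h : a ∈ V₁, residue V₁ ⟨a, h⟩ ∈ V₂ := Iff.rfl

theorem comp_le : comp V₁ V₂ ≤ V₁ := fun _ ha => ha.1

theorem mem_nonunits_comp {a : L} (h : a ∈ V₁) (h2 : residue V₁ ⟨a, h⟩ ∈ V₂.nonunits) :
    a ∈ (comp V₁ V₂).nonunits := by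
  rw [ValuationSubring.mem_nonunits_iff_or]
  by_contra hcon
  push Not at hcon
  obtain ⟨ha0, h', hinv⟩ := hcon
  have hmul := residue_mul_inv V₁ ha0 h h'
  rw [ValuationSubring.mem_nonunits_iff_or] at h2
  rcases h2 with h0 | h2
  · rw [h0, zero_mul] at hmul
    exact zero_ne_one hmul
  · apply h2
    rw [← eq_inv_of_mul_eq_one_right hmul]
    exact hinv

end Groth.Agent.H4VComp
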