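import Mathlib
import Groth.Agent.Lib.helper4.ValComp
import Groth.Agent.Lib.helper4.DvrProper5
import Groth.Agent.Lib.helper4.Rat1

/-!
# The existence part of the valuative criterion tested at a generizing set of points
-/

set_option autoImplicit false
universe u

namespace Groth.Agent.H4Dvr

open AlgebraicGeometry CategoryTheory Limits IsLocalRing TopologicalSpace

variable {X Y : Scheme.{u}} (f : X ⟶ Y)

/-- Lifts exist for all valuation subrings of the residue field of `g` (canonical point). -/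
def VExistsAt (g : X) : Prop :=
  ∀ (W : ValuationSubring (X.residueField g)) (y : Spec (CommRingCat.of W) ⟶ Y),
    Spec.map (CommRingCat.ofHom W.subtype) ≫ y = X.fromSpecResidueField g ≫ f →
    ∃ l : Spec (CommRingCat.of W) ⟶ X, l ≫ f = y ∧
      Spec.map (CommRingCat.ofHom W.subtype) ≫ l = X.fromSpecResidueField g

/-- Lifts are unique for all valuation subrings of the residue field of `g`. -/
def VUniqueAt (g : X) : Prop :=
  ∀ (W : ValuationSubring (X.residueField g)) (l₁ l₂ : Spec (CommRingCat.of W) ⟶ X),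
    l₁ ≫ f = l₂ ≫ f →
    Spec.map (CommRingCat.ofHom W.subtype) ≫ l₁ = X.fromSpecResidueField g →
    Spec.map (CommRingCat.ofHom W.subtype) ≫ l₂ = X.fromSpecResidueField g → l₁ = l₂

theorem vUniqueAt_of_isSeparated [IsSeparated f] (g : X) : VUniqueAt f g := by
  intro W l₁ l₂ h12 h1 h2
  have hu := IsSeparated.valuativeCriterion f
  let S : ValuativeCommSq f :=
    { R := W
      K := X.residueField g
      i₁ := X.fromSpecResidueField g
      i₂ := l₁ ≫ f
      commSq := ⟨by rw [← h1, Category.assoc]; rfl⟩ }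
  have := hu S
  let s₁ : S.commSq.LiftStruct := ⟨l₁, h1, rfl⟩
  let s₂ : S.commSq.LiftStruct := ⟨l₂, h2, h12.symm⟩
  exact congrArg CommSq.LiftStruct.l (Subsingleton.elim s₁ s₂)

section Centre

variable {g x : X} (hgx : g ⤳ x)

/-- The map `O_{X,x} → k(g)` for a specialization `g ⤳ x`. -/
noncomputable def spRes : X.presheaf.stalk x ⟶ X.residueField g :=
  X.presheaf.stalkSpecializes hgx ≫ X.residue g

theorem SpecMap_spRes : Spec.map (spRes hgx) ≫ X.fromSpecStalk x = X.fromSpecResidueField g := by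
  rw [spRes, Spec.map_comp, Category.assoc, Scheme.SpecMap_stalkSpecializes_fromSpecStalk]
  rfl

theorem spRes_comp {x' : X} (hxx' : x ⤳ x') :
    X.presheaf.stalkSpecializes hxx' ≫ spRes hgx = spRes (hgx.trans hxx') := by
  rw [spRes, spRes, ← Category.assoc, TopCat.Presheaf.stalkSpecializes_comp]

/-- The morphism `Spec V → X` for a valuation subring `V` of `k(g)` dominating `O_{X,x}`. -/
theorem exists_hom_of_centre (V : ValuationSubring (X.residueField g))
    (hV : ∀ a, (spRes hgx).hom a ∈ V)
    (hloc : IsLocalHom ((spRes hgx).hom.codRestrict V.toSubring hV)) :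
    ∃ l : Spec (CommRingCat.of V) ⟶ X, l.base (closedPoint V) = x ∧
      Spec.map (CommRingCat.ofHom V.subtype) ≫ l = X.fromSpecResidueField g := by
  refine ⟨Spec.map (CommRingCat.ofHom ((spRes hgx).hom.codRestrict V.toSubring hV)) ≫
    X.fromSpecStalk x, ?_, ?_⟩
  · exact Groth.Agent.H4FF.closedPoint_SpecMap_fromSpecStalk x V _
  · rw [← SpecMap_spRes hgx, ← Category.assoc, ← Spec.map_comp]
    rfl

/-- A lift of the canonical point to `Spec W` has its stalk map given by `spRes`. -/
theorem mem_of_lift' (W : ValuationSubring (X.residueField g)) (l : Spec (CommRingCat.of W) ⟶ X)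
    (hl : Spec.map (CommRingCat.ofHom W.subtype) ≫ l = X.fromSpecResidueField g)
    (hgx' : g ⤳ l.base (closedPoint W)) (a : X.presheaf.stalk (l.base (closedPoint W))) :
    (spRes hgx').hom a ∈ W := by
  have hK : (X.fromSpecResidueField g).base (closedPoint (X.residueField g)) = g :=
    Scheme.fromSpecResidueField_apply g _
  have hsp : (X.fromSpecResidueField g).base (closedPoint (X.residueField g)) ⤳
      l.base (closedPoint W) := by rw [hK]; exact hgx'
  have h1 := (Groth.Agent.H4Rat.mem_of_lift W l (X.fromSpecResidueField g) hl _ rfl hsp a).1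
  have h2 : X.presheaf.stalkSpecializes hsp ≫
      Scheme.stalkClosedPointTo (X.fromSpecResidueField g) = spRes hgx' := by
    apply Spec.map_injective
    rw [← cancel_mono (X.fromSpecStalk (l.base (closedPoint W))),
      Groth.Agent.H4Rat.factor_fromSpecStalk _ _ hsp, SpecMap_spRes]
  rw [h2] at h1
  exact h1

end Centre

/-- **Theorem B**: if every point of `X` is a specialization of a point at which lifts of valuation
rings exist and are unique, then the chart property holds (hence the existence part of the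
valuative criterion for quasi-compact `f`). -/
theorem chartProp_of_generizing
    (hG : ∀ x : X, ∃ g : X, g ⤳ x ∧ VExistsAt f g ∧ VUniqueAt f g) : ChartProp f := by
  intro x y₀ hsp W₀ hW₀1 hW₀2 Y₀ hY₀ hy₀ ι _ 𝒰 h𝒰 hle hcov
  obtain ⟨g, hgx, hE, hU⟩ := hG x
  -- the valuation ring `V₁` of `k(g)` dominating `O_{X,x}`
  obtain ⟨V₁, hV₁, hV₁loc⟩ := exists_factor_valuationRing (spRes hgx).hom
  let α' : X.presheaf.stalk x →+* V₁ := (spRes hgx).hom.codRestrict V₁.toSubring hV₁
  let ι₁ : X.residueField x →+* ResidueField V₁ := IsLocalRing.ResidueField.map α'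
  have hι₁ : ∀ t : X.presheaf.stalk x, ι₁ ((X.residue x).hom t) = residue V₁ (α' t) := fun t => rfl
  -- the valuation ring `V₂` of the residue field of `V₁` dominating `W₀`
  obtain ⟨V₂, hV₂, hV₂loc⟩ := exists_factor_valuationRing (ι₁.comp W₀.subtype)
  have hV₂' : ∀ c : X.residueField x, c ∈ W₀ → ι₁ c ∈ V₂ := fun c hc => hV₂ ⟨c, hc⟩
  have hV₂nu : ∀ c : X.residueField x, c ∈ W₀.nonunits → ι₁ c ∈ V₂.nonunits := by
    intro c hc
    obtain ⟨hc1, hc2⟩ := (ValuationSubring.mem_nonunits_iff_exists_mem_maximalIdeal).1 hc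
    rw [ValuationSubring.mem_nonunits_iff_exists_mem_maximalIdeal]
    refine ⟨hV₂' c hc1, ?_⟩
    have : IsLocalRing ↥V₂.toSubring := inferInstanceAs (IsLocalRing V₂)
    exact map_nonunit ((ι₁.comp W₀.subtype).codRestrict V₂.toSubring hV₂) ⟨c, hc1⟩ hc2
  have hI3 : ∀ c : X.residueField x, ι₁ c ∈ V₂ → c ∈ W₀ := by
    intro c hc
    by_contra hcW
    have hc0 : c ≠ 0 := by
      rintro rfl
      exact hcW W₀.zero_mem
    have h1 : c⁻¹ ∈ W₀.nonunits := (ValuationSubring.inv_mem_nonunits_iff W₀).2 (Or.inr hcW)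
    have h2 := hV₂nu _ h1
    rw [map_inv₀, ValuationSubring.inv_mem_nonunits_iff] at h2
    rcases h2 with h2 | h2
    · exact hc0 ((map_eq_zero ι₁).1 h2)
    · exact h2 hc
  let W : ValuationSubring (X.residueField g) := Groth.Agent.H4VComp.comp V₁ V₂
  -- key: membership in `W` of `spRes hgx t` is membership of the residue of `t` in `W₀`
  have hWmem : ∀ t : X.presheaf.stalk x, (spRes hgx).hom t ∈ W ↔ (X.residue x).hom t ∈ W₀ := by
    intro t
    constructor
    · rintro ⟨h, h'⟩
      exact hI3 _ h'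
    · intro h
      exact ⟨hV₁ t, hV₂' _ h⟩
  have hWnu : ∀ t : X.presheaf.stalk x, (X.residue x).hom t ∈ W₀.nonunits →
      (spRes hgx).hom t ∈ W.nonunits := by
    intro t h
    exact Groth.Agent.H4VComp.mem_nonunits_comp V₁ V₂ (hV₁ t) (hV₂nu _ h)
  -- the morphism `Spec W → Y`
  have hsp' : f.base g ⤳ y₀ := (hgx.map f.continuous).trans hsp
  have hfac : toRes f g y₀ hsp' =
      (Y.presheaf.stalkSpecializes hsp ≫ f.stalkMap x) ≫ spRes hgx := by
    have h1 : Y.presheaf.stalkSpecializes hsp' = Y.presheaf.stalkSpecializes hsp ≫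
        Y.presheaf.stalkSpecializes (f.base.hom.map_specializes hgx) := by
      rw [TopCat.Presheaf.stalkSpecializes_comp]
    rw [toRes, h1, spRes, Category.assoc, Category.assoc,
      ← Scheme.Hom.stalkSpecializes_stalkMap_assoc]
  have hres : ∀ a, (toRes f x y₀ hsp).hom a =
      (X.residue x).hom ((Y.presheaf.stalkSpecializes hsp ≫ f.stalkMap x).hom a) := by
    intro a
    simp only [toRes, CommRingCat.hom_comp, RingHom.comp_apply]
  have hγW : ∀ a, (toRes f g y₀ hsp').hom a ∈ W := by
    intro a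
    rw [hfac, CommRingCat.hom_comp, RingHom.comp_apply, hWmem, ← hres]
    exact hW₀1 a
  have hγloc : IsLocalHom ((toRes f g y₀ hsp').hom.codRestrict W.toSubring hγW) := by
    apply Groth.Agent.H4FF.isLocalHom_codRestrict W _ hγW
    intro a ha
    rw [← ValuationSubring.mem_nonunits_iff, hfac, CommRingCat.hom_comp, RingHom.comp_apply]
    apply hWnu
    rw [← hres]
    exact hW₀2 a ha
  obtain ⟨y, hy1, hy2⟩ := exists_hom_of_factor f g y₀ hsp' W hγW hγloc
  obtain ⟨l, hl1, hl2⟩ := hE W y hy2
  -- compare the two lifts over `V₁`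
  let inclC : CommRingCat.of W ⟶ CommRingCat.of V₁ :=
    CommRingCat.ofHom (ValuationSubring.inclusion W V₁ (Groth.Agent.H4VComp.comp_le V₁ V₂))
  have hincl : inclC ≫ CommRingCat.ofHom V₁.subtype = CommRingCat.ofHom W.subtype := rfl
  obtain ⟨l₁, hl₁def⟩ : ∃ l₁ : Spec (CommRingCat.of V₁) ⟶ X, l₁ = Spec.map inclC ≫ l := ⟨_, rfl⟩
  have hl₁gen : Spec.map (CommRingCat.ofHom V₁.subtype) ≫ l₁ = X.fromSpecResidueField g := by
    rw [hl₁def, ← hl2, ← hincl, Spec.map_comp, Category.assoc]
  obtain ⟨l₁', hl₁'c, hl₁'gen⟩ := exists_hom_of_centre hgx V₁ hV₁ hV₁loc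
  let P : Spec (CommRingCat.of W) := (Spec.map inclC).base (closedPoint V₁)
  have hPsp : P ⤳ closedPoint W := IsLocalRing.specializes_closedPoint (R := W) P
  have hfeq : l₁ ≫ f = l₁' ≫ f := by
    have hinj : Function.Injective (CommRingCat.ofHom V₁.subtype :
        CommRingCat.of V₁ ⟶ X.residueField g).hom := Subtype.val_injective
    refine Groth.Agent.H4Rat.hom_ext_of_local (R := CommRingCat.of V₁)
      (CommRingCat.ofHom V₁.subtype) hinj y₀ _ _ ?_ ?_ ?_
    · have h1 : (l₁ ≫ f).base (closedPoint V₁) = y.base P := by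
        rw [← hl1, hl₁def]
        rfl
      rw [h1, ← hy1]
      exact hPsp.map y.continuous
    · have h1 : (l₁' ≫ f).base (closedPoint V₁) = f.base x := by
        rw [← hl₁'c]
        rfl
      rw [h1]
      exact hsp
    · rw [← Category.assoc, ← Category.assoc, hl₁gen, hl₁'gen]
  have hl₁eq : l₁ = l₁' := hU V₁ l₁ l₁' hfeq hl₁gen hl₁'gen
  have hlP : l.base P = x := by
    have : l₁.base (closedPoint V₁) = x := by rw [hl₁eq]; exact hl₁'c
    rw [hl₁def] at this
    exact this
  have hxx' : x ⤳ l.base (closedPoint W) := by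
    rw [← hlP]
    exact hPsp.map l.continuous
  -- the chart
  have hfx' : f.base (l.base (closedPoint W)) ∈ Y₀ := by
    have h1 : f.base (l.base (closedPoint W)) = y.base (closedPoint W) := by
      rw [← hl1]
      rfl
    rw [h1, hy1]
    exact hy₀
  obtain ⟨i, hx'i⟩ := hcov _ hfx'
  have hxi : x ∈ 𝒰 i := hxx'.mem_open (𝒰 i).isOpen hx'i
  refine ⟨i, hxi, fun e => ?_⟩
  have h1 := mem_of_lift' W l hl2 (hgx.trans hxx') (X.presheaf.germ (𝒰 i) _ hx'i e)
  rw [← spRes_comp hgx hxx', CommRingCat.hom_comp, RingHom.comp_apply] at h1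
  have h2 : (X.presheaf.stalkSpecializes hxx').hom (X.presheaf.germ (𝒰 i) _ hx'i e) =
      X.presheaf.germ (𝒰 i) x hxi e := by
    have := X.presheaf.germ_stalkSpecializes hx'i hxx'
    exact congrArg (fun m => m.hom e) this
  rw [h2, hWmem] at h1
  exact h1

/-- The existence part of the valuative criterion from lifts at a generizing set of points. -/
theorem existence_of_generizing [QuasiCompact f]
    (hG : ∀ x : X, ∃ g : X, g ⤳ x ∧ VExistsAt f g ∧ VUniqueAt f g) :
    ValuativeCriterion.Existence f :=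
  existence_of_chartProp f (chartProp_of_generizing f hG)

end Groth.Agent.H4Dvr
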