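import Mathlib
import Groth.Agent.Lib.helper4.DvrProper3
import Groth.Agent.Lib.helper4.VCrit1

/-!
# Pointwise version: DVR lifts at a point give lifts for all valuation subrings at that point
-/

set_option autoImplicit false
universe u

namespace Groth.Agent.H4Dvr

open AlgebraicGeometry CategoryTheory Limits IsLocalRing TopologicalSpace

variable {X Y : Scheme.{u}} (f : X ⟶ Y)

/-- Lifts exist for all discrete valuation subrings of the residue field of `g`. -/
def DvrExistsAt (g : X) : Prop :=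
  ∀ (O : ValuationSubring (X.residueField g)), IsDiscreteValuationRing O →
    ∀ y : Spec (CommRingCat.of O) ⟶ Y,
      Spec.map (CommRingCat.ofHom O.subtype) ≫ y = X.fromSpecResidueField g ≫ f →
      ∃ l : Spec (CommRingCat.of O) ⟶ X, l ≫ f = y ∧
        Spec.map (CommRingCat.ofHom O.subtype) ≫ l = X.fromSpecResidueField g

/-- A morphism `Spec O → Y` from a subring `O` of `k(x)` containing the image of `Γ(Y₀)`. -/
theorem fromSpecResidueField_comp_eq (x : X) {Y₀ : Y.Opens} (hY₀ : IsAffineOpen Y₀)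
    (hx : f x ∈ Y₀) {U : X.Opens} (hU : IsAffineOpen U) (hUle : U ≤ f ⁻¹ᵁ Y₀) (hxU : x ∈ U) :
    X.fromSpecResidueField x ≫ f = Spec.map (baseToResidue f x hx) ≫ hY₀.fromSpec := by
  rw [fromSpecResidueField_eq hU x hxU, Category.assoc,
    ← IsAffineOpen.SpecMap_appLE_fromSpec f hY₀ hU hUle, ← Spec.map_comp_assoc,
    appLE_toResidue]

theorem exists_chart_of_dvr' (x : X) (HD : DvrExistsAt f x) {Y₀ : Y.Opens}
    (hY₀ : IsAffineOpen Y₀)
    (hx : f x ∈ Y₀) (O : ValuationSubring (X.residueField x)) [IsDiscreteValuationRing O]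
    (hO : ∀ b, (baseToResidue f x hx).hom b ∈ O)
    {ι : Type*} (𝒰 : ι → X.Opens) (h𝒰 : ∀ i, IsAffineOpen (𝒰 i)) (hle : ∀ i, 𝒰 i ≤ f ⁻¹ᵁ Y₀)
    (hcov : ∀ z : X, f z ∈ Y₀ → ∃ i, z ∈ 𝒰 i) :
    ∃ (i : ι) (hxi : x ∈ 𝒰 i), ∀ e, (toResidue x hxi).hom e ∈ O := by
  let βO : Γ(Y, Y₀) ⟶ CommRingCat.of O :=
    CommRingCat.ofHom ((baseToResidue f x hx).hom.codRestrict O.toSubring hO)
  let incl : CommRingCat.of O ⟶ X.residueField x := CommRingCat.ofHom O.subtype
  have hβ : baseToResidue f x hx = βO ≫ incl := rfl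
  let yA : Spec (CommRingCat.of O) ⟶ Y := Spec.map βO ≫ hY₀.fromSpec
  have hsq : Spec.map incl ≫ yA = X.fromSpecResidueField x ≫ f := by
    obtain ⟨i₀, hxi₀⟩ := hcov x hx
    rw [fromSpecResidueField_comp_eq f x hY₀ hx (h𝒰 i₀) (hle i₀) hxi₀, hβ, Spec.map_comp,
      Category.assoc]
  obtain ⟨l, hl1, hl2'⟩ := HD O inferInstance yA hsq
  have hl2 : Spec.map incl ≫ l = X.fromSpecResidueField x := hl2'
  have hz : f (l (closedPoint O)) ∈ Y₀ := by
    have h1 : f (l (closedPoint O)) = yA (closedPoint O) := by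
      rw [← hl1]
      rfl
    rw [h1]
    have : yA (closedPoint O) ∈ Set.range hY₀.fromSpec := ⟨Spec.map βO (closedPoint O), rfl⟩
    rw [hY₀.range_fromSpec] at this
    exact this
  obtain ⟨i, hzi⟩ := hcov _ hz
  have hl := eq_SpecMap_fromSpec l (h𝒰 i) hzi
  let lam : Γ(X, 𝒰 i) ⟶ CommRingCat.of O :=
    X.presheaf.germ (𝒰 i) _ hzi ≫ Scheme.stalkClosedPointTo l
  have hxi : x ∈ 𝒰 i := by
    let ξ : Spec (X.residueField x) := closedPoint (X.residueField x)
    have h1 : (X.fromSpecResidueField x) ξ = x := Scheme.fromSpecResidueField_apply x _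
    have h2 : (X.fromSpecResidueField x) ξ ∈ Set.range (h𝒰 i).fromSpec := by
      rw [← hl2, hl]
      exact ⟨Spec.map lam (Spec.map incl ξ), rfl⟩
    rw [(h𝒰 i).range_fromSpec, h1] at h2
    exact h2
  refine ⟨i, hxi, ?_⟩
  have key : lam ≫ incl = toResidue x hxi := by
    have h3 : Spec.map incl ≫ Spec.map lam ≫ (h𝒰 i).fromSpec =
        Spec.map (toResidue x hxi) ≫ (h𝒰 i).fromSpec := by
      rw [← hl, hl2, ← fromSpecResidueField_eq (h𝒰 i) x hxi]
    rw [← Category.assoc, cancel_mono, ← Spec.map_comp] at h3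
    exact Spec.map_injective h3
  intro e
  rw [← key]
  exact (lam.hom e).2

theorem exists_chart_of_valuationSubring' [IsLocallyNoetherian Y] [LocallyOfFiniteType f]
    (x : X) (HD : DvrExistsAt f x) {Y₀ : Y.Opens} (hY₀ : IsAffineOpen Y₀) (hx : f x ∈ Y₀)
    (W : ValuationSubring (X.residueField x))
    (hW : ∀ b, (baseToResidue f x hx).hom b ∈ W)
    {ι : Type*} [Finite ι] (𝒰 : ι → X.Opens) (h𝒰 : ∀ i, IsAffineOpen (𝒰 i))
    (hle : ∀ i, 𝒰 i ≤ f ⁻¹ᵁ Y₀) (hcov : ∀ z : X, f z ∈ Y₀ → ∃ i, z ∈ 𝒰 i) :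
    ∃ (i : ι) (hxi : x ∈ 𝒰 i), ∀ e, (toResidue x hxi).hom e ∈ W := by
  classical
  by_contra hcon
  push Not at hcon
  choose e he using hcon
  let T : Set (X.residueField x) :=
    {t | ∃ (i : ι) (hxi : x ∈ 𝒰 i), t = ((toResidue x hxi).hom (e i hxi))⁻¹}
  have hTfin : T.Finite := by
    apply (Set.finite_range (fun i : ι =>
      if h : x ∈ 𝒰 i then ((toResidue x h).hom (e i h))⁻¹ else 0)).subset
    rintro t ⟨i, hxi, rfl⟩
    exact ⟨i, by simp [hxi]⟩
  have hTW : T ⊆ W.nonunits := by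
    rintro t ⟨i, hxi, rfl⟩
    rw [SetLike.mem_coe, W.inv_mem_nonunits_iff]
    exact Or.inr (he i hxi)
  have hT0 : ∃ t ∈ T, t ≠ 0 := by
    obtain ⟨i, hxi⟩ := hcov x hx
    refine ⟨_, ⟨i, hxi, rfl⟩, inv_ne_zero ?_⟩
    intro h0
    exact he i hxi (h0 ▸ W.zero_mem)
  let β := (baseToResidue f x hx).hom
  let R : Subring (X.residueField x) := β.range
  have hB : IsNoetherianRing Γ(Y, Y₀) := IsLocallyNoetherian.component_noetherian ⟨Y₀, hY₀⟩
  have hRnoeth : IsNoetherianRing R :=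
    isNoetherianRing_of_surjective _ _ β.rangeRestrict β.rangeRestrict_surjective
  have hRW : R ≤ W.toSubring := by
    rintro _ ⟨b, rfl⟩
    exact hW b
  obtain ⟨S, hS⟩ := closure_eq_top_of_essFiniteType
    (Y.presheaf.germ Y₀ (f x) hx ≫ f.stalkMap x).hom (essFiniteType_germ_stalkMap f x hY₀ hx)
    (X.residue x).hom IsLocalRing.residue_surjective
  have hcl : Subfield.closure ((R : Set (X.residueField x)) ∪ S) = ⊤ := by
    rw [← hS]
    rfl
  obtain ⟨O, hO, hRO, hTO⟩ := exists_dvr_of_finite_nonunits R W hRW T hTfin hTW hT0 S hcl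
  obtain ⟨i, hxi, hi⟩ :=
    exists_chart_of_dvr' f x HD hY₀ hx O (fun b => hRO ⟨b, rfl⟩) 𝒰 h𝒰 hle hcov
  have h1 := hi (e i hxi)
  have h2 : ((toResidue x hxi).hom (e i hxi))⁻¹ ∈ O.nonunits := hTO ⟨i, hxi, rfl⟩
  rw [O.inv_mem_nonunits_iff] at h2
  rcases h2 with h0 | h2
  · exact he i hxi (h0 ▸ W.zero_mem)
  · exact h2 h1

/-- DVR lifts at `g` give lifts for all valuation subrings of `k(g)`. -/
theorem vExistsAt_of_dvrExistsAt [IsLocallyNoetherian Y] [LocallyOfFiniteType f] [QuasiCompact f]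
    (g : X) (HD : DvrExistsAt f g) : VExistsAt f g := by
  intro W y hy
  obtain ⟨Y₀, hY₀, hy₀, -⟩ :=
    exists_isAffineOpen_mem_and_subset (x := y (closedPoint W)) (U := ⊤) trivial
  have hWloc : IsLocalRing (CommRingCat.of W) := (inferInstance : IsLocalRing W)
  have hyβ := eq_SpecMap_fromSpec y hY₀ hy₀
  set β : Γ(Y, Y₀) ⟶ CommRingCat.of W :=
    Y.presheaf.germ Y₀ _ hy₀ ≫ Scheme.stalkClosedPointTo y with hβdef
  let incl : CommRingCat.of W ⟶ X.residueField g := CommRingCat.ofHom W.subtype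
  -- `f g ∈ Y₀`
  have hfg : f g = y ((Spec.map incl) (closedPoint (X.residueField g))) := by
    have := congrArg (fun m => m.base (closedPoint (X.residueField g))) hy
    simp only [Scheme.Hom.comp_base, TopCat.coe_comp, Function.comp_apply] at this
    rw [Scheme.fromSpecResidueField_apply] at this
    exact this.symm
  have hx : f g ∈ Y₀ := by
    rw [hfg]
    exact ((IsLocalRing.specializes_closedPoint (R := W) _).map y.continuous).mem_open
      Y₀.isOpen hy₀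
  -- finite affine cover of the preimage
  have hcomp : IsCompact (f ⁻¹ᵁ Y₀ : Set X) := f.isCompact_preimage hY₀.isCompact
  obtain ⟨s, hsfin, hs⟩ := isCompact_iff_finite_and_eq_biUnion_affineOpens.1 hcomp
  have hfin : Finite ↥s := hsfin.to_subtype
  let 𝒰 : ↥s → X.Opens := fun i => (i.1 : X.Opens)
  have h𝒰 : ∀ i, IsAffineOpen (𝒰 i) := fun i => i.1.2
  have hle : ∀ i, 𝒰 i ≤ f ⁻¹ᵁ Y₀ := by
    intro i
    rw [hs]
    exact le_iSup₂ (f := fun (j : X.affineOpens) (_ : j ∈ s) => (j : X.Opens)) i.1 i.2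
  have hcov : ∀ z : X, f z ∈ Y₀ → ∃ i, z ∈ 𝒰 i := by
    intro z hz
    have hz' : z ∈ f ⁻¹ᵁ Y₀ := hz
    rw [hs] at hz'
    simp only [Opens.mem_iSup] at hz'
    obtain ⟨j, hj, hzj⟩ := hz'
    exact ⟨⟨j, hj⟩, hzj⟩
  -- `β ≫ incl = baseToResidue`
  have hβ : β ≫ incl = baseToResidue f g hx := by
    obtain ⟨i₀, hgi₀⟩ := hcov g hx
    have hy' : Spec.map incl ≫ y = X.fromSpecResidueField g ≫ f := hy
    have h1 : Spec.map (β ≫ incl) ≫ hY₀.fromSpec =
        Spec.map (baseToResidue f g hx) ≫ hY₀.fromSpec := by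
      rw [← fromSpecResidueField_comp_eq f g hY₀ hx (h𝒰 i₀) (hle i₀) hgi₀, ← hy', Spec.map_comp,
        Category.assoc, ← hyβ]
    exact Spec.map_injective ((cancel_mono _).1 h1)
  have hW : ∀ b, (baseToResidue f g hx).hom b ∈ W := by
    intro b
    rw [← hβ]
    exact (β.hom b).2
  obtain ⟨i, hgi, hi⟩ :=
    exists_chart_of_valuationSubring' f g HD hY₀ hx W hW 𝒰 h𝒰 hle hcov
  let lam : Γ(X, 𝒰 i) ⟶ CommRingCat.of W :=
    CommRingCat.ofHom ((toResidue g hgi).hom.codRestrict W.toSubring hi)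
  have hlam : lam ≫ incl = toResidue g hgi := rfl
  refine ⟨Spec.map lam ≫ (h𝒰 i).fromSpec, ?_, ?_⟩
  · rw [Category.assoc, ← IsAffineOpen.SpecMap_appLE_fromSpec f hY₀ (h𝒰 i) (hle i),
      ← Spec.map_comp_assoc, hyβ]
    congr 2
    have hmono : Mono incl :=
      ConcreteCategory.mono_of_injective incl Subtype.val_injective
    rw [← cancel_mono incl, Category.assoc, hlam, appLE_toResidue, hβ]
  · have h3 : Spec.map incl ≫ Spec.map lam ≫ (h𝒰 i).fromSpec = X.fromSpecResidueField g := by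
      rw [← Category.assoc, ← Spec.map_comp, hlam, ← fromSpecResidueField_eq (h𝒰 i) g hgi]
    exact h3

end Groth.Agent.H4Dvr
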