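import Mathlib
import Groth.Agent.Lib.helper4.DvrScheme

/-!
# Noetherian valuative criterion of separatedness (DVR version)
-/

set_option autoImplicit false
universe u

namespace Groth.Agent.H4Dvr

open AlgebraicGeometry CategoryTheory Limits IsLocalRing

variable {X Y : Scheme.{u}} (f : X ⟶ Y)

theorem dvr_uniqueness_of_isSeparated [IsSeparated f] (A : Type u) [CommRing A] [IsDomain A]
    [IsDiscreteValuationRing A] (g₁ g₂ : Spec (CommRingCat.of A) ⟶ X) (h1 : g₁ ≫ f = g₂ ≫ f)
    (h2 : Spec.map (CommRingCat.ofHom (algebraMap A (FractionRing A))) ≫ g₁ =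
      Spec.map (CommRingCat.ofHom (algebraMap A (FractionRing A))) ≫ g₂) : g₁ = g₂ := by
  have hu := IsSeparated.valuativeCriterion f
  let S : ValuativeCommSq f :=
    { R := A
      K := FractionRing A
      i₁ := Spec.map (CommRingCat.ofHom (algebraMap A (FractionRing A))) ≫ g₁
      i₂ := g₁ ≫ f
      commSq := ⟨by rw [Category.assoc]⟩ }
  have := hu S
  let l₁ : S.commSq.LiftStruct := ⟨g₁, rfl, rfl⟩
  let l₂ : S.commSq.LiftStruct := ⟨g₂, h2.symm, h1.symm⟩
  exact congrArg CommSq.LiftStruct.l (Subsingleton.elim l₁ l₂)

theorem isSeparated_of_dvr_uniqueness [IsLocallyNoetherian Y] [LocallyOfFiniteType f]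
    (H : ∀ (A : Type u) [CommRing A] [IsDomain A] [IsDiscreteValuationRing A]
      (g₁ g₂ : Spec (CommRingCat.of A) ⟶ X), g₁ ≫ f = g₂ ≫ f →
      Spec.map (CommRingCat.ofHom (algebraMap A (FractionRing A))) ≫ g₁ =
        Spec.map (CommRingCat.ofHom (algebraMap A (FractionRing A))) ≫ g₂ → g₁ = g₂) :
    IsSeparated f := by
  have hX : IsLocallyNoetherian X := LocallyOfFiniteType.isLocallyNoetherian f
  have hΔft : LocallyOfFiniteType (pullback.diagonal f) := by
    have : LocallyOfFiniteType (pullback.diagonal f ≫ pullback.fst f f) := by
      rw [pullback.diagonal_fst]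
      infer_instance
    exact locallyOfFiniteType_of_comp (pullback.diagonal f) (pullback.fst f f)
  have hqc : QuasiCompact (pullback.diagonal f) := inferInstance
  refine ⟨IsClosedImmersion.of_isPreimmersion _ ?_⟩
  apply IsClosedMap.isClosed_range
  rw [isClosedMap_iff_specializingMap]
  intro x z' hsp
  by_cases hne : z' = (pullback.diagonal f).base x
  · exact ⟨x, specializes_rfl, hne.symm⟩
  obtain ⟨A, h, hA, h1, h2⟩ := exists_dvr_through_specialization (pullback.diagonal f) x z' hsp hne
  -- the two projections agree
  have hg : h ≫ pullback.fst f f = h ≫ pullback.snd f f := by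
    apply H A
    · rw [Category.assoc, Category.assoc, pullback.condition]
    · let e : FractionRing A ≃ₐ[A] X.residueField x := FractionRing.algEquiv A (X.residueField x)
      have he : (CommRingCat.ofHom A.subtype : CommRingCat.of A ⟶
            CommRingCat.of (X.residueField x)) =
          CommRingCat.ofHom (algebraMap A (FractionRing A)) ≫
            CommRingCat.ofHom (e : FractionRing A →+* X.residueField x) := by
        ext a
        exact (e.commutes a).symm
      have h3 : Spec.map (CommRingCat.ofHom A.subtype) ≫ h ≫ pullback.fst f f =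
          Spec.map (CommRingCat.ofHom A.subtype) ≫ h ≫ pullback.snd f f := by
        rw [reassoc_of% h2, reassoc_of% h2, pullback.diagonal_fst, pullback.diagonal_snd]
      rw [he, Spec.map_comp, Category.assoc, Category.assoc] at h3
      have hiso : IsIso (Spec.map (CommRingCat.ofHom (e : FractionRing A →+* X.residueField x))) := by
        have : IsIso (CommRingCat.ofHom (e : FractionRing A →+* X.residueField x)) :=
          (e.toRingEquiv.toCommRingCatIso).isIso_hom
        infer_instance
      exact (cancel_epi _).1 h3
  have hh : h = (h ≫ pullback.fst f f) ≫ pullback.diagonal f := by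
    apply pullback.hom_ext
    · rw [Category.assoc, pullback.diagonal_fst, Category.comp_id]
    · rw [Category.assoc, pullback.diagonal_snd, Category.comp_id, hg]
  refine ⟨(h ≫ pullback.fst f f).base (closedPoint A), ?_, ?_⟩
  · change x ⤳ (h ≫ pullback.fst f f).base (closedPoint A)
    let ξ : Spec (X.residueField x) := closedPoint (X.residueField x)
    have h4 : (Spec.map (CommRingCat.ofHom A.subtype) ≫ h ≫ pullback.fst f f).base ξ = x := by
      rw [reassoc_of% h2, pullback.diagonal_fst, Category.comp_id,
        Scheme.fromSpecResidueField_apply]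
    have h5 : (Spec.map (CommRingCat.ofHom A.subtype) ≫ h ≫ pullback.fst f f).base ξ ⤳
        (h ≫ pullback.fst f f).base (closedPoint A) := by
      simp only [Scheme.Hom.comp_base, TopCat.coe_comp, Function.comp_apply]
      exact ((specializes_closedPoint _).map h.base.hom.continuous).map
        (pullback.fst f f).base.hom.continuous
    rw [h4] at h5
    exact h5
  · rw [← h1]
    conv_rhs => rw [hh]
    simp only [Scheme.Hom.comp_base, TopCat.coe_comp, Function.comp_apply]

end Groth.Agent.H4Dvr
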