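import Mathlib
import Groth.Agent.Lib.helper4.DvrSep

/-!
# Noetherian valuative criterion of separatedness tested at generic points only
-/

set_option autoImplicit false
universe u

namespace Groth.Agent.H4Dvr

open AlgebraicGeometry CategoryTheory Limits IsLocalRing

/-- Every point of a quasi-sober space is a specialization of the generic point of an irreducible
component. -/
theorem exists_generic_specializes {T : Type*} [TopologicalSpace T] [QuasiSober T] (x : T) :
    ∃ η : T, closure {η} ∈ irreducibleComponents T ∧ η ⤳ x := by
  obtain ⟨η, hη⟩ := QuasiSober.sober (isIrreducible_irreducibleComponent (x := x))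
    (isClosed_irreducibleComponent (x := x))
  refine ⟨η, ?_, ?_⟩
  · rw [hη.def]
    exact irreducibleComponent_mem_irreducibleComponents x
  · rw [specializes_iff_mem_closure, hη.def]
    exact mem_irreducibleComponent

variable {X Y : Scheme.{u}} (f : X ⟶ Y)

/-- The uniqueness condition tested on discrete valuation subrings of the residue fields of the
generic points of irreducible components. -/
def GenericDvrUniqueness : Prop :=
  ∀ (η : X), closure {η} ∈ irreducibleComponents (X : Type u) →
    ∀ (A : ValuationSubring (X.residueField η)), IsDiscreteValuationRing A →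
      ∀ l₁ l₂ : Spec (CommRingCat.of A) ⟶ X, l₁ ≫ f = l₂ ≫ f →
        Spec.map (CommRingCat.ofHom A.subtype) ≫ l₁ = X.fromSpecResidueField η →
        Spec.map (CommRingCat.ofHom A.subtype) ≫ l₂ = X.fromSpecResidueField η → l₁ = l₂

theorem genericDvrUniqueness_of_isSeparated [IsSeparated f] : GenericDvrUniqueness f := by
  intro η _ A _ l₁ l₂ h12 h1 h2
  have hu := IsSeparated.valuativeCriterion f
  let S : ValuativeCommSq f :=
    { R := A
      K := X.residueField η
      i₁ := X.fromSpecResidueField η
      i₂ := l₁ ≫ f
      commSq := ⟨by rw [← h1, Category.assoc]; rfl⟩ }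
  have := hu S
  let s₁ : S.commSq.LiftStruct := ⟨l₁, h1, rfl⟩
  let s₂ : S.commSq.LiftStruct := ⟨l₂, h2, h12.symm⟩
  exact congrArg CommSq.LiftStruct.l (Subsingleton.elim s₁ s₂)

theorem isSeparated_of_genericDvrUniqueness [IsLocallyNoetherian Y] [LocallyOfFiniteType f]
    (H : GenericDvrUniqueness f) : IsSeparated f := by
  have hX : IsLocallyNoetherian X := LocallyOfFiniteType.isLocallyNoetherian f
  have hΔft : LocallyOfFiniteType (pullback.diagonal f) := by
    have : LocallyOfFiniteType (pullback.diagonal f ≫ pullback.fst f f) := by
      rw [pullback.diagonal_fst]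
      infer_instance
    exact locallyOfFiniteType_of_comp (pullback.diagonal f) (pullback.fst f f)
  have hqc : QuasiCompact (pullback.diagonal f) := inferInstance
  refine ⟨IsClosedImmersion.of_isPreimmersion _ ?_⟩
  apply IsClosedMap.isClosed_range
  rw [isClosedMap_iff_specializingMap]
  intro x z' hsp
  obtain ⟨η, hη, hηx⟩ := exists_generic_specializes x
  have hsp' : (pullback.diagonal f).base η ⤳ z' :=
    (hηx.map (pullback.diagonal f).continuous).trans hsp
  have key : ∃ x', (pullback.diagonal f).base x' = z' := by
    by_cases hne : z' = (pullback.diagonal f).base η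
    · exact ⟨η, hne.symm⟩
    obtain ⟨A, h, hA, h1, h2⟩ :=
      exists_dvr_through_specialization (pullback.diagonal f) η z' hsp' hne
    have hg : h ≫ pullback.fst f f = h ≫ pullback.snd f f := by
      apply H η hη A hA
      · rw [Category.assoc, Category.assoc, pullback.condition]
      · rw [reassoc_of% h2, pullback.diagonal_fst, Category.comp_id]
      · rw [reassoc_of% h2, pullback.diagonal_snd, Category.comp_id]
    have hh : h = (h ≫ pullback.fst f f) ≫ pullback.diagonal f := by
      apply pullback.hom_ext
      · rw [Category.assoc, pullback.diagonal_fst, Category.comp_id]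
      · rw [Category.assoc, pullback.diagonal_snd, Category.comp_id, hg]
    refine ⟨(h ≫ pullback.fst f f).base (closedPoint A), ?_⟩
    rw [← h1]
    conv_rhs => rw [hh]
    simp only [Scheme.Hom.comp_base, TopCat.coe_comp, Function.comp_apply]
  obtain ⟨x', hx'⟩ := key
  refine ⟨x', ?_, hx'⟩
  have hemb : Topology.IsEmbedding (pullback.diagonal f).base :=
    (pullback.diagonal f).isEmbedding
  rw [← hx'] at hsp
  exact hemb.isInducing.specializes_iff.1 hsp

end Groth.Agent.H4Dvr
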