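import Mathlib
import Groth.Agent.Lib.helper4.DvrSep
import Groth.Agent.Lib.helper4.QcClosure

/-!
# Noetherian valuative criterion of separatedness tested through a dense morphism
-/

set_option autoImplicit false
universe u

namespace Groth.Agent.H4Dvr

open AlgebraicGeometry CategoryTheory Limits IsLocalRing

variable {X S U : Scheme.{u}} (f : X ⟶ S) (h : U ⟶ X)

theorem isSeparated_of_dense_dvr_uniqueness [IsLocallyNoetherian S] [LocallyOfFiniteType f]
    [LocallyOfFiniteType h] [QuasiCompact h] (hd : DenseRange h.base)
    (H : ∀ (A : Type u) [CommRing A] [IsDomain A] [IsDiscreteValuationRing A]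
      (u : Spec (CommRingCat.of (FractionRing A)) ⟶ U) (y : Spec (CommRingCat.of A) ⟶ S),
      u ≫ h ≫ f = Spec.map (CommRingCat.ofHom (algebraMap A (FractionRing A))) ≫ y →
        ∀ l₁ l₂ : Spec (CommRingCat.of A) ⟶ X, l₁ ≫ f = y →
          Spec.map (CommRingCat.ofHom (algebraMap A (FractionRing A))) ≫ l₁ = u ≫ h →
          l₂ ≫ f = y →
          Spec.map (CommRingCat.ofHom (algebraMap A (FractionRing A))) ≫ l₂ = u ≫ h → l₁ = l₂) :
    IsSeparated f := by
  have hX : IsLocallyNoetherian X := LocallyOfFiniteType.isLocallyNoetherian f
  have hΔft : LocallyOfFiniteType (pullback.diagonal f) := by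
    have : LocallyOfFiniteType (pullback.diagonal f ≫ pullback.fst f f) := by
      rw [pullback.diagonal_fst]
      infer_instance
    exact locallyOfFiniteType_of_comp (pullback.diagonal f) (pullback.fst f f)
  have hqc : QuasiCompact (pullback.diagonal f) := inferInstance
  have hXX : IsLocallyNoetherian (pullback f f) :=
    LocallyOfFiniteType.isLocallyNoetherian (pullback.fst f f)
  refine ⟨IsClosedImmersion.of_isPreimmersion _ ?_⟩
  rw [← closure_subset_iff_isClosed]
  intro z' hz'
  -- `z'` lies in the closure of the range of `h ≫ Δ`
  have hz'' : z' ∈ closure (Set.range (h ≫ pullback.diagonal f).base) := by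
    have h1 : Set.range (pullback.diagonal f).base ⊆
        closure (Set.range (h ≫ pullback.diagonal f).base) := by
      rintro _ ⟨x, rfl⟩
      have hx : x ∈ closure (Set.range h.base) := hd x
      have h2 := image_closure_subset_closure_image (pullback.diagonal f).continuous
        (s := Set.range h.base) ⟨x, hx, rfl⟩
      rw [← Set.range_comp] at h2
      exact h2
    exact (isClosed_closure.closure_subset_iff.2 h1) hz'
  obtain ⟨u, hu⟩ := Groth.Agent.H4Qc.exists_specializes_of_mem_closure_range
    (h ≫ pullback.diagonal f) z' hz''
  by_cases hne : z' = (h ≫ pullback.diagonal f).base u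
  · exact ⟨h.base u, hne.symm⟩
  obtain ⟨A, m, hA, h1, h2⟩ :=
    exists_dvr_through_specialization (h ≫ pullback.diagonal f) u z' hu hne
  let e : FractionRing A ≃ₐ[A] U.residueField u := FractionRing.algEquiv A (U.residueField u)
  have he : (CommRingCat.ofHom A.subtype : CommRingCat.of A ⟶
        CommRingCat.of (U.residueField u)) =
      CommRingCat.ofHom (algebraMap A (FractionRing A)) ≫
        CommRingCat.ofHom (e : FractionRing A →+* U.residueField u) := by
    ext a
    exact (e.commutes a).symm
  have hiso : IsIso (CommRingCat.ofHom (e : FractionRing A →+* U.residueField u)) :=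
    (e.toRingEquiv.toCommRingCatIso).isIso_hom
  let u' : Spec (CommRingCat.of (FractionRing A)) ⟶ U :=
    Spec.map (inv (CommRingCat.ofHom (e : FractionRing A →+* U.residueField u))) ≫
      U.fromSpecResidueField u
  have h3 : Spec.map (CommRingCat.ofHom (algebraMap A (FractionRing A))) ≫ m =
      u' ≫ h ≫ pullback.diagonal f := by
    rw [he, Spec.map_comp, Category.assoc] at h2
    have h4 : Spec.map (inv (CommRingCat.ofHom (e : FractionRing A →+* U.residueField u))) ≫
        Spec.map (CommRingCat.ofHom (e : FractionRing A →+* U.residueField u)) = 𝟙 _ := by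
      rw [← Spec.map_comp, IsIso.hom_inv_id, Spec.map_id]
    have := congrArg (fun t =>
      Spec.map (inv (CommRingCat.ofHom (e : FractionRing A →+* U.residueField u))) ≫ t) h2
    rw [← Category.assoc, h4, Category.id_comp] at this
    rw [this]
    simp only [u', Category.assoc]
  have hg : m ≫ pullback.fst f f = m ≫ pullback.snd f f := by
    refine H A u' (m ≫ pullback.fst f f ≫ f) ?_ _ _ ?_ ?_ ?_ ?_
    · rw [← Category.assoc, ← Category.assoc, h3]
      simp only [Category.assoc, pullback.diagonal_fst_assoc]
    · rw [Category.assoc]
    · rw [← Category.assoc, h3]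
      simp only [Category.assoc, pullback.diagonal_fst, Category.comp_id]
    · rw [Category.assoc, pullback.condition]
    · rw [← Category.assoc, h3]
      simp only [Category.assoc, pullback.diagonal_snd, Category.comp_id]
  have hh : m = (m ≫ pullback.fst f f) ≫ pullback.diagonal f := by
    apply pullback.hom_ext
    · rw [Category.assoc, pullback.diagonal_fst, Category.comp_id]
    · rw [Category.assoc, pullback.diagonal_snd, Category.comp_id, hg]
  refine ⟨(m ≫ pullback.fst f f).base (closedPoint A), ?_⟩
  rw [← h1]
  conv_rhs => rw [hh]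
  simp only [Scheme.Hom.comp_base, TopCat.coe_comp, Function.comp_apply]

end Groth.Agent.H4Dvr
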