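import Mathlib

/-!
# Gluing morphisms defined on a family of opens of a scheme
-/

set_option autoImplicit false
universe u

namespace Groth.Agent.H4Glue

open AlgebraicGeometry CategoryTheory Limits TopologicalSpace

variable {Y X : Scheme.{u}}

set_option backward.isDefEq.respectTransparency false in
/-- The open cover of `⨆ i, W i` by the `W i`. -/
noncomputable def coverISup {I : Type u} (W : I → Y.Opens) :
    ((⨆ i, W i : Y.Opens) : Scheme.{u}).OpenCover where
  I₀ := I
  X i := (W i : Scheme.{u})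
  f i := Y.homOfLE (le_iSup W i)
  mem₀ := by
    rw [Scheme.presieve₀_mem_precoverage_iff]
    refine ⟨fun x ↦ ?_, inferInstance⟩
    obtain ⟨i, hi⟩ := Opens.mem_iSup.mp x.2
    exact ⟨i, ⟨⟨x.1, hi⟩, Subtype.ext (by simp)⟩⟩

/-- Morphisms on the members of a family of opens which agree on pairwise intersections glue to
a morphism on the union. -/
theorem glue_iSup {I : Type u} (W : I → Y.Opens) (φ : ∀ i, (W i : Scheme.{u}) ⟶ X)
    (h : ∀ i j, Y.homOfLE (inf_le_left : W i ⊓ W j ≤ W i) ≫ φ i =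
      Y.homOfLE (inf_le_right : W i ⊓ W j ≤ W j) ≫ φ j) :
    ∃ ψ : ((⨆ i, W i : Y.Opens) : Scheme.{u}) ⟶ X, ∀ i, Y.homOfLE (le_iSup W i) ≫ ψ = φ i := by
  have hcompat : ∀ i j : (coverISup W).I₀,
      pullback.fst ((coverISup W).f i) ((coverISup W).f j) ≫ φ i =
        pullback.snd ((coverISup W).f i) ((coverISup W).f j) ≫ φ j := by
    intro i j
    have hp := isPullback_opens_inf_le (le_iSup W i) (le_iSup W j)
    refine (cancel_epi hp.isoPullback.hom).mp ?_
    change hp.isoPullback.hom ≫ pullback.fst (Y.homOfLE (le_iSup W i)) (Y.homOfLE (le_iSup W j)) ≫ φ i =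
      hp.isoPullback.hom ≫ pullback.snd (Y.homOfLE (le_iSup W i)) (Y.homOfLE (le_iSup W j)) ≫ φ j
    rw [IsPullback.isoPullback_hom_fst_assoc, IsPullback.isoPullback_hom_snd_assoc]
    exact h i j
  exact ⟨(coverISup W).glueMorphisms φ hcompat, fun i => (coverISup W).ι_glueMorphisms φ hcompat i⟩

theorem hom_ext_iSup {I : Type u} (W : I → Y.Opens)
    (ψ ψ' : ((⨆ i, W i : Y.Opens) : Scheme.{u}) ⟶ X)
    (h : ∀ i, Y.homOfLE (le_iSup W i) ≫ ψ = Y.homOfLE (le_iSup W i) ≫ ψ') : ψ = ψ' :=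
  (coverISup W).hom_ext ψ ψ' h

end Groth.Agent.H4Glue
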