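import Mathlib
import Groth.Agent.Lib.helper5.RegLoc
import Groth.Agent.Lib.helper4.GlueOpens

/-!
# Extending sections over points of codimension ≤ 1
-/

set_option autoImplicit false
universe u

namespace Groth.Agent.H4Ext

open AlgebraicGeometry CategoryTheory Limits TopologicalSpace IsLocalRing

section Algebra

/-- A regular local ring of dimension at most one is a valuation ring. -/
theorem valuationRing_of_regular (R : Type u) [CommRing R] [IsRegularLocalRing R]
    (h : ringKrullDim R ≤ 1) : ∃ (_ : IsDomain R), ValuationRing R := by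
  have hd : IsDomain R := Groth.Agent.H5.RegLoc.isDomain R
  refine ⟨hd, ?_⟩
  have h1 : (Module.finrank (ResidueField R) (CotangentSpace R) : WithBot ℕ∞) = ringKrullDim R :=
    (IsRegularLocalRing.iff_finrank_cotangentSpace R).mp inferInstance
  have h2 : Module.finrank (ResidueField R) (CotangentSpace R) ≤ 1 := by
    rw [← h1] at h
    exact_mod_cast h
  exact ((tfae_of_isNoetherianRing_of_isLocalRing_of_isDomain
    (R := R)).out 5 1).mp h2

end Algebra

section Lift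

variable {X Y : Scheme.{u}} (f : X ⟶ Y)

/-- ring-theoretic core: a local ring dominating a valuation ring inside its fraction field
retracts onto it. -/
theorem exists_retraction {R S K : Type u} [CommRing R] [IsDomain R] [ValuationRing R]
    [CommRing S] [IsLocalRing S] [Field K] [Algebra R K] [IsFractionRing R K]
    (φ : R →+* S) [IsLocalHom φ] (τ : S →+* K) (h : τ.comp φ = algebraMap R K) :
    ∃ σ : S →+* R, σ.comp φ = RingHom.id R ∧ (algebraMap R K).comp σ = τ := by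
  have hb := bijective_rangeRestrict_comp_of_valuationRing φ τ h
  let e : R ≃+* τ.range := RingEquiv.ofBijective (τ.rangeRestrict.comp φ) hb
  refine ⟨(e.symm : τ.range →+* R).comp τ.rangeRestrict, ?_, ?_⟩
  · ext r
    exact e.symm_apply_apply r
  · ext s
    have h1 : e ((e.symm : τ.range →+* R) (τ.rangeRestrict s)) = τ.rangeRestrict s :=
      e.apply_symm_apply _
    have h2 : ∀ r : R, ((e r : τ.range) : K) = algebraMap R K r := by
      intro r
      rw [← h]
      rfl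
    have h3 := congrArg (Subtype.val) h1
    rw [h2] at h3
    exact h3

/-- Lifting for the local ring at `f x`, given a specialization. -/
theorem exists_lift_aux (x : X) [IsDomain (Y.presheaf.stalk (f x))]
    [ValuationRing (Y.presheaf.stalk (f x))]
    (i₁ : Spec (CommRingCat.of (FractionRing (Y.presheaf.stalk (f x)))) ⟶ X)
    (hsp : i₁ (closedPoint (FractionRing (Y.presheaf.stalk (f x)))) ⤳ x)
    (h : i₁ ≫ f = Spec.map (CommRingCat.ofHom (algebraMap (Y.presheaf.stalk (f x))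
      (FractionRing (Y.presheaf.stalk (f x))))) ≫ Y.fromSpecStalk (f x)) :
    ∃ φ : Spec (Y.presheaf.stalk (f x)) ⟶ X,
      Spec.map (CommRingCat.ofHom (algebraMap (Y.presheaf.stalk (f x))
        (FractionRing (Y.presheaf.stalk (f x))))) ≫ φ = i₁ ∧ φ ≫ f = Y.fromSpecStalk (f x) := by
  let τ : X.presheaf.stalk x ⟶ CommRingCat.of (FractionRing (Y.presheaf.stalk (f x))) :=
    X.presheaf.stalkSpecializes hsp ≫ Scheme.stalkClosedPointTo i₁
  have hτ : Spec.map τ ≫ X.fromSpecStalk x = i₁ := by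
    rw [Spec.map_comp, Category.assoc, Scheme.SpecMap_stalkSpecializes_fromSpecStalk,
      Scheme.Spec_stalkClosedPointTo_fromSpecStalk]
  have hcomp : f.stalkMap x ≫ τ = CommRingCat.ofHom (algebraMap (Y.presheaf.stalk (f x))
      (FractionRing (Y.presheaf.stalk (f x)))) := by
    apply Spec.map_injective
    rw [← cancel_mono (Y.fromSpecStalk (f x)), Spec.map_comp, Category.assoc,
      Scheme.SpecMap_stalkMap_fromSpecStalk, ← Category.assoc, hτ, h]
  have hcomp' : τ.hom.comp (f.stalkMap x).hom = algebraMap (Y.presheaf.stalk (f x))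
      (FractionRing (Y.presheaf.stalk (f x))) := by
    ext r
    exact congrArg (fun g => g.hom r) hcomp
  obtain ⟨σ, hσ1, hσ2⟩ := exists_retraction (f.stalkMap x).hom τ.hom hcomp'
  let σ' : X.presheaf.stalk x ⟶ Y.presheaf.stalk (f x) := CommRingCat.ofHom σ
  let a : Y.presheaf.stalk (f x) ⟶ CommRingCat.of (FractionRing (Y.presheaf.stalk (f x))) :=
    CommRingCat.ofHom (algebraMap (Y.presheaf.stalk (f x))
      (FractionRing (Y.presheaf.stalk (f x))))
  have h5 : σ' ≫ a = τ := by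
    ext s
    exact congrArg (fun g => g s) hσ2
  have h6 : f.stalkMap x ≫ σ' = 𝟙 _ := by
    ext r
    exact congrArg (fun g => g r) hσ1
  have e1 : Spec.map a ≫ Spec.map σ' = Spec.map τ := by
    rw [← Spec.map_comp, h5]
  have e2 : Spec.map σ' ≫ Spec.map (f.stalkMap x) = 𝟙 _ := by
    rw [← Spec.map_comp, h6, Spec.map_id]
  refine ⟨Spec.map σ' ≫ X.fromSpecStalk x, ?_, ?_⟩
  · change Spec.map a ≫ Spec.map σ' ≫ X.fromSpecStalk x = i₁
    rw [← Category.assoc, e1, hτ]
  · rw [Category.assoc, ← Scheme.SpecMap_stalkMap_fromSpecStalk, ← Category.assoc, e2,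
      Category.id_comp]

/-- **Valuative lifting along a closed map**, for the local ring of a point of the target. -/
theorem exists_lift_of_isClosedMap (hcl : IsClosedMap f.base) (y : Y)
    [IsDomain (Y.presheaf.stalk y)] [ValuationRing (Y.presheaf.stalk y)]
    (i₁ : Spec (CommRingCat.of (FractionRing (Y.presheaf.stalk y))) ⟶ X)
    (h : i₁ ≫ f = Spec.map (CommRingCat.ofHom (algebraMap (Y.presheaf.stalk y)
      (FractionRing (Y.presheaf.stalk y)))) ≫ Y.fromSpecStalk y) :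
    ∃ φ : Spec (Y.presheaf.stalk y) ⟶ X,
      Spec.map (CommRingCat.ofHom (algebraMap (Y.presheaf.stalk y)
        (FractionRing (Y.presheaf.stalk y)))) ≫ φ = i₁ ∧ φ ≫ f = Y.fromSpecStalk y := by
  set xη := i₁ (closedPoint (FractionRing (Y.presheaf.stalk y))) with hxη
  have h1 : f xη ⤳ y := by
    have h2 : f xη = (Y.fromSpecStalk y) (Spec.map (CommRingCat.ofHom (algebraMap
        (Y.presheaf.stalk y) (FractionRing (Y.presheaf.stalk y))))
        (closedPoint (FractionRing (Y.presheaf.stalk y)))) := by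
      have := congrArg (fun g => g (closedPoint (FractionRing (Y.presheaf.stalk y)))) h
      exact this
    have h3 : f xη ∈ Set.range (Y.fromSpecStalk y) := ⟨_, h2.symm⟩
    rw [Scheme.range_fromSpecStalk] at h3
    exact h3
  have h4 : y ∈ f '' closure {xη} := by
    have hc : IsClosed (f '' closure {xη}) := hcl _ isClosed_closure
    have h5 : closure {f xη} ⊆ f '' closure {xη} :=
      hc.closure_subset_iff.2 (Set.singleton_subset_iff.2 ⟨xη, subset_closure rfl, rfl⟩)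
    exact h5 (specializes_iff_mem_closure.mp h1)
  obtain ⟨x, hx, rfl⟩ := h4
  exact exists_lift_aux f x i₁ (specializes_iff_mem_closure.mpr hx) h

end Lift

section Local

variable {X Y : Scheme.{u}}

/-- The image of the generic point of `Spec O_{Y,y}` specializes to every point of an affine
open neighbourhood of `y` on which germs at `y` are injective. -/
theorem generic_specializes (y : Y) [IsDomain (Y.presheaf.stalk y)] (U₀ : Y.Opens)
    (hy : y ∈ U₀) (hU₀ : IsAffineOpen U₀) (hinj : Function.Injective (Y.presheaf.germ U₀ y hy))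
    (v : Y) (hv : v ∈ U₀) :
    (Spec.map (CommRingCat.ofHom (algebraMap (Y.presheaf.stalk y)
      (FractionRing (Y.presheaf.stalk y)))) ≫ Y.fromSpecStalk y)
        (closedPoint (FractionRing (Y.presheaf.stalk y))) ⤳ v := by
  let a : Y.presheaf.stalk y ⟶ CommRingCat.of (FractionRing (Y.presheaf.stalk y)) :=
    CommRingCat.ofHom (algebraMap (Y.presheaf.stalk y) (FractionRing (Y.presheaf.stalk y)))
  have h1 : Spec.map a ≫ Y.fromSpecStalk y =
      Spec.map (Y.presheaf.germ U₀ y hy ≫ a) ≫ hU₀.fromSpec := by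
    rw [← hU₀.fromSpecStalk_eq_fromSpecStalk hy, IsAffineOpen.fromSpecStalk, Spec.map_comp,
      Category.assoc]
  have hv' : v ∈ Set.range hU₀.fromSpec := by
    rw [hU₀.range_fromSpec]
    exact hv
  obtain ⟨w, rfl⟩ := hv'
  change (Spec.map a ≫ Y.fromSpecStalk y) (closedPoint (FractionRing (Y.presheaf.stalk y))) ⤳ _
  rw [h1]
  change hU₀.fromSpec (Spec.map (Y.presheaf.germ U₀ y hy ≫ a)
    (closedPoint (FractionRing (Y.presheaf.stalk y)))) ⤳ hU₀.fromSpec w
  apply Specializes.map _ hU₀.fromSpec.continuous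
  refine (PrimeSpectrum.le_iff_specializes
    (R := Γ(Y, U₀)) (Spec.map (Y.presheaf.germ U₀ y hy ≫ a)
      (closedPoint (FractionRing (Y.presheaf.stalk y)))) w).mp ?_
  change (Spec.map (Y.presheaf.germ U₀ y hy ≫ a)
    (closedPoint (FractionRing (Y.presheaf.stalk y)))).asIdeal ≤ w.asIdeal
  intro t ht
  have ht' : (Y.presheaf.germ U₀ y hy ≫ a).hom t ∈
      (closedPoint (FractionRing (Y.presheaf.stalk y))).asIdeal := ht
  have h2 : (closedPoint (FractionRing (Y.presheaf.stalk y))).asIdeal = ⊥ :=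
    IsLocalRing.maximalIdeal_eq_bot
  rw [h2, Ideal.mem_bot] at ht'
  have h3 : a.hom ((Y.presheaf.germ U₀ y hy).hom t) = 0 := ht'
  have h4 : (Y.presheaf.germ U₀ y hy).hom t = 0 :=
    IsFractionRing.injective (Y.presheaf.stalk y) (FractionRing (Y.presheaf.stalk y))
      (h3.trans (map_zero _).symm)
  have h5 : t = 0 := hinj (h4.trans (map_zero _).symm)
  rw [h5]
  exact zero_mem _

end Local

section LocalExt

variable {X Y : Scheme.{u}}

theorem exists_local_extension [IsLocallyNoetherian Y] [IsReduced Y] (f : X ⟶ Y) [IsSeparated f]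
    [LocallyOfFiniteType f] (hcl : IsClosedMap f.base) (V : Y.Opens) (hV : Dense (V : Set Y))
    (s : (V : Scheme.{u}) ⟶ X) (hs : s ≫ f = V.ι)
    (y : Y) [IsDomain (Y.presheaf.stalk y)] [ValuationRing (Y.presheaf.stalk y)] :
    ∃ (U : Y.Opens) (s' : (U : Scheme.{u}) ⟶ X), y ∈ U ∧ s' ≫ f = U.ι ∧
      Y.homOfLE (inf_le_right : V ⊓ U ≤ U) ≫ s' = Y.homOfLE (inf_le_left : V ⊓ U ≤ V) ≫ s := by
  obtain ⟨U₀, hyU₀, hU₀, hinj⟩ := Y.exists_germ_injective y
  let a : Y.presheaf.stalk y ⟶ CommRingCat.of (FractionRing (Y.presheaf.stalk y)) :=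
    CommRingCat.ofHom (algebraMap (Y.presheaf.stalk y) (FractionRing (Y.presheaf.stalk y)))
  let jK : Spec (CommRingCat.of (FractionRing (Y.presheaf.stalk y))) ⟶ Y :=
    Spec.map a ≫ Y.fromSpecStalk y
  have hspec : ∀ v ∈ U₀, jK (closedPoint (FractionRing (Y.presheaf.stalk y))) ⤳ v :=
    fun v hv => generic_specializes y U₀ hyU₀ hU₀ hinj v hv
  have hpt : ∀ z : Spec (CommRingCat.of (FractionRing (Y.presheaf.stalk y))),
      z = closedPoint (FractionRing (Y.presheaf.stalk y)) := fun z => Subsingleton.elim _ _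
  have hηV : jK (closedPoint (FractionRing (Y.presheaf.stalk y))) ∈ V := by
    obtain ⟨v, hvU, hvV⟩ := hV.inter_open_nonempty U₀ U₀.isOpen ⟨y, hyU₀⟩
    exact (hspec v hvU).mem_open V.isOpen hvV
  have hηU₀ : jK (closedPoint (FractionRing (Y.presheaf.stalk y))) ∈ U₀ :=
    (hspec y hyU₀).mem_open U₀.isOpen hyU₀
  have hrV : Set.range jK ⊆ Set.range V.ι := by
    rintro _ ⟨z, rfl⟩
    rw [Scheme.Opens.range_ι, hpt z]
    exact hηV
  let jV := IsOpenImmersion.lift V.ι jK hrV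
  have hjV : jV ≫ V.ι = jK := IsOpenImmersion.lift_fac _ _ _
  have hi₁ : (jV ≫ s) ≫ f = Spec.map a ≫ Y.fromSpecStalk y := by
    rw [Category.assoc, hs, hjV]
  obtain ⟨φ, hφ1, hφ2⟩ := exists_lift_of_isClosedMap f hcl y (jV ≫ s) hi₁
  obtain ⟨U₁, hyU₁, g₁, hg1, hg2⟩ :=
    spread_out_of_isGermInjective' (𝟙 Y) f φ (by rw [hφ2, Category.comp_id])
  rw [Category.comp_id] at hg2
  have hηU₁ : jK (closedPoint (FractionRing (Y.presheaf.stalk y))) ∈ U₁ := by
    have h1 : jK (closedPoint (FractionRing (Y.presheaf.stalk y))) ∈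
        Set.range (Y.fromSpecStalk y) := ⟨_, rfl⟩
    rw [Scheme.range_fromSpecStalk] at h1
    exact h1.mem_open U₁.isOpen hyU₁
  refine ⟨U₁ ⊓ U₀, Y.homOfLE (inf_le_left : U₁ ⊓ U₀ ≤ U₁) ≫ g₁, ⟨hyU₁, hyU₀⟩, ?_, ?_⟩
  · rw [Category.assoc, hg2, Scheme.homOfLE_ι]
  · have hrW : Set.range jK ⊆ Set.range (V ⊓ (U₁ ⊓ U₀)).ι := by
      rintro _ ⟨z, rfl⟩
      rw [Scheme.Opens.range_ι, hpt z]
      exact ⟨hηV, hηU₁, hηU₀⟩
    let ι := IsOpenImmersion.lift (V ⊓ (U₁ ⊓ U₀)).ι jK hrW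
    have hι : ι ≫ (V ⊓ (U₁ ⊓ U₀)).ι = jK := IsOpenImmersion.lift_fac _ _ _
    have hdom : IsDominant ι := by
      constructor
      intro w
      have h1 : (V ⊓ (U₁ ⊓ U₀)).ι (ι (closedPoint (FractionRing (Y.presheaf.stalk y)))) ⤳
          (V ⊓ (U₁ ⊓ U₀)).ι w := by
        have h2 : (V ⊓ (U₁ ⊓ U₀)).ι (ι (closedPoint (FractionRing (Y.presheaf.stalk y)))) =
            jK (closedPoint (FractionRing (Y.presheaf.stalk y))) :=
          congrArg (fun g => g (closedPoint (FractionRing (Y.presheaf.stalk y)))) hι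
        rw [h2]
        exact hspec _ w.2.2.2
      have h3 : ι (closedPoint (FractionRing (Y.presheaf.stalk y))) ⤳ w :=
        ((V ⊓ (U₁ ⊓ U₀)).ι.isOpenEmbedding.isInducing.specializes_iff).mp h1
      exact closure_mono (Set.singleton_subset_iff.2 (Set.mem_range_self _))
        (specializes_iff_mem_closure.mp h3)
    have e1 : ι ≫ Y.homOfLE (inf_le_left : V ⊓ (U₁ ⊓ U₀) ≤ V) = jV := by
      rw [← cancel_mono V.ι, Category.assoc, Scheme.homOfLE_ι, hι, hjV]
    have e2 : ι ≫ Y.homOfLE (inf_le_right : V ⊓ (U₁ ⊓ U₀) ≤ U₁ ⊓ U₀) ≫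
        Y.homOfLE (inf_le_left : U₁ ⊓ U₀ ≤ U₁) = Spec.map a ≫ U₁.fromSpecStalkOfMem y hyU₁ := by
      rw [← cancel_mono U₁.ι, Category.assoc, Category.assoc, Scheme.homOfLE_ι,
        Scheme.homOfLE_ι, hι, Category.assoc, Scheme.Opens.fromSpecStalkOfMem_ι]
    apply ext_of_isDominant_of_isSeparated f ?_ ι ?_
    · rw [Category.assoc, Category.assoc, Category.assoc, hg2, hs, Scheme.homOfLE_ι,
        Scheme.homOfLE_ι, Scheme.homOfLE_ι]
    · rw [← Category.assoc, ← Category.assoc, Category.assoc ι, e2, ← Category.assoc, e1,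
        Category.assoc, ← hg1]
      exact hφ1

end LocalExt

section Global

variable {X Y : Scheme.{u}}

theorem isDominant_homOfLE_inf (V W : Y.Opens) (hV : Dense (V : Set Y)) :
    IsDominant (Y.homOfLE (inf_le_right : V ⊓ W ≤ W)) := by
  constructor
  have h1 : Dense (W.ι ⁻¹' (V : Set Y)) := hV.preimage W.ι.isOpenEmbedding.isOpenMap
  refine h1.mono ?_
  rintro w hw
  refine ⟨⟨w.1, ⟨hw, w.2⟩⟩, ?_⟩
  apply Subtype.ext
  rw [Scheme.homOfLE_apply]

/-- Two partial sections agreeing with `s` on their overlaps with the dense open `V` agree on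
their common domain. -/
theorem agree [IsReduced Y] (f : X ⟶ Y) [IsSeparated f] (V : Y.Opens) (hV : Dense (V : Set Y))
    (s : (V : Scheme.{u}) ⟶ X) (W₁ W₂ : Y.Opens) (a : (W₁ : Scheme.{u}) ⟶ X)
    (b : (W₂ : Scheme.{u}) ⟶ X) (ha : a ≫ f = W₁.ι) (hb : b ≫ f = W₂.ι)
    (ha' : Y.homOfLE (inf_le_right : V ⊓ W₁ ≤ W₁) ≫ a = Y.homOfLE (inf_le_left : V ⊓ W₁ ≤ V) ≫ s)
    (hb' : Y.homOfLE (inf_le_right : V ⊓ W₂ ≤ W₂) ≫ b = Y.homOfLE (inf_le_left : V ⊓ W₂ ≤ V) ≫ s) :
    Y.homOfLE (inf_le_left : W₁ ⊓ W₂ ≤ W₁) ≫ a = Y.homOfLE (inf_le_right : W₁ ⊓ W₂ ≤ W₂) ≫ b := by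
  have hdom := isDominant_homOfLE_inf V (W₁ ⊓ W₂) hV
  apply ext_of_isDominant_of_isSeparated f ?_ (Y.homOfLE (inf_le_right : V ⊓ (W₁ ⊓ W₂) ≤ W₁ ⊓ W₂)) ?_
  · rw [Category.assoc, Category.assoc, ha, hb, Scheme.homOfLE_ι, Scheme.homOfLE_ι]
  · have e1 : Y.homOfLE (inf_le_right : V ⊓ (W₁ ⊓ W₂) ≤ W₁ ⊓ W₂) ≫
        Y.homOfLE (inf_le_left : W₁ ⊓ W₂ ≤ W₁) =
        Y.homOfLE (le_inf inf_le_left (inf_le_right.trans inf_le_left) :
          V ⊓ (W₁ ⊓ W₂) ≤ V ⊓ W₁) ≫ Y.homOfLE (inf_le_right : V ⊓ W₁ ≤ W₁) := by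
      rw [Scheme.homOfLE_homOfLE, Scheme.homOfLE_homOfLE]
    have e2 : Y.homOfLE (inf_le_right : V ⊓ (W₁ ⊓ W₂) ≤ W₁ ⊓ W₂) ≫
        Y.homOfLE (inf_le_right : W₁ ⊓ W₂ ≤ W₂) =
        Y.homOfLE (le_inf inf_le_left (inf_le_right.trans inf_le_right) :
          V ⊓ (W₁ ⊓ W₂) ≤ V ⊓ W₂) ≫ Y.homOfLE (inf_le_right : V ⊓ W₂ ≤ W₂) := by
      rw [Scheme.homOfLE_homOfLE, Scheme.homOfLE_homOfLE]
    rw [← Category.assoc, ← Category.assoc, e1, e2, Category.assoc, Category.assoc, ha', hb',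
      ← Category.assoc, ← Category.assoc, Scheme.homOfLE_homOfLE, Scheme.homOfLE_homOfLE]

/-- **Extension of a section over the points of codimension at most one.** -/
theorem exists_extension [IsLocallyNoetherian Y] [IsReduced Y]
    (hreg : ∀ y : Y, ringKrullDim (Y.presheaf.stalk y) ≤ 1 →
      IsRegularLocalRing (Y.presheaf.stalk y))
    (f : X ⟶ Y) [IsSeparated f] [LocallyOfFiniteType f] (hcl : IsClosedMap f.base)
    (V : Y.Opens) (hV : Dense (V : Set Y)) (s : (V : Scheme.{u}) ⟶ X) (hs : s ≫ f = V.ι) :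
    ∃ (U : Y.Opens) (hVU : V ≤ U) (s' : (U : Scheme.{u}) ⟶ X), s' ≫ f = U.ι ∧
      Y.homOfLE hVU ≫ s' = s ∧ ∀ y : Y, ringKrullDim (Y.presheaf.stalk y) ≤ 1 → y ∈ U := by
  have hloc : ∀ t : {y : Y // ringKrullDim (Y.presheaf.stalk y) ≤ 1},
      ∃ (U : Y.Opens) (s' : (U : Scheme.{u}) ⟶ X), t.1 ∈ U ∧ s' ≫ f = U.ι ∧
        Y.homOfLE (inf_le_right : V ⊓ U ≤ U) ≫ s' =
          Y.homOfLE (inf_le_left : V ⊓ U ≤ V) ≫ s := by
    intro t
    have := hreg t.1 t.2
    obtain ⟨hd, hv⟩ := valuationRing_of_regular (Y.presheaf.stalk t.1) t.2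
    exact exists_local_extension f hcl V hV s hs t.1
  choose Ut st hyt hsft hagt using hloc
  let W : Option {y : Y // ringKrullDim (Y.presheaf.stalk y) ≤ 1} → Y.Opens := fun i =>
    match i with
    | none => V
    | some t => Ut t
  let φ : ∀ i, (W i : Scheme.{u}) ⟶ X := fun i =>
    match i with
    | none => s
    | some t => st t
  have hA : ∀ i, φ i ≫ f = (W i).ι := by
    intro i
    match i with
    | none => exact hs
    | some t => exact hsft t
  have hB : ∀ i, Y.homOfLE (inf_le_right : V ⊓ W i ≤ W i) ≫ φ i =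
      Y.homOfLE (inf_le_left : V ⊓ W i ≤ V) ≫ s := by
    intro i
    match i with
    | none => rfl
    | some t => exact hagt t
  obtain ⟨ψ, hψ⟩ := Groth.Agent.H4Glue.glue_iSup W φ
    (fun i j => agree f V hV s (W i) (W j) (φ i) (φ j) (hA i) (hA j) (hB i) (hB j))
  refine ⟨⨆ i, W i, le_iSup W none, ψ, ?_, hψ none, ?_⟩
  · apply Groth.Agent.H4Glue.hom_ext_iSup W
    intro i
    rw [← Category.assoc, hψ i, hA i, Scheme.homOfLE_ι]
  · intro y hy
    exact Opens.mem_iSup.mpr ⟨some ⟨y, hy⟩, hyt ⟨y, hy⟩⟩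

end Global

end Groth.Agent.H4Ext
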