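import Mathlib
import Groth.Agent.Lib.helper4.Ext1

/-!
# Extending sections over a set of points with valuation-ring stalks
-/

set_option autoImplicit false
universe u

namespace Groth.Agent.H4Ext

open AlgebraicGeometry CategoryTheory Limits TopologicalSpace IsLocalRing

variable {X Y : Scheme.{u}}

/-- Extension of a section over a set of points whose local rings are valuation rings. -/
theorem exists_extension_of_set [IsLocallyNoetherian Y] [IsReduced Y]
    (T : Set Y) (hT : ∀ y ∈ T, ∃ (_ : IsDomain (Y.presheaf.stalk y)),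
      ValuationRing (Y.presheaf.stalk y))
    (f : X ⟶ Y) [IsSeparated f] [LocallyOfFiniteType f] (hcl : IsClosedMap f.base)
    (V : Y.Opens) (hV : Dense (V : Set Y)) (s : (V : Scheme.{u}) ⟶ X) (hs : s ≫ f = V.ι) :
    ∃ (U : Y.Opens) (hVU : V ≤ U) (s' : (U : Scheme.{u}) ⟶ X), s' ≫ f = U.ι ∧
      Y.homOfLE hVU ≫ s' = s ∧ T ⊆ U := by
  have hloc : ∀ t : T,
      ∃ (U : Y.Opens) (s' : (U : Scheme.{u}) ⟶ X), t.1 ∈ U ∧ s' ≫ f = U.ι ∧
        Y.homOfLE (inf_le_right : V ⊓ U ≤ U) ≫ s' =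
          Y.homOfLE (inf_le_left : V ⊓ U ≤ V) ≫ s := by
    intro t
    obtain ⟨hd, hv⟩ := hT t.1 t.2
    exact exists_local_extension f hcl V hV s hs t.1
  choose Ut st hyt hsft hagt using hloc
  let W : Option T → Y.Opens := fun i =>
    match i with
    | none => V
    | some t => Ut t
  let φ : ∀ i, (W i : Scheme.{u}) ⟶ X := fun i =>
    match i with
    | none => s
    | some t => st t
  have hA : ∀ i, φ i ≫ f = (W i).ι := by
    intro i
    match i with
    | none => exact hs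
    | some t => exact hsft t
  have hB : ∀ i, Y.homOfLE (inf_le_right : V ⊓ W i ≤ W i) ≫ φ i =
      Y.homOfLE (inf_le_left : V ⊓ W i ≤ V) ≫ s := by
    intro i
    match i with
    | none => rfl
    | some t => exact hagt t
  obtain ⟨ψ, hψ⟩ := Groth.Agent.H4Glue.glue_iSup W φ
    (fun i j => agree f V hV s (W i) (W j) (φ i) (φ j) (hA i) (hA j) (hB i) (hB j))
  refine ⟨⨆ i, W i, le_iSup W none, ψ, ?_, hψ none, ?_⟩
  · apply Groth.Agent.H4Glue.hom_ext_iSup W
    intro i
    rw [← Category.assoc, hψ i, hA i, Scheme.homOfLE_ι]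
  · intro y hy
    exact Opens.mem_iSup.mpr ⟨some ⟨y, hy⟩, hyt ⟨y, hy⟩⟩

/-- Version for morphisms to a proper scheme over a base. -/
theorem exists_extension_of_set_proper {S X Y : Scheme.{u}}
    (p : X ⟶ S) [IsProper p] (q : Y ⟶ S) [IsLocallyNoetherian Y] [IsReduced Y]
    (T : Set Y) (hT : ∀ y ∈ T, ∃ (_ : IsDomain (Y.presheaf.stalk y)),
      ValuationRing (Y.presheaf.stalk y))
    (V : Y.Opens) (hV : Dense (V : Set Y)) (g : (V : Scheme.{u}) ⟶ X) (hg : g ≫ p = V.ι ≫ q) :
    ∃ (U : Y.Opens) (hVU : V ≤ U) (g' : (U : Scheme.{u}) ⟶ X), g' ≫ p = U.ι ≫ q ∧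
      Y.homOfLE hVU ≫ g' = g ∧ T ⊆ U := by
  have hsec : pullback.lift g V.ι hg ≫ pullback.snd p q = V.ι := pullback.lift_snd _ _ _
  obtain ⟨U, hVU, s', h1, h2, h3⟩ := exists_extension_of_set T hT (pullback.snd p q)
    (pullback.snd p q).isClosedMap V hV (pullback.lift g V.ι hg) hsec
  refine ⟨U, hVU, s' ≫ pullback.fst p q, ?_, ?_, h3⟩
  · rw [Category.assoc, pullback.condition, ← Category.assoc, h1]
  · rw [← Category.assoc, h2, pullback.lift_fst]

end Groth.Agent.H4Ext
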