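import Mathlib
import Groth.Agent.Lib.helper4.GlueOpens

/-!
# Gluing two morphisms defined on two opens of a scheme
-/

set_option autoImplicit false
universe u

namespace Groth.Agent.H4Glue

open AlgebraicGeometry CategoryTheory Limits TopologicalSpace

variable {X Y : Scheme.{u}}

theorem homOfLE_swap {A B : X.Opens} (f : A.toScheme ⟶ Y) (g : B.toScheme ⟶ Y)
    (h : X.homOfLE (inf_le_left : A ⊓ B ≤ A) ≫ f = X.homOfLE (inf_le_right : A ⊓ B ≤ B) ≫ g) :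
    X.homOfLE (inf_le_left : B ⊓ A ≤ B) ≫ g = X.homOfLE (inf_le_right : B ⊓ A ≤ A) ≫ f := by
  have hle : B ⊓ A ≤ A ⊓ B := le_inf inf_le_right inf_le_left
  have h1 : X.homOfLE (inf_le_left : B ⊓ A ≤ B) =
      X.homOfLE hle ≫ X.homOfLE (inf_le_right : A ⊓ B ≤ B) := (X.homOfLE_homOfLE _ _).symm
  have h2 : X.homOfLE (inf_le_right : B ⊓ A ≤ A) =
      X.homOfLE hle ≫ X.homOfLE (inf_le_left : A ⊓ B ≤ A) := (X.homOfLE_homOfLE _ _).symm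
  rw [h1, h2, Category.assoc, Category.assoc, h]

/-- Two morphisms on opens `U₁`, `U₂` agreeing on `U₁ ⊓ U₂` glue to a morphism on an open
containing both. -/
theorem glue_two (U₁ U₂ : X.Opens) (φ₁ : U₁.toScheme ⟶ Y) (φ₂ : U₂.toScheme ⟶ Y)
    (h : X.homOfLE (inf_le_left : U₁ ⊓ U₂ ≤ U₁) ≫ φ₁ =
      X.homOfLE (inf_le_right : U₁ ⊓ U₂ ≤ U₂) ≫ φ₂) :
    ∃ (U' : X.Opens) (h₁ : U₁ ≤ U') (h₂ : U₂ ≤ U') (ψ : U'.toScheme ⟶ Y),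
      X.homOfLE h₁ ≫ ψ = φ₁ ∧ X.homOfLE h₂ ≫ ψ = φ₂ ∧
      ∀ (Z : Scheme.{u}) (s : Y ⟶ Z) (t : X ⟶ Z), φ₁ ≫ s = U₁.ι ≫ t → φ₂ ≫ s = U₂.ι ≫ t →
        ψ ≫ s = U'.ι ≫ t := by
  let Wf : ULift.{u} Bool → X.Opens := fun i => cond i.down U₁ U₂
  let φ : ∀ i, (Wf i).toScheme ⟶ Y := fun i =>
    match i with
    | ⟨true⟩ => φ₁
    | ⟨false⟩ => φ₂
  have hφ : ∀ i j, X.homOfLE (inf_le_left : Wf i ⊓ Wf j ≤ Wf i) ≫ φ i =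
      X.homOfLE (inf_le_right : Wf i ⊓ Wf j ≤ Wf j) ≫ φ j := by
    rintro ⟨_ | _⟩ ⟨_ | _⟩
    · rfl
    · exact homOfLE_swap φ₁ φ₂ h
    · exact h
    · rfl
  obtain ⟨ψ, hψ⟩ := glue_iSup Wf φ hφ
  refine ⟨⨆ i, Wf i, le_iSup Wf ⟨true⟩, le_iSup Wf ⟨false⟩, ψ, hψ ⟨true⟩, hψ ⟨false⟩, ?_⟩
  intro Z s t h1 h2
  apply hom_ext_iSup Wf
  rintro ⟨_ | _⟩
  · rw [← Category.assoc, hψ ⟨false⟩, Scheme.homOfLE_ι_assoc]
    exact h2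
  · rw [← Category.assoc, hψ ⟨true⟩, Scheme.homOfLE_ι_assoc]
    exact h1

end Groth.Agent.H4Glue
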