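import Mathlib
import Groth.Agent.Lib.helper4.DvrExists8

/-!
# A normal Noetherian local domain is the intersection of the DVRs dominating it
-/

set_option autoImplicit false
universe u

namespace Groth.Agent.H4Rat

open IsLocalRing

theorem exists_dvr_dominating_not_mem (A : Type u) [CommRing A] [IsDomain A] [IsNoetherianRing A]
    [IsLocalRing A] [IsIntegrallyClosed A] (K : Type u) [Field K] [Algebra A K]
    [IsFractionRing A K] (t : K) (ht : t ∉ (algebraMap A K).range) :
    ∃ O : ValuationSubring K, IsDiscreteValuationRing O ∧ (∀ a, algebraMap A K a ∈ O) ∧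
      (∀ a ∈ maximalIdeal A, algebraMap A K a ∈ O.nonunits) ∧ t ∉ O := by
  have ht0 : t ≠ 0 := by
    rintro rfl
    exact ht ⟨0, map_zero _⟩
  have hinj : Function.Injective (algebraMap A K).rangeRestrict := by
    intro a b hab
    exact IsFractionRing.injective A K (congrArg Subtype.val hab)
  have hsurj : Function.Surjective (algebraMap A K).rangeRestrict :=
    (algebraMap A K).rangeRestrict_surjective
  let e : A ≃+* (algebraMap A K).range := RingEquiv.ofBijective _ ⟨hinj, hsurj⟩
  have hlocR : IsLocalRing (algebraMap A K).range := e.isLocalRing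
  let R₀ : LocalSubring K := ⟨(algebraMap A K).range⟩
  have hic : IsIntegrallyClosedIn (algebraMap A K).range K := by
    rw [Subring.isIntegrallyClosedIn_iff]
    intro x hx
    have hxA : IsIntegral A x := by
      obtain ⟨p, hp, hpx⟩ := hx
      obtain ⟨p', hp', hdeg, hmon⟩ := Polynomial.lifts_and_degree_eq_and_monic
        ((Polynomial.mem_lifts p).2 (Polynomial.map_surjective _ hsurj p)) hp
      refine ⟨p', hmon, ?_⟩
      rw [← hpx, ← hp', Polynomial.eval₂_map]
      rfl
    obtain ⟨a, ha⟩ := (IsIntegrallyClosed.isIntegral_iff (R := A) (K := K)).mp hxA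
    exact ⟨a, ha⟩
  have hic' : IsIntegrallyClosedIn R₀.toSubring K := hic
  have htR : t ∉ R₀.toSubring := ht
  obtain ⟨V, ⟨hRV, hloc⟩, htV⟩ :=
    LocalSubring.exists_le_valuationSubring_of_isIntegrallyClosedIn (x := t) (R := R₀) htR
  have hRV' : (algebraMap A K).range ≤ V.toSubring := hRV
  obtain ⟨s, hs⟩ := (maximalIdeal A).fg_of_isNoetherianRing
  let T : Set K := (algebraMap A K) '' (s : Set A) ∪ {t⁻¹}
  have hT : T.Finite := (s.finite_toSet.image _).union (Set.finite_singleton _)
  have hTV : T ⊆ V.nonunits := by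
    rintro z (⟨g, hg, rfl⟩ | rfl)
    · have hgm : g ∈ maximalIdeal A := hs ▸ Ideal.subset_span hg
      have h1 : ¬ IsUnit (e g) := by
        intro hu
        have h3 : IsUnit (e.symm (e g)) := hu.map e.symm
        rw [e.symm_apply_apply] at h3
        exact hgm h3
      have h4 : ¬ IsUnit (Subring.inclusion hRV (e g)) := fun hu => h1 (hloc.1 _ hu)
      change algebraMap A K g ∈ V.nonunits
      rw [ValuationSubring.mem_nonunits_iff_exists_mem_maximalIdeal]
      exact ⟨hRV' ⟨g, rfl⟩, h4⟩
    · exact V.inv_mem_nonunits_iff.mpr (Or.inr htV)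
  have hT0 : ∃ z ∈ T, z ≠ 0 := ⟨t⁻¹, Or.inr rfl, inv_ne_zero ht0⟩
  have hnoeth : IsNoetherianRing (algebraMap A K).range :=
    isNoetherianRing_of_surjective A (algebraMap A K).range (algebraMap A K).rangeRestrict hsurj
  have hcl : Subfield.closure ((((algebraMap A K).range : Subring K) : Set K) ∪
      ((∅ : Finset K) : Set K)) = ⊤ := by
    rw [Finset.coe_empty, Set.union_empty]
    exact IsFractionRing.closure_range_algebraMap A K
  obtain ⟨O, hO, hRO, hTO⟩ := Groth.Agent.H4Dvr.exists_dvr_of_finite_nonunits (algebraMap A K).range V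
    hRV' T hT hTV hT0 ∅ hcl
  have hAO : ∀ a, algebraMap A K a ∈ O := fun a => hRO ⟨a, rfl⟩
  refine ⟨O, hO, hAO, ?_, ?_⟩
  · let ψ : A →+* O := (algebraMap A K).codRestrict O.toSubring hAO
    have hle : maximalIdeal A ≤ (maximalIdeal O).comap ψ := by
      rw [← hs, Ideal.span_le]
      intro g hg
      have h1 : algebraMap A K g ∈ O.nonunits := hTO (Or.inl ⟨g, hg, rfl⟩)
      rw [ValuationSubring.mem_nonunits_iff_exists_mem_maximalIdeal] at h1
      obtain ⟨h2, h3⟩ := h1
      exact h3
    intro a ha
    have h1 : ψ a ∈ maximalIdeal O := hle ha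
    rw [ValuationSubring.mem_nonunits_iff_exists_mem_maximalIdeal]
    exact ⟨hAO a, h1⟩
  · have h1 : t⁻¹ ∈ O.nonunits := hTO (Or.inr rfl)
    exact (O.inv_mem_nonunits_iff.mp h1).resolve_left ht0

end Groth.Agent.H4Rat
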