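import Mathlib

/-!
# Generizations in locally closed subsets of Noetherian sober spaces
-/

set_option autoImplicit false

namespace Groth.Agent.H4Rat

open TopologicalSpace Topology Classical

/-- In a Noetherian quasi-sober space, a point in the closure of a locally closed set `G ∩ Ωᶜ`
is a specialization of a point of that set. -/
theorem exists_generization_of_mem_closure {β : Type*} [TopologicalSpace β] [NoetherianSpace β]
    [QuasiSober β] (G Ω : Set β) (hG : IsOpen G) (hΩ : IsOpen Ω) (x : β)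
    (hx : x ∈ closure (G ∩ Ωᶜ)) : ∃ p ∈ G ∩ Ωᶜ, p ⤳ x := by
  set F := G ∩ Ωᶜ with hF
  have hCG : closure F ∩ G ⊆ F := by
    rintro w ⟨hwC, hwG⟩
    refine ⟨hwG, fun hwΩ => ?_⟩
    obtain ⟨v, ⟨-, hvΩ⟩, hvF⟩ := mem_closure_iff.mp hwC (G ∩ Ω) (hG.inter hΩ) ⟨hwG, hwΩ⟩
    exact hvF.2 hvΩ
  obtain ⟨S, hSf, hSc, hSi, hSU⟩ :=
    NoetherianSpace.exists_finite_set_isClosed_irreducible (isClosed_closure (s := F))
  lift S to Finset (Set β) using hSf
  have hxS : x ∈ ⋃₀ (S : Set (Set β)) := hSU ▸ hx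
  obtain ⟨k₀, hk₀S, hxk₀⟩ := hxS
  obtain ⟨k, hkmax⟩ := (S.filter (fun k' => x ∈ k')).exists_maximal
    ⟨k₀, Finset.mem_filter.2 ⟨hk₀S, hxk₀⟩⟩
  have hkS : k ∈ S := (Finset.mem_filter.1 hkmax.prop).1
  have hxk : x ∈ k := (Finset.mem_filter.1 hkmax.prop).2
  let S' : Finset (Set β) := S.filter (fun k' => ¬ k' ⊆ k)
  have hS'c : ∀ z ∈ S', IsClosed z := fun z hz => hSc z (Finset.mem_filter.1 hz).1
  have hD : IsClosed (⋃₀ (S' : Set (Set β))) := by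
    rw [Set.sUnion_eq_biUnion]
    exact S'.finite_toSet.isClosed_biUnion hS'c
  have hknot : ¬ k ⊆ ⋃₀ (S' : Set (Set β)) := by
    intro hsub
    obtain ⟨k', hk'S', hkk'⟩ := isIrreducible_iff_sUnion_isClosed.1 (hSi k hkS) S' hS'c hsub
    have hk' := Finset.mem_filter.1 hk'S'
    have hk'mem : k' ∈ S.filter (fun k' => x ∈ k') :=
      Finset.mem_filter.2 ⟨hk'.1, hkk' hxk⟩
    exact hk'.2 (hkmax.le_of_ge hk'mem hkk')
  obtain ⟨w, hwk, hwD⟩ := Set.not_subset.mp hknot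
  have hCO : closure F ∩ (⋃₀ (S' : Set (Set β)))ᶜ ⊆ k := by
    rintro v ⟨hvC, hvD⟩
    rw [hSU] at hvC
    obtain ⟨k'', hk''S, hvk''⟩ := hvC
    by_cases hsub : k'' ⊆ k
    · exact hsub hvk''
    · exact absurd ⟨k'', Finset.mem_filter.2 ⟨hk''S, hsub⟩, hvk''⟩ hvD
  have hwC : w ∈ closure F := by
    rw [hSU]
    exact ⟨k, hkS, hwk⟩
  obtain ⟨w', hw'O, hw'F⟩ := mem_closure_iff.mp hwC _ hD.isOpen_compl hwD
  have hw'k : w' ∈ k := hCO ⟨subset_closure hw'F, hw'O⟩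
  obtain ⟨z, hz⟩ := QuasiSober.sober (hSi k hkS) (hSc k hkS)
  have hzG : z ∈ G := (hz.mem_open_set_iff hG).mpr ⟨w', hw'k, hw'F.1⟩
  have hzk : z ∈ k := hz.mem
  have hzC : z ∈ closure F := by
    rw [hSU]
    exact ⟨k, hkS, hzk⟩
  exact ⟨z, hCG ⟨hzC, hzG⟩, hz.specializes hxk⟩

end Groth.Agent.H4Rat

namespace Groth.Agent.H4Rat

open AlgebraicGeometry TopologicalSpace

universe u

/-- If every generization of `x₀` in the open `G` lies in the open `Ω`, then `G ∩ V' ⊆ Ω` for some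
open neighbourhood `V'` of `x₀` (locally Noetherian schemes). -/
theorem exists_nhd_inf_le {W : Scheme.{u}} [IsLocallyNoetherian W] (G Ω : W.Opens) (x₀ : W)
    (h : ∀ p ∈ G, p ⤳ x₀ → p ∈ Ω) : ∃ V' : W.Opens, x₀ ∈ V' ∧ G ⊓ V' ≤ Ω := by
  obtain ⟨_, ⟨N, hN, rfl⟩, hxN, -⟩ :=
    W.isBasis_affineOpens.exists_subset_of_mem_open (Set.mem_univ x₀) isOpen_univ
  have hNoeth : IsNoetherianRing Γ(W, N) := IsLocallyNoetherian.component_noetherian ⟨N, hN⟩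
  have hNS : NoetherianSpace N := noetherianSpace_of_isAffineOpen N hN
  have hQS : QuasiSober N := N.isOpenEmbedding'.quasiSober
  let G' : Set N := Subtype.val ⁻¹' (G : Set W)
  let Ω' : Set N := Subtype.val ⁻¹' (Ω : Set W)
  have hG' : IsOpen G' := G.isOpen.preimage continuous_subtype_val
  have hΩ' : IsOpen Ω' := Ω.isOpen.preimage continuous_subtype_val
  have hnot : (⟨x₀, hxN⟩ : N) ∉ closure (G' ∩ Ω'ᶜ) := by
    intro hx
    obtain ⟨p', ⟨hpG, hpΩ⟩, hsp⟩ := exists_generization_of_mem_closure G' Ω' hG' hΩ' _ hx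
    exact hpΩ (h p'.1 hpG (hsp.map continuous_subtype_val))
  let O' : Set N := (closure (G' ∩ Ω'ᶜ))ᶜ
  have hO' : IsOpen O' := isClosed_closure.isOpen_compl
  refine ⟨⟨Subtype.val '' O', N.isOpen.isOpenMap_subtype_val _ hO'⟩, ⟨⟨x₀, hxN⟩, hnot, rfl⟩, ?_⟩
  rintro v ⟨hvG, ⟨v', hv'O, rfl⟩⟩
  by_contra hvΩ
  exact hv'O (subset_closure ⟨hvG, hvΩ⟩)

end Groth.Agent.H4Rat
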