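import Mathlib
import Groth.Agent.S2247
import Groth.Agent.Lib.helper4.Rat1
import Groth.Agent.Lib.helper4.Rat2
import Groth.Agent.Lib.helper4.Rat3
import Groth.Agent.Lib.helper4.GlueOpens
import Groth.Agent.Lib.helper4.DvrScheme

/-!
# Valuative criterion for extending a rational section at a normal point
-/

set_option autoImplicit false
universe u

namespace Groth.Agent.H4Rat

open AlgebraicGeometry CategoryTheory Limits TopologicalSpace IsLocalRing Groth.Agent.H4FF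
open Groth.Agent.H4FunField

section Basic

variable {W : Scheme.{u}}

@[reassoc]
theorem fromSpecStalkOfMem_homOfLE {U U' : W.Opens} (hUU' : U ≤ U') (x : W) (hx : x ∈ U) :
    U.fromSpecStalkOfMem x hx ≫ W.homOfLE hUU' = U'.fromSpecStalkOfMem x (hUU' hx) := by
  rw [← cancel_mono U'.ι, Category.assoc, Scheme.homOfLE_ι, Scheme.Opens.fromSpecStalkOfMem_ι,
    Scheme.Opens.fromSpecStalkOfMem_ι]

theorem homOfLE_mk {U U' : W.Opens} (h : U ≤ U') (x : W) (hx : x ∈ U) :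
    (W.homOfLE h) ⟨x, hx⟩ = ⟨x, h hx⟩ := by
  apply Subtype.ext
  change (U'.ι) ((W.homOfLE h) ⟨x, hx⟩) = x
  rw [← Scheme.Hom.comp_apply, Scheme.homOfLE_ι]
  rfl

theorem toScheme_fromSpecStalk (U : W.Opens) (x : W) (hx : x ∈ U) :
    U.toScheme.fromSpecStalk ⟨x, hx⟩ =
      Spec.map (U.ι.stalkMap ⟨x, hx⟩) ≫ U.fromSpecStalkOfMem x hx := by
  have h : Spec.map (U.ι.stalkMap ⟨x, hx⟩) ≫ Spec.map (inv (U.ι.stalkMap ⟨x, hx⟩)) = 𝟙 _ := by
    rw [← Spec.map_comp, IsIso.inv_hom_id, Spec.map_id]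
  calc U.toScheme.fromSpecStalk ⟨x, hx⟩
      = 𝟙 _ ≫ U.toScheme.fromSpecStalk ⟨x, hx⟩ := (Category.id_comp _).symm
    _ = (Spec.map (U.ι.stalkMap ⟨x, hx⟩) ≫ Spec.map (inv (U.ι.stalkMap ⟨x, hx⟩))) ≫
          U.toScheme.fromSpecStalk ⟨x, hx⟩ := by rw [h]
    _ = Spec.map (U.ι.stalkMap ⟨x, hx⟩) ≫ U.fromSpecStalkOfMem x hx := Category.assoc _ _ _

theorem fromSpecStalkOfMem_closedPoint (U : W.Opens) (x : W) (hx : x ∈ U) :
    U.fromSpecStalkOfMem x hx (closedPoint (W.presheaf.stalk x)) = ⟨x, hx⟩ := by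
  apply Subtype.ext
  have h1 : (U.fromSpecStalkOfMem x hx ≫ U.ι) (closedPoint (W.presheaf.stalk x)) = x := by
    rw [Scheme.Opens.fromSpecStalkOfMem_ι]
    exact W.fromSpecStalk_closedPoint
  exact h1

theorem SpecMap_toFF_fromSpecStalkOfMem [IsIntegral W] (U : W.Opens) (x : W) (hx : x ∈ U)
    (hξ : genericPoint W ∈ U) :
    Spec.map (toFF W x) ≫ U.fromSpecStalkOfMem x hx = U.fromSpecStalkOfMem (genericPoint W) hξ := by
  rw [← cancel_mono U.ι, Category.assoc, Scheme.Opens.fromSpecStalkOfMem_ι,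
    Scheme.Opens.fromSpecStalkOfMem_ι, SpecMap_toFF]

end Basic

section Main

variable {W X Y : Scheme.{u}} [IsIntegral W]
  (ι₀ : W ⟶ X) (q : Y ⟶ X) (V : W.Opens) (h₀ : V.toScheme ⟶ Y) (x₀ : W) (y₀ : Y)

/-- The DVR criterion for extending `h₀ : V → Y` to a neighbourhood of `x₀` with value `y₀`. -/
def DvrHyp : Prop :=
  ∀ (R : Type u) [CommRing R] [IsDomain R] [IsDiscreteValuationRing R]
    (u : Spec (CommRingCat.of R) ⟶ W), u (closedPoint R) = x₀ →
    ∀ ub : Spec (CommRingCat.of (FractionRing R)) ⟶ V.toScheme,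
      ub ≫ V.ι = Spec.map (CommRingCat.ofHom (algebraMap R (FractionRing R))) ≫ u →
      ∃ h₁ : Spec (CommRingCat.of R) ⟶ Y, h₁ ≫ q = u ≫ ι₀ ∧ h₁ (closedPoint R) = y₀ ∧
        Spec.map (CommRingCat.ofHom (algebraMap R (FractionRing R))) ≫ h₁ = ub ≫ h₀

variable {ι₀ q V h₀ x₀ y₀}

theorem dvrHyp_birational (H : DvrHyp ι₀ q V h₀ x₀ y₀) (hξ : genericPoint W ∈ V)
    (O : ValuationSubring W.functionField) [IsDiscreteValuationRing O] (hO : Dominates O x₀) :
    ∃ h₁ : Spec (CommRingCat.of O) ⟶ Y, h₁ (closedPoint O) = y₀ ∧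
      genIncl O ≫ h₁ = V.fromSpecStalkOfMem (genericPoint W) hξ ≫ h₀ := by
  obtain ⟨l, hl1, hl2⟩ := lift_of_dominates O x₀ hO
  let e : FractionRing O ≃ₐ[O] W.functionField := FractionRing.algEquiv O W.functionField
  let es : W.functionField ⟶ CommRingCat.of (FractionRing O) :=
    CommRingCat.ofHom e.symm.toRingEquiv.toRingHom
  let ef : CommRingCat.of (FractionRing O) ⟶ W.functionField :=
    CommRingCat.ofHom e.toRingEquiv.toRingHom
  let am : CommRingCat.of O ⟶ CommRingCat.of (FractionRing O) :=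
    CommRingCat.ofHom (algebraMap O (FractionRing O))
  let sub : CommRingCat.of O ⟶ W.functionField := CommRingCat.ofHom O.subtype
  have h1 : sub ≫ es = am := by
    ext a
    exact e.symm.commutes a
  have h2 : am ≫ ef = sub := by
    ext a
    exact e.commutes a
  have h3 : es ≫ ef = 𝟙 _ := by
    ext a
    exact e.apply_symm_apply a
  obtain ⟨h₁, -, hc, hg⟩ := H O l hl1 (Spec.map es ≫ V.fromSpecStalkOfMem (genericPoint W) hξ) (by
    rw [Category.assoc, Scheme.Opens.fromSpecStalkOfMem_ι, ← hl2]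
    change Spec.map es ≫ Spec.map sub ≫ l = Spec.map am ≫ l
    rw [← Spec.map_comp_assoc, h1])
  refine ⟨h₁, hc, ?_⟩
  change Spec.map sub ≫ h₁ = _
  change Spec.map am ≫ h₁ = _ at hg
  rw [← h2, Spec.map_comp, Category.assoc, hg, Category.assoc, ← Spec.map_comp_assoc, h3,
    Spec.map_id, Category.id_comp]

omit [IsIntegral W] in
theorem specializes_of_dvrHyp [IsLocallyNoetherian W] (H : DvrHyp ι₀ q V h₀ x₀ y₀)
    (p : W) (hp : p ∈ V) (hsp : p ⤳ x₀) (hne : x₀ ≠ p) : h₀ ⟨p, hp⟩ ⤳ y₀ := by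
  have hsp' : (𝟙 W : W ⟶ W).base p ⤳ x₀ := hsp
  obtain ⟨A, h, hdvr, hcl, hgen⟩ :=
    Groth.Agent.H4Dvr.exists_dvr_through_specialization (𝟙 W) p x₀ hsp' hne
  rw [Category.comp_id] at hgen
  -- the point `Spec κ(p) → V`
  have hrange : Set.range (W.fromSpecResidueField p) ⊆ Set.range V.ι := by
    rintro _ ⟨z, rfl⟩
    rw [Scheme.Opens.range_ι, Scheme.fromSpecResidueField_apply]
    exact hp
  let ub₀ : Spec (W.residueField p) ⟶ V.toScheme :=
    IsOpenImmersion.lift V.ι (W.fromSpecResidueField p) hrange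
  have hub₀ : ub₀ ≫ V.ι = W.fromSpecResidueField p := IsOpenImmersion.lift_fac _ _ _
  let e : FractionRing A ≃ₐ[A] W.residueField p := FractionRing.algEquiv A (W.residueField p)
  let es : W.residueField p ⟶ CommRingCat.of (FractionRing A) :=
    CommRingCat.ofHom e.symm.toRingEquiv.toRingHom
  let am : CommRingCat.of A ⟶ CommRingCat.of (FractionRing A) :=
    CommRingCat.ofHom (algebraMap A (FractionRing A))
  let sub : CommRingCat.of A ⟶ W.residueField p := CommRingCat.ofHom A.subtype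
  have h1 : sub ≫ es = am := by
    ext a
    exact e.symm.commutes a
  obtain ⟨h₁, -, hc, hg⟩ := H A h hcl (Spec.map es ≫ ub₀) (by
    rw [Category.assoc, hub₀, ← hgen]
    change Spec.map es ≫ Spec.map sub ≫ h = Spec.map am ≫ h
    rw [← Spec.map_comp_assoc, h1])
  change Spec.map am ≫ h₁ = _ at hg
  -- the value at the point
  let z : Spec (CommRingCat.of (FractionRing A)) := closedPoint (FractionRing A)
  have hz1 : ((Spec.map es ≫ ub₀) ≫ h₀) z = h₀ ⟨p, hp⟩ := by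
    have : (Spec.map es ≫ ub₀) z = ⟨p, hp⟩ := by
      apply Subtype.ext
      change (V.ι) ((Spec.map es ≫ ub₀) z) = p
      rw [← Scheme.Hom.comp_apply, Category.assoc, hub₀, Scheme.Hom.comp_apply,
        Scheme.fromSpecResidueField_apply]
    rw [Scheme.Hom.comp_apply, this]
  rw [← hz1, ← hg, ← hc, Scheme.Hom.comp_apply]
  exact (IsLocalRing.specializes_closedPoint (R := A) _).map h₁.continuous

instance isDominant_fromSpecStalkOfMem_generic (U : W.Opens) (hξ : genericPoint W ∈ U) :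
    IsDominant (U.fromSpecStalkOfMem (genericPoint W) hξ) := by
  constructor
  have h1 : (⟨genericPoint W, hξ⟩ : U) ∈
      Set.range (U.fromSpecStalkOfMem (genericPoint W) hξ) :=
    ⟨closedPoint _, fromSpecStalkOfMem_closedPoint U _ hξ⟩
  intro x
  have h2 : closure {(⟨genericPoint W, hξ⟩ : U)} ⊆
      closure (Set.range (U.fromSpecStalkOfMem (genericPoint W) hξ)) :=
    closure_mono (Set.singleton_subset_iff.2 h1)
  apply h2
  rw [Topology.IsInducing.subtypeVal.closure_eq_preimage_closure_image, Set.image_singleton,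
    (genericPoint_spec W).def]
  trivial

theorem exists_local_section [IsLocallyNoetherian W] [W.IsSeparated]
    (H : DvrHyp ι₀ q V h₀ x₀ y₀) (hh₀ : h₀ ≫ q = V.ι ≫ ι₀) (hξ : genericPoint W ∈ V)
    (hx₀ : x₀ ∉ V) [IsIntegrallyClosed (W.presheaf.stalk x₀)] (hy₀ : q y₀ = ι₀ x₀) :
    ∃ φ : Spec (W.presheaf.stalk x₀) ⟶ Y, φ (closedPoint (W.presheaf.stalk x₀)) = y₀ ∧
      Spec.map (toFF W x₀) ≫ φ = V.fromSpecStalkOfMem (genericPoint W) hξ ≫ h₀ ∧
      φ ≫ q = W.fromSpecStalk x₀ ≫ ι₀ := by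
  set hK : Spec W.functionField ⟶ Y := V.fromSpecStalkOfMem (genericPoint W) hξ ≫ h₀ with hKdef
  -- `O_{W,x₀}` is not the whole function field
  have hnotall : ∃ t : W.functionField,
      t ∉ (algebraMap (W.presheaf.stalk x₀) W.functionField).range := by
    by_contra hall
    push Not at hall
    have h1 : x₀ ⤳ genericPoint W :=
      (Groth.Agent.S2247.result W (genericPoint W) x₀).2 (fun t _ => hall t)
    have h2 : genericPoint W ⤳ x₀ := Groth.Agent.H4FF.genericPoint_specializes x₀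
    have h3 : x₀ = genericPoint W := (h1.antisymm h2).eq
    exact hx₀ (h3 ▸ hξ)
  obtain ⟨t₀, ht₀⟩ := hnotall
  -- every DVR dominating gives a lift
  have key : ∀ (O : ValuationSubring W.functionField), IsDiscreteValuationRing O →
      (∀ a, algebraMap (W.presheaf.stalk x₀) W.functionField a ∈ O) →
      (∀ a ∈ maximalIdeal (W.presheaf.stalk x₀),
        algebraMap (W.presheaf.stalk x₀) W.functionField a ∈ O.nonunits) →
      ∃ h₁ : Spec (CommRingCat.of O) ⟶ Y, h₁ (closedPoint O) = y₀ ∧ genIncl O ≫ h₁ = hK := by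
    intro O hdvr h1 h2
    refine dvrHyp_birational H hξ O ⟨h1, fun a ha => ?_⟩
    exact (ValuationSubring.mem_nonunits_iff O).1 (h2 a ha)
  obtain ⟨O₀, hO₀dvr, hO₀1, hO₀2, -⟩ := exists_dvr_dominating_not_mem (W.presheaf.stalk x₀)
    W.functionField t₀ ht₀
  obtain ⟨l₀, hl₀c, hl₀g⟩ := key O₀ hO₀dvr hO₀1 hO₀2
  have hsp : hK (closedPoint W.functionField) ⤳ y₀ := by
    rw [← hl₀c]
    exact specializes_of_lift O₀ l₀ hK hl₀g
  set τ : Y.presheaf.stalk y₀ ⟶ W.functionField :=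
    Y.presheaf.stalkSpecializes hsp ≫ Scheme.stalkClosedPointTo hK with hτ
  have hτrange : ∀ b, τ.hom b ∈ (algebraMap (W.presheaf.stalk x₀) W.functionField).range := by
    intro b
    by_contra hb
    obtain ⟨O, hOdvr, hO1, hO2, hO3⟩ := exists_dvr_dominating_not_mem (W.presheaf.stalk x₀)
      W.functionField (τ.hom b) hb
    obtain ⟨l, hlc, hlg⟩ := key O hOdvr hO1 hO2
    exact hO3 (mem_of_lift O l hK hlg y₀ hlc hsp b).1
  -- the map `σ : O_{Y,y₀} → O_{W,x₀}`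
  have hinj : Function.Injective (algebraMap (W.presheaf.stalk x₀) W.functionField) :=
    IsFractionRing.injective _ _
  have hinj' : Function.Injective
      (algebraMap (W.presheaf.stalk x₀) W.functionField).rangeRestrict := by
    intro a b hab
    exact hinj (congrArg Subtype.val hab)
  let e : W.presheaf.stalk x₀ ≃+* (algebraMap (W.presheaf.stalk x₀) W.functionField).range :=
    RingEquiv.ofBijective _
      ⟨hinj', (algebraMap (W.presheaf.stalk x₀) W.functionField).rangeRestrict_surjective⟩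
  let σ : Y.presheaf.stalk y₀ →+* W.presheaf.stalk x₀ :=
    e.symm.toRingHom.comp (τ.hom.codRestrict _ hτrange)
  have hσ : ∀ b, algebraMap (W.presheaf.stalk x₀) W.functionField (σ b) = τ.hom b := by
    intro b
    have : e (σ b) = τ.hom.codRestrict _ hτrange b := e.apply_symm_apply _
    exact congrArg Subtype.val this
  have hσloc : IsLocalHom σ := by
    constructor
    intro b hb
    by_contra hnb
    have h1 : b ∈ maximalIdeal (Y.presheaf.stalk y₀) := hnb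
    have h2 := (mem_of_lift O₀ l₀ hK hl₀g y₀ hl₀c hsp b).2 h1
    change τ.hom b ∈ O₀.nonunits at h2
    rw [← hσ b] at h2
    -- `σ b` is a unit of the stalk so its image is a unit in `O₀`
    obtain ⟨c, hc⟩ := hb.exists_right_inv
    have h3 : algebraMap (W.presheaf.stalk x₀) W.functionField (σ b) *
        algebraMap (W.presheaf.stalk x₀) W.functionField c = 1 := by
      rw [← map_mul, hc, map_one]
    have h4 : IsUnit (⟨_, hO₀1 (σ b)⟩ : O₀) := by
      refine IsUnit.of_mul_eq_one (⟨_, hO₀1 c⟩ : O₀) ?_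
      exact Subtype.ext h3
    exact (ValuationSubring.mem_nonunits_iff_exists_mem_maximalIdeal.1 h2).elim
      fun hmem hmax => hmax h4
  let σ' : Y.presheaf.stalk y₀ ⟶ W.presheaf.stalk x₀ := CommRingCat.ofHom σ
  have hστ : σ' ≫ toFF W x₀ = τ := by
    ext b
    change (toFF W x₀).hom (σ b) = τ.hom b
    rw [toFF_hom]
    exact hσ b
  refine ⟨Spec.map σ' ≫ Y.fromSpecStalk y₀, ?_, ?_, ?_⟩
  · exact closedPoint_SpecMap_fromSpecStalk y₀ (W.presheaf.stalk x₀) σ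
  · rw [← Spec.map_comp_assoc, hστ]
    exact factor_fromSpecStalk y₀ hK hsp
  · have hφc : (Spec.map σ' ≫ Y.fromSpecStalk y₀) (closedPoint (W.presheaf.stalk x₀)) = y₀ :=
      closedPoint_SpecMap_fromSpecStalk y₀ (W.presheaf.stalk x₀) σ
    refine hom_ext_of_local (toFF W x₀) ?_ (q y₀) _ _ ?_ ?_ ?_
    · rw [toFF_hom]
      exact hinj
    · rw [Scheme.Hom.comp_apply, hφc]
    · rw [Scheme.Hom.comp_apply, Scheme.fromSpecStalk_closedPoint, hy₀]
    · rw [← Category.assoc, ← Category.assoc (Spec.map (toFF W x₀)), ← Spec.map_comp, hστ,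
        factor_fromSpecStalk y₀ hK hsp, ← Category.assoc (Spec.map (toFF W x₀)), SpecMap_toFF,
        hKdef, Category.assoc, hh₀, Scheme.Opens.fromSpecStalkOfMem_ι_assoc]

theorem exists_extension_at [IsLocallyNoetherian W] [W.IsSeparated] [LocallyOfFiniteType q]
    (H : DvrHyp ι₀ q V h₀ x₀ y₀) (hh₀ : h₀ ≫ q = V.ι ≫ ι₀) (hξ : genericPoint W ∈ V)
    (hx₀ : x₀ ∉ V) [IsIntegrallyClosed (W.presheaf.stalk x₀)] (hy₀ : q y₀ = ι₀ x₀) :
    ∃ (V' : W.Opens) (hxV' : x₀ ∈ V') (g' : V'.toScheme ⟶ Y),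
      g' ≫ q = V'.ι ≫ ι₀ ∧ g' ⟨x₀, hxV'⟩ = y₀ ∧
      W.homOfLE (inf_le_right : V ⊓ V' ≤ V') ≫ g' =
        W.homOfLE (inf_le_left : V ⊓ V' ≤ V) ≫ h₀ := by
  obtain ⟨φ, hφc, hφg, hφq⟩ := exists_local_section H hh₀ hξ hx₀ hy₀
  obtain ⟨V₁, hxV₁, g₁, hg₁φ, hg₁q⟩ := spread_out_of_isGermInjective' ι₀ q φ hφq
  have hg₁x : g₁ ⟨x₀, hxV₁⟩ = y₀ := by
    rw [← hφc, hg₁φ, Scheme.Hom.comp_apply, fromSpecStalkOfMem_closedPoint]
  obtain ⟨Y₀, hY₀aff, hyY₀⟩ : ∃ Y₀ : Y.Opens, IsAffineOpen Y₀ ∧ y₀ ∈ Y₀ := by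
    obtain ⟨_, ⟨Y₀, hY₀, rfl⟩, hy, -⟩ :=
      (Y.isBasis_affineOpens).exists_subset_of_mem_open (Set.mem_univ y₀) isOpen_univ
    exact ⟨Y₀, hY₀, hy⟩
  let Ω : W.Opens := V.ι ''ᵁ (h₀ ⁻¹ᵁ Y₀)
  have hΩ : ∀ p ∈ V, p ⤳ x₀ → p ∈ Ω := by
    intro p hp hsp
    have hne : x₀ ≠ p := fun h => hx₀ (h ▸ hp)
    have h1 := specializes_of_dvrHyp H p hp hsp hne
    have h2 : h₀ ⟨p, hp⟩ ∈ Y₀ := h1.mem_open Y₀.isOpen hyY₀
    exact ⟨⟨p, hp⟩, h2, rfl⟩
  obtain ⟨V'', hxV'', hV''⟩ := exists_nhd_inf_le V Ω x₀ hΩ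
  let V' : W.Opens := V₁ ⊓ V'' ⊓ V₁.ι ''ᵁ (g₁ ⁻¹ᵁ Y₀)
  have hV'V₁ : V' ≤ V₁ := inf_le_left.trans inf_le_left
  have hxV' : x₀ ∈ V' := ⟨⟨hxV₁, hxV''⟩, ⟨⟨x₀, hxV₁⟩, by rw [← hg₁x] at hyY₀; exact hyY₀, rfl⟩⟩
  have hg₁mem : ∀ p (hp : p ∈ V'), g₁ ⟨p, hV'V₁ hp⟩ ∈ Y₀ := by
    rintro p ⟨-, ⟨p', hp', rfl⟩⟩
    exact hp'
  have hh₀mem : ∀ p (hp : p ∈ V ⊓ V'), h₀ ⟨p, hp.1⟩ ∈ Y₀ := by
    intro p hp
    obtain ⟨p', hp', hpp'⟩ := hV'' ⟨hp.1, hp.2.1.2⟩
    have : p' = ⟨p, hp.1⟩ := Subtype.ext hpp'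
    rw [← this]
    exact hp'
  refine ⟨V', hxV', W.homOfLE hV'V₁ ≫ g₁, ?_, ?_, ?_⟩
  · rw [Category.assoc, hg₁q, Scheme.homOfLE_ι_assoc]
  · rw [Scheme.Hom.comp_apply, homOfLE_mk]
    exact hg₁x
  · set a : (V ⊓ V').toScheme ⟶ Y :=
      W.homOfLE (inf_le_right : V ⊓ V' ≤ V') ≫ W.homOfLE hV'V₁ ≫ g₁ with ha
    set b : (V ⊓ V').toScheme ⟶ Y := W.homOfLE (inf_le_left : V ⊓ V' ≤ V) ≫ h₀ with hb
    have hξ' : genericPoint W ∈ V ⊓ V' :=
      ⟨hξ, (Groth.Agent.H4FF.genericPoint_specializes x₀).mem_open V'.isOpen hxV'⟩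
    -- both maps land in `Y₀`
    have hra : Set.range a ⊆ Set.range Y₀.ι := by
      rintro _ ⟨⟨p, hp⟩, rfl⟩
      rw [Scheme.Opens.range_ι, ha, Scheme.Hom.comp_apply, Scheme.Hom.comp_apply, homOfLE_mk,
        homOfLE_mk]
      exact hg₁mem p hp.2
    have hrb : Set.range b ⊆ Set.range Y₀.ι := by
      rintro _ ⟨⟨p, hp⟩, rfl⟩
      rw [Scheme.Opens.range_ι, hb, Scheme.Hom.comp_apply, homOfLE_mk]
      exact hh₀mem p hp
    have : IsAffine Y₀.toScheme := hY₀aff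
    have hab : IsOpenImmersion.lift Y₀.ι a hra = IsOpenImmersion.lift Y₀.ι b hrb := by
      apply ext_of_isDominant (ι := (V ⊓ V').fromSpecStalkOfMem (genericPoint W) hξ')
      rw [← cancel_mono Y₀.ι, Category.assoc, Category.assoc, IsOpenImmersion.lift_fac,
        IsOpenImmersion.lift_fac, ha, hb, fromSpecStalkOfMem_homOfLE_assoc,
        fromSpecStalkOfMem_homOfLE_assoc, fromSpecStalkOfMem_homOfLE_assoc, ← hφg, hg₁φ,
        ← Category.assoc, SpecMap_toFF_fromSpecStalkOfMem]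
    calc a = IsOpenImmersion.lift Y₀.ι a hra ≫ Y₀.ι := (IsOpenImmersion.lift_fac _ _ _).symm
      _ = IsOpenImmersion.lift Y₀.ι b hrb ≫ Y₀.ι := by rw [hab]
      _ = b := IsOpenImmersion.lift_fac _ _ _

end Main

end Groth.Agent.H4Rat
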