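import Mathlib
import Groth.Agent.Lib.helper4.Rat4
import Groth.Agent.Lib.helper4.Glue2
import Groth.Agent.Lib.helper4.DvrScheme

/-!
# Gluing an extension constructed on an open subscheme with the original section
-/

set_option autoImplicit false
universe u

namespace Groth.Agent.H4Rat

open AlgebraicGeometry CategoryTheory Limits TopologicalSpace IsLocalRing Groth.Agent.H4Glue

theorem glue_extension {X Y : Scheme.{u}} (q : Y ⟶ X) (U : X.Opens) (h : U.toScheme ⟶ Y)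
    (hh : h ≫ q = U.ι) (U₀ : X.Opens) (V' : U₀.toScheme.Opens) (g' : V'.toScheme ⟶ Y)
    (hg'q : g' ≫ q = V'.ι ≫ U₀.ι)
    (hagree : U₀.toScheme.homOfLE (inf_le_right : U₀.ι ⁻¹ᵁ U ⊓ V' ≤ V') ≫ g' =
      U₀.toScheme.homOfLE (inf_le_left : U₀.ι ⁻¹ᵁ U ⊓ V' ≤ U₀.ι ⁻¹ᵁ U) ≫ (U₀.ι ∣_ U) ≫ h) :
    ∃ (U' : X.Opens) (hUU' : U ≤ U') (hV' : U₀.ι ''ᵁ V' ≤ U') (h' : U'.toScheme ⟶ Y),
      h' ≫ q = U'.ι ∧ X.homOfLE hUU' ≫ h' = h ∧
      ∀ (x : X) (hx₀ : x ∈ U₀) (hx : (⟨x, hx₀⟩ : U₀.toScheme) ∈ V'),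
        h' ⟨x, hV' ⟨⟨x, hx₀⟩, hx, rfl⟩⟩ = g' ⟨⟨x, hx₀⟩, hx⟩ := by
  let ι₀ : U₀.toScheme ⟶ X := U₀.ι
  let V : U₀.toScheme.Opens := ι₀ ⁻¹ᵁ U
  let Ux : X.Opens := ι₀ ''ᵁ V'
  let gx : Ux.toScheme ⟶ Y := (ι₀.isoImage V').inv ≫ g'
  have hgxq : gx ≫ q = Ux.ι := by
    rw [Category.assoc, hg'q, Scheme.Hom.isoImage_inv_ι]
  have hgxx : ∀ (x : X) (hx₀ : x ∈ U₀) (hx : (⟨x, hx₀⟩ : U₀.toScheme) ∈ V'),
      gx ⟨x, ⟨⟨x, hx₀⟩, hx, rfl⟩⟩ = g' ⟨⟨x, hx₀⟩, hx⟩ := by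
    intro x hx₀ hx
    have : (ι₀.isoImage V').inv ⟨x, ⟨⟨x, hx₀⟩, hx, rfl⟩⟩ = ⟨⟨x, hx₀⟩, hx⟩ := by
      apply Subtype.ext
      apply Subtype.ext
      change (ι₀) ((V'.ι) ((ι₀.isoImage V').inv ⟨x, _⟩)) = x
      rw [← Scheme.Hom.comp_apply, ← Scheme.Hom.comp_apply, Scheme.Hom.isoImage_inv_ι]
      rfl
    rw [Scheme.Hom.comp_apply, this]
  -- agreement on `U ⊓ Ux`
  let T : U₀.toScheme.Opens := V ⊓ V'
  have hrange : Set.range (T.ι ≫ ι₀) ⊆ Set.range (U ⊓ Ux).ι := by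
    rintro _ ⟨⟨t, ht⟩, rfl⟩
    rw [Scheme.Opens.range_ι]
    exact ⟨ht.1, ⟨t, ht.2, rfl⟩⟩
  let κ : T.toScheme ⟶ (U ⊓ Ux).toScheme := IsOpenImmersion.lift (U ⊓ Ux).ι (T.ι ≫ ι₀) hrange
  have hκ : κ ≫ (U ⊓ Ux).ι = T.ι ≫ ι₀ := IsOpenImmersion.lift_fac _ _ _
  have hκoi : IsOpenImmersion κ := by
    have : IsOpenImmersion (κ ≫ (U ⊓ Ux).ι) := by rw [hκ]; infer_instance
    exact IsOpenImmersion.of_comp κ (U ⊓ Ux).ι
  have hκsurj : Function.Surjective κ := by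
    rintro ⟨z, hzU, ⟨v, hvV', rfl⟩⟩
    refine ⟨⟨v, hzU, hvV'⟩, ?_⟩
    apply Subtype.ext
    change (U ⊓ Ux).ι (κ ⟨v, _⟩) = _
    rw [← Scheme.Hom.comp_apply, hκ]
    rfl
  have hκiso : IsIso κ := by
    apply isIso_of_isOpenImmersion_of_opensRange_eq_top
    apply TopologicalSpace.Opens.ext
    rw [Scheme.Hom.coe_opensRange]
    exact hκsurj.range_eq
  have hag : X.homOfLE (inf_le_left : U ⊓ Ux ≤ U) ≫ h =
      X.homOfLE (inf_le_right : U ⊓ Ux ≤ Ux) ≫ gx := by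
    rw [← cancel_epi κ]
    have e1 : κ ≫ X.homOfLE (inf_le_left : U ⊓ Ux ≤ U) =
        U₀.toScheme.homOfLE (inf_le_left : T ≤ V) ≫ (ι₀ ∣_ U) := by
      rw [← cancel_mono U.ι, Category.assoc, Category.assoc, Scheme.homOfLE_ι, hκ,
        morphismRestrict_ι, Scheme.homOfLE_ι_assoc]
    have e2 : κ ≫ X.homOfLE (inf_le_right : U ⊓ Ux ≤ Ux) =
        U₀.toScheme.homOfLE (inf_le_right : T ≤ V') ≫ (ι₀.isoImage V').hom := by
      rw [← cancel_mono Ux.ι, Category.assoc, Category.assoc, Scheme.homOfLE_ι, hκ,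
        Scheme.Hom.isoImage_hom_ι, Scheme.homOfLE_ι_assoc]
    rw [← Category.assoc, e1, ← Category.assoc, e2, Category.assoc, Category.assoc,
      Iso.hom_inv_id_assoc]
    exact hagree.symm
  obtain ⟨U', h₁, h₂, ψ, hψ1, hψ2, hψ3⟩ := glue_two U Ux h gx hag
  refine ⟨U', h₁, h₂, ψ, ?_, hψ1, ?_⟩
  · have := hψ3 X q (𝟙 X) (by rw [hh, Category.comp_id]) (by rw [hgxq, Category.comp_id])
    rw [this, Category.comp_id]
  · intro x hx₀ hx
    have hxUx : x ∈ Ux := ⟨⟨x, hx₀⟩, hx, rfl⟩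
    have : (⟨x, h₂ hxUx⟩ : U') = X.homOfLE h₂ ⟨x, hxUx⟩ := (homOfLE_mk h₂ x hxUx).symm
    rw [this, ← Scheme.Hom.comp_apply, hψ2, hgxx x hx₀ hx]

theorem exists_integral_affine_nhd {X : Scheme.{u}} [IsLocallyNoetherian X] (x : X)
    [IsDomain (X.presheaf.stalk x)] :
    ∃ U₀ : X.Opens, IsAffineOpen U₀ ∧ x ∈ U₀ ∧ IsIntegral U₀.toScheme := by
  obtain ⟨U₀, hxU₀, haff, hinj⟩ := (inferInstance : X.IsGermInjectiveAt x).cond
  refine ⟨U₀, haff, hxU₀, ?_⟩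
  have hdom : IsDomain Γ(X, U₀) := hinj.isDomain (X.presheaf.germ U₀ x hxU₀).hom
  have : IsAffine U₀.toScheme := haff
  have : Nonempty U₀.toScheme := ⟨⟨x, hxU₀⟩⟩
  have : IsDomain Γ(U₀.toScheme, ⊤) :=
    (U₀.topIso.commRingCatIsoToRingEquiv).toMulEquiv.isDomain_iff.2 hdom
  exact isIntegral_of_isAffine_of_isDomain _

/-- The generic point of an integral open subscheme lies in every dense open. -/
theorem genericPoint_mem_of_dense {X : Scheme.{u}} (U : X.Opens) (hU : Dense (U : Set X))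
    (U₀ : X.Opens) [IsIntegral U₀.toScheme] :
    genericPoint U₀.toScheme ∈ U₀.ι ⁻¹ᵁ U := by
  obtain ⟨x₀⟩ : Nonempty U₀.toScheme := inferInstance
  obtain ⟨z, hzU₀, hzU⟩ := hU.inter_open_nonempty U₀ U₀.isOpen ⟨x₀.1, x₀.2⟩
  exact ((genericPoint_spec U₀.toScheme).mem_open_set_iff (U₀.ι ⁻¹ᵁ U).isOpen).2
    ⟨⟨z, hzU₀⟩, trivial, hzU⟩

/-- Through every point outside a dense open `U` of a locally Noetherian scheme with integral
local ring passes a DVR-point with generic point in `U`. -/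
theorem exists_dvr_point {X : Scheme.{u}} [IsLocallyNoetherian X] (U : X.Opens)
    (hU : Dense (U : Set X)) (x : X) (hxU : x ∉ U) [IsDomain (X.presheaf.stalk x)] :
    ∃ (R : Type u) (_ : CommRing R) (_ : IsDomain R) (_ : IsDiscreteValuationRing R)
      (u : Spec (CommRingCat.of R) ⟶ X)
      (ub : Spec (CommRingCat.of (FractionRing R)) ⟶ U.toScheme),
      u (closedPoint R) = x ∧
        ub ≫ U.ι = Spec.map (CommRingCat.ofHom (algebraMap R (FractionRing R))) ≫ u := by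
  obtain ⟨U₀, haff, hxU₀, hint⟩ := exists_integral_affine_nhd x
  have hξ₀ := genericPoint_mem_of_dense U hU U₀
  set ξ : X := U₀.ι (genericPoint U₀.toScheme) with hξdef
  have hξU : ξ ∈ U := hξ₀
  have hsp : ξ ⤳ x := by
    have : genericPoint U₀.toScheme ⤳ (⟨x, hxU₀⟩ : U₀.toScheme) :=
      Groth.Agent.H4FF.genericPoint_specializes _
    exact this.map U₀.ι.continuous
  have hne : x ≠ (𝟙 X : X ⟶ X).base ξ := fun h => hxU (h ▸ hξU)
  have hsp' : (𝟙 X : X ⟶ X).base ξ ⤳ x := hsp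
  obtain ⟨A, hA, hdvr, hcl, hgen⟩ :=
    Groth.Agent.H4Dvr.exists_dvr_through_specialization (𝟙 X) ξ x hsp' hne
  rw [Category.comp_id] at hgen
  have hrange : Set.range (X.fromSpecResidueField ξ) ⊆ Set.range U.ι := by
    rintro _ ⟨z, rfl⟩
    rw [Scheme.Opens.range_ι, Scheme.fromSpecResidueField_apply]
    exact hξU
  let ub₀ : Spec (X.residueField ξ) ⟶ U.toScheme :=
    IsOpenImmersion.lift U.ι (X.fromSpecResidueField ξ) hrange
  have hub₀ : ub₀ ≫ U.ι = X.fromSpecResidueField ξ := IsOpenImmersion.lift_fac _ _ _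
  let e : FractionRing A ≃ₐ[A] X.residueField ξ := FractionRing.algEquiv A (X.residueField ξ)
  let es : X.residueField ξ ⟶ CommRingCat.of (FractionRing A) :=
    CommRingCat.ofHom e.symm.toRingEquiv.toRingHom
  let am : CommRingCat.of A ⟶ CommRingCat.of (FractionRing A) :=
    CommRingCat.ofHom (algebraMap A (FractionRing A))
  let sub : CommRingCat.of A ⟶ X.residueField ξ := CommRingCat.ofHom A.subtype
  have h1 : sub ≫ es = am := by
    ext a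
    exact e.symm.commutes a
  refine ⟨A, inferInstance, inferInstance, hdvr, hA, Spec.map es ≫ ub₀, hcl, ?_⟩
  rw [Category.assoc, hub₀, ← hgen]
  change Spec.map es ≫ Spec.map sub ≫ hA = Spec.map am ≫ hA
  rw [← Spec.map_comp_assoc, h1]

end Groth.Agent.H4Rat
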