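import Mathlib
import Groth.Agent.Lib.helper4.Rat4
import Groth.Agent.Lib.helper4.Rat6
import Groth.Agent.Lib.helper4.Glue2

/-!
# Extending a rational map to a proper target at a point whose local ring is a valuation ring
-/

set_option autoImplicit false
universe u

namespace Groth.Agent.H4Rat

open AlgebraicGeometry CategoryTheory Limits TopologicalSpace IsLocalRing Groth.Agent.H4FF
open Groth.Agent.H4FunField Groth.Agent.H4Glue

/-- Integral case: a rational map from an integral scheme to a proper `S`-scheme extends to a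
neighbourhood of any point whose local ring is a valuation ring. -/
theorem exists_extension_integral {W Y S : Scheme.{u}} [IsIntegral W] (p : W ⟶ S) (q : Y ⟶ S)
    [IsProper q] (x : W) [ValuationRing (W.presheaf.stalk x)] (U : W.Opens)
    (hU : (U : Set W).Nonempty) (f : U.toScheme ⟶ Y) (hf : f ≫ q = U.ι ≫ p) :
    ∃ (V : W.Opens) (_ : x ∈ V) (g : V.toScheme ⟶ Y), g ≫ q = V.ι ≫ p ∧
      W.homOfLE (inf_le_left : U ⊓ V ≤ U) ≫ f = W.homOfLE (inf_le_right : U ⊓ V ≤ V) ≫ g := by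
  have hξ : genericPoint W ∈ U := by
    obtain ⟨z, hz⟩ := hU
    exact ((genericPoint_spec W).mem_open_set_iff U.isOpen).2 ⟨z, trivial, hz⟩
  have hu := (UniversallyClosed.eq_valuativeCriterion ▸ (inferInstance : UniversallyClosed q) :
    (ValuativeCriterion.Existence ⊓ @QuasiCompact) q).1
  let i₁ : Spec W.functionField ⟶ Y := U.fromSpecStalkOfMem (genericPoint W) hξ ≫ f
  have hsq : i₁ ≫ q = Spec.map (toFF W x) ≫ W.fromSpecStalk x ≫ p := by
    rw [Category.assoc, hf, Scheme.Opens.fromSpecStalkOfMem_ι_assoc, ← Category.assoc,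
      SpecMap_toFF]
  let Sq : ValuativeCommSq q :=
    { R := W.presheaf.stalk x
      commRing := inferInstance
      domain := inferInstance
      valuationRing := inferInstance
      K := W.functionField
      field := inferInstance
      algebra := inferInstance
      isFractionRing := inferInstance
      i₁ := i₁
      i₂ := W.fromSpecStalk x ≫ p
      commSq := ⟨hsq⟩ }
  obtain ⟨⟨φ, hφ1, hφ2⟩⟩ := hu Sq
  have hφ1' : Spec.map (toFF W x) ≫ φ = i₁ := hφ1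
  have hφ2' : φ ≫ q = W.fromSpecStalk x ≫ p := hφ2
  obtain ⟨V, hxV, g, hg1, hg2⟩ := spread_out_of_isGermInjective' p q φ hφ2'
  refine ⟨V, hxV, g, hg2, ?_⟩
  have hξA : genericPoint W ∈ U ⊓ V :=
    ⟨hξ, ((genericPoint_spec W).mem_open_set_iff V.isOpen).2 ⟨x, trivial, hxV⟩⟩
  have hne : Nonempty (U ⊓ V : W.Opens) := ⟨⟨_, hξA⟩⟩
  have : IsIntegral (U ⊓ V : W.Opens).toScheme := inferInstance
  have hdom := isDominant_fromSpecStalkOfMem_generic (U ⊓ V) hξA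
  apply ext_of_isDominant_of_isSeparated q _ ((U ⊓ V).fromSpecStalkOfMem (genericPoint W) hξA)
  · rw [fromSpecStalkOfMem_homOfLE_assoc, fromSpecStalkOfMem_homOfLE_assoc,
      ← SpecMap_toFF_fromSpecStalkOfMem V x hxV hξA.2, Category.assoc, ← hg1, hφ1']
  · rw [Category.assoc, Category.assoc, hf, hg2, Scheme.homOfLE_ι_assoc, Scheme.homOfLE_ι_assoc]

end Groth.Agent.H4Rat

namespace Groth.Agent.H4Rat

open AlgebraicGeometry CategoryTheory Limits TopologicalSpace IsLocalRing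

/-- If the local ring at `x` is a domain, every irreducible component through `x` is the closure
of the image of the generic point of `Spec 𝒪_{X,x}`. -/
theorem irreducibleComponent_eq_of_isDomain_stalk {X : Scheme.{u}} (x : X)
    [IsDomain (X.presheaf.stalk x)] (Z : Set X) (hZ : Z ∈ irreducibleComponents X) (hxZ : x ∈ Z) :
    Z = closure {X.fromSpecStalk x ⟨⊥, Ideal.isPrime_bot⟩} := by
  have hZcl : IsClosed Z := isClosed_of_mem_irreducibleComponents Z hZ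
  have hZirr : IsIrreducible Z := hZ.1
  obtain ⟨η, hη⟩ := QuasiSober.sober hZirr hZcl
  have hηx : η ⤳ x := by
    rw [specializes_iff_mem_closure, hη.def]
    exact hxZ
  have hmem : η ∈ Set.range (X.fromSpecStalk x) := by
    rw [Scheme.range_fromSpecStalk]
    exact hηx
  obtain ⟨y, rfl⟩ := hmem
  have h1 : (⟨⊥, Ideal.isPrime_bot⟩ : PrimeSpectrum (X.presheaf.stalk x)) ⤳ y := by
    rw [← PrimeSpectrum.le_iff_specializes]
    exact bot_le
  have h2 : X.fromSpecStalk x ⟨⊥, Ideal.isPrime_bot⟩ ⤳ X.fromSpecStalk x y :=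
    h1.map (X.fromSpecStalk x).continuous
  have h3 : Z ⊆ closure {X.fromSpecStalk x ⟨⊥, Ideal.isPrime_bot⟩} := by
    rw [← hη.def]
    exact closure_minimal (Set.singleton_subset_iff.2 (specializes_iff_mem_closure.1 h2))
      isClosed_closure
  exact hZ.eq_of_subset isIrreducible_singleton.closure h3

/-- A reduced scheme with finitely many irreducible components has an integral open
neighbourhood at every point whose local ring is a domain. -/
theorem exists_isIntegral_nhd_of_finite {X : Scheme.{u}} [IsReduced X]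
    (hfin : (irreducibleComponents X).Finite) (x : X) [IsDomain (X.presheaf.stalk x)] :
    ∃ U₀ : X.Opens, x ∈ U₀ ∧ IsIntegral U₀.toScheme := by
  set ξ : X := X.fromSpecStalk x ⟨⊥, Ideal.isPrime_bot⟩ with hξ
  let 𝒯 : Set (Set X) := {Z | Z ∈ irreducibleComponents X ∧ x ∉ Z}
  have h𝒯fin : 𝒯.Finite := hfin.subset fun Z hZ => hZ.1
  have hTcl : IsClosed (⋃₀ 𝒯) := by
    rw [Set.sUnion_eq_biUnion]
    exact h𝒯fin.isClosed_biUnion fun Z hZ => isClosed_of_mem_irreducibleComponents Z hZ.1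
  let U₀ : X.Opens := ⟨(⋃₀ 𝒯)ᶜ, hTcl.isOpen_compl⟩
  have hxU₀ : x ∈ U₀ := by
    rintro ⟨Z, hZ, hxZ⟩
    exact hZ.2 hxZ
  have hsub : (U₀ : Set X) ⊆ closure {ξ} := by
    intro z hz
    have hZ := irreducibleComponent_mem_irreducibleComponents z
    have hzZ : z ∈ irreducibleComponent z := mem_irreducibleComponent
    by_cases hxZ : x ∈ irreducibleComponent z
    · rw [← irreducibleComponent_eq_of_isDomain_stalk x _ hZ hxZ]
      exact hzZ
    · exact absurd ⟨_, ⟨hZ, hxZ⟩, hzZ⟩ hz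
  have hirr : IsIrreducible (U₀ : Set X) :=
    ⟨⟨x, hxU₀⟩, (isIrreducible_singleton.closure.isPreirreducible).open_subset U₀.isOpen hsub⟩
  have h1 : IrreducibleSpace U₀.toScheme := Subtype.irreducibleSpace hirr
  refine ⟨U₀, hxU₀, ?_⟩
  rw [isIntegral_iff_irreducibleSpace_and_isReduced]
  exact ⟨h1, inferInstance⟩

open Groth.Agent.H4Glue in
theorem glue_extension' {X Y : Scheme.{u}} (U : X.Opens) (h : U.toScheme ⟶ Y)
    (U₀ : X.Opens) (V' : U₀.toScheme.Opens) (g' : V'.toScheme ⟶ Y)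
    (hagree : U₀.toScheme.homOfLE (inf_le_right : U₀.ι ⁻¹ᵁ U ⊓ V' ≤ V') ≫ g' =
      U₀.toScheme.homOfLE (inf_le_left : U₀.ι ⁻¹ᵁ U ⊓ V' ≤ U₀.ι ⁻¹ᵁ U) ≫ (U₀.ι ∣_ U) ≫ h) :
    ∃ (U' : X.Opens) (hUU' : U ≤ U') (_ : U₀.ι ''ᵁ V' ≤ U') (h' : U'.toScheme ⟶ Y),
      X.homOfLE hUU' ≫ h' = h ∧
      ∀ (Z : Scheme.{u}) (s : Y ⟶ Z) (t : X ⟶ Z), h ≫ s = U.ι ≫ t →
        g' ≫ s = V'.ι ≫ U₀.ι ≫ t → h' ≫ s = U'.ι ≫ t := by
  let ι₀ : U₀.toScheme ⟶ X := U₀.ι
  let V : U₀.toScheme.Opens := ι₀ ⁻¹ᵁ U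
  let Ux : X.Opens := ι₀ ''ᵁ V'
  let gx : Ux.toScheme ⟶ Y := (ι₀.isoImage V').inv ≫ g'
  -- agreement on `U ⊓ Ux`
  let T : U₀.toScheme.Opens := V ⊓ V'
  have hrange : Set.range (T.ι ≫ ι₀) ⊆ Set.range (U ⊓ Ux).ι := by
    rintro _ ⟨⟨t, ht⟩, rfl⟩
    rw [Scheme.Opens.range_ι]
    exact ⟨ht.1, ⟨t, ht.2, rfl⟩⟩
  let κ : T.toScheme ⟶ (U ⊓ Ux).toScheme := IsOpenImmersion.lift (U ⊓ Ux).ι (T.ι ≫ ι₀) hrange
  have hκ : κ ≫ (U ⊓ Ux).ι = T.ι ≫ ι₀ := IsOpenImmersion.lift_fac _ _ _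
  have hκoi : IsOpenImmersion κ := by
    have : IsOpenImmersion (κ ≫ (U ⊓ Ux).ι) := by rw [hκ]; infer_instance
    exact IsOpenImmersion.of_comp κ (U ⊓ Ux).ι
  have hκsurj : Function.Surjective κ := by
    rintro ⟨z, hzU, ⟨v, hvV', rfl⟩⟩
    refine ⟨⟨v, hzU, hvV'⟩, ?_⟩
    apply Subtype.ext
    change (U ⊓ Ux).ι (κ ⟨v, _⟩) = _
    rw [← Scheme.Hom.comp_apply, hκ]
    rfl
  have hκiso : IsIso κ := by
    apply isIso_of_isOpenImmersion_of_opensRange_eq_top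
    apply TopologicalSpace.Opens.ext
    rw [Scheme.Hom.coe_opensRange]
    exact hκsurj.range_eq
  have hag : X.homOfLE (inf_le_left : U ⊓ Ux ≤ U) ≫ h =
      X.homOfLE (inf_le_right : U ⊓ Ux ≤ Ux) ≫ gx := by
    rw [← cancel_epi κ]
    have e1 : κ ≫ X.homOfLE (inf_le_left : U ⊓ Ux ≤ U) =
        U₀.toScheme.homOfLE (inf_le_left : T ≤ V) ≫ (ι₀ ∣_ U) := by
      rw [← cancel_mono U.ι, Category.assoc, Category.assoc, Scheme.homOfLE_ι, hκ,
        morphismRestrict_ι, Scheme.homOfLE_ι_assoc]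
    have e2 : κ ≫ X.homOfLE (inf_le_right : U ⊓ Ux ≤ Ux) =
        U₀.toScheme.homOfLE (inf_le_right : T ≤ V') ≫ (ι₀.isoImage V').hom := by
      rw [← cancel_mono Ux.ι, Category.assoc, Category.assoc, Scheme.homOfLE_ι, hκ,
        Scheme.Hom.isoImage_hom_ι, Scheme.homOfLE_ι_assoc]
    rw [← Category.assoc, e1, ← Category.assoc, e2, Category.assoc, Category.assoc,
      Iso.hom_inv_id_assoc]
    exact hagree.symm
  obtain ⟨U', h₁, h₂, ψ, hψ1, hψ2, hψ3⟩ := glue_two U Ux h gx hag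
  refine ⟨U', h₁, h₂, ψ, hψ1, ?_⟩
  intro Z s t hs hg's
  apply hψ3 Z s t hs
  rw [Category.assoc, hg's, Scheme.Hom.isoImage_inv_ι_assoc]

/-- Extension of a rational map to a proper target at a point with valuation local ring,
given an integral open neighbourhood. -/
theorem exists_extension_of_valuationRing_of_nhd {X Y S : Scheme.{u}} (p : X ⟶ S) (q : Y ⟶ S)
    [IsProper q] (x : X) (U : X.Opens) (f : (U : Scheme.{u}) ⟶ Y) (hf : f ≫ q = U.ι ≫ p)
    (hx : x ∈ closure (U : Set ↥X))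
    (U₀ : X.Opens) (hxU₀ : x ∈ U₀) [IsIntegral U₀.toScheme]
    (hdom : IsDomain (X.presheaf.stalk x)) (hval : @ValuationRing (X.presheaf.stalk x) _ hdom) :
    ∃ (U' : X.Opens) (hUU' : U ≤ U'), x ∈ U' ∧
      ∃ f' : (U' : Scheme.{u}) ⟶ Y, f' ≫ q = U'.ι ≫ p ∧ X.homOfLE hUU' ≫ f' = f := by
  let x₀ : U₀.toScheme := ⟨x, hxU₀⟩
  have hiso : IsIso (U₀.ι.stalkMap x₀) := inferInstance
  have hsurj : Function.Surjective (U₀.ι.stalkMap x₀).hom :=
    ((ConcreteCategory.isIso_iff_bijective (U₀.ι.stalkMap x₀)).1 hiso).2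
  have hval₀ : ValuationRing (U₀.toScheme.presheaf.stalk x₀) :=
    @Function.Surjective.valuationRing (X.presheaf.stalk x) _ _ hval.toPreValuationRing _ _
      (U₀.ι.stalkMap x₀).hom hsurj
  have hU₁ : ((U₀.ι ⁻¹ᵁ U : U₀.toScheme.Opens) : Set U₀.toScheme).Nonempty := by
    obtain ⟨z, hzU₀, hzU⟩ := mem_closure_iff.1 hx U₀ U₀.isOpen hxU₀
    exact ⟨⟨z, hzU₀⟩, hzU⟩
  have hf₁ : ((U₀.ι ∣_ U) ≫ f) ≫ q = (U₀.ι ⁻¹ᵁ U).ι ≫ U₀.ι ≫ p := by
    rw [Category.assoc, hf, morphismRestrict_ι_assoc]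
  obtain ⟨V₀, hx₀V₀, g₀, hg₀, hag⟩ :=
    exists_extension_integral (U₀.ι ≫ p) q x₀ (U₀.ι ⁻¹ᵁ U) hU₁ ((U₀.ι ∣_ U) ≫ f) hf₁
  obtain ⟨U', hUU', hV', h', h1, h2⟩ := glue_extension' U f U₀ V₀ g₀ hag.symm
  exact ⟨U', hUU', hV' ⟨x₀, hx₀V₀, rfl⟩, h', h2 S q p hf hg₀, h1⟩

end Groth.Agent.H4Rat
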