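import Mathlib
import Groth.Agent.S4989
import Groth.Agent.Lib.helper4.Rat16

/-!
# A connected finite étale cover of a normal integral scheme is integral and normal
-/

set_option autoImplicit false
universe u

namespace Groth.Agent.H4Rat

open AlgebraicGeometry CategoryTheory Limits TopologicalSpace IsLocalRing

/-- A connected scheme with finitely many irreducible components all of whose local rings are
domains is irreducible. -/
theorem irreducibleSpace_of_isDomain_stalks {Y : Scheme.{u}} [ConnectedSpace Y]
    (hfin : (irreducibleComponents Y).Finite) (hdom : ∀ y : Y, IsDomain (Y.presheaf.stalk y)) :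
    IrreducibleSpace Y := by
  obtain ⟨y₀⟩ : Nonempty Y := inferInstance
  set Z₀ : Set Y := irreducibleComponent y₀ with hZ₀
  have hZ₀mem : Z₀ ∈ irreducibleComponents Y := irreducibleComponent_mem_irreducibleComponents y₀
  have hdisj : ∀ Z ∈ irreducibleComponents Y, ∀ y : Y, y ∈ Z → y ∈ Z₀ → Z = Z₀ := by
    intro Z hZ y hyZ hyZ₀
    have := hdom y
    rw [irreducibleComponent_eq_of_isDomain_stalk y Z hZ hyZ,
      irreducibleComponent_eq_of_isDomain_stalk y Z₀ hZ₀mem hyZ₀]
  let 𝒯 : Set (Set Y) := {Z | Z ∈ irreducibleComponents Y ∧ Z ≠ Z₀}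
  have h𝒯fin : 𝒯.Finite := hfin.subset fun Z hZ => hZ.1
  have hTcl : IsClosed (⋃₀ 𝒯) := by
    rw [Set.sUnion_eq_biUnion]
    exact h𝒯fin.isClosed_biUnion fun Z hZ => isClosed_of_mem_irreducibleComponents Z hZ.1
  have hcompl : Z₀ = (⋃₀ 𝒯)ᶜ := by
    ext y
    constructor
    · rintro hy ⟨Z, ⟨hZ, hne⟩, hyZ⟩
      exact hne (hdisj Z hZ y hyZ hy)
    · intro hy
      by_contra hyZ₀
      refine hy ⟨irreducibleComponent y, ⟨irreducibleComponent_mem_irreducibleComponents y, ?_⟩,
        mem_irreducibleComponent⟩
      intro h
      exact hyZ₀ (h ▸ mem_irreducibleComponent)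
  have hopen : IsOpen Z₀ := by
    rw [hcompl]
    exact hTcl.isOpen_compl
  have hclopen : IsClopen Z₀ := ⟨isClosed_irreducibleComponent, hopen⟩
  have huniv : Z₀ = Set.univ := hclopen.eq_univ ⟨y₀, mem_irreducibleComponent⟩
  have hirr : IsIrreducible (Set.univ : Set Y) := huniv ▸ isIrreducible_irreducibleComponent
  exact (irreducibleSpace_def Y).2 hirr

/-- For a generalizing map to an irreducible scheme, every generic point of an irreducible
component maps to the generic point. -/
theorem map_generic_of_generalizingMap {X Y : Scheme.{u}} [IrreducibleSpace X] (f : Y ⟶ X)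
    (hgen : GeneralizingMap f) (η : Y) (hη : closure {η} ∈ irreducibleComponents Y) :
    f η = genericPoint X := by
  have h1 : genericPoint X ⤳ f η := (genericPoint_spec X).specializes trivial
  obtain ⟨η', hη'η, hfη'⟩ := hgen h1
  have h2 : closure {η} ⊆ closure {η'} :=
    closure_minimal (Set.singleton_subset_iff.2 (specializes_iff_mem_closure.1 hη'η))
      isClosed_closure
  have h3 : closure {η} = closure {η'} := hη.eq_of_subset isIrreducible_singleton.closure h2
  have h4 : η = η' := by
    have hg : IsGenericPoint η (closure {η'}) := h3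
    exact hg.eq (rfl : IsGenericPoint η' (closure {η'}))
  rw [h4, hfη']

/-- A generalizing map with finite generic fibre to an irreducible scheme has a source with
finitely many irreducible components. -/
theorem finite_irreducibleComponents_of_generalizingMap {X Y : Scheme.{u}} [IrreducibleSpace X]
    (f : Y ⟶ X) (hgen : GeneralizingMap f) (hfib : (f ⁻¹' {genericPoint X}).Finite) :
    (irreducibleComponents Y).Finite := by
  have hex : ∀ Z : irreducibleComponents Y, ∃ η : Y, IsGenericPoint η Z.1 := fun Z =>
    QuasiSober.sober Z.2.1 (isClosed_of_mem_irreducibleComponents Z.1 Z.2)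
  choose g hg using hex
  have hmem : ∀ Z : irreducibleComponents Y, g Z ∈ f ⁻¹' {genericPoint X} := by
    intro Z
    apply map_generic_of_generalizingMap f hgen
    rw [(hg Z).def]
    exact Z.2
  have hinj : Function.Injective (fun Z : irreducibleComponents Y =>
      (⟨g Z, hmem Z⟩ : f ⁻¹' {genericPoint X})) := by
    intro Z Z' h
    have h' : g Z = g Z' := congrArg Subtype.val h
    apply Subtype.ext
    rw [← (hg Z).def, ← (hg Z').def, h']
  have := hfib.to_subtype
  exact Set.finite_coe_iff.1 (Finite.of_injective _ hinj)

/-- **A connected finite étale cover of a normal integral scheme is integral and normal.** -/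
theorem isIntegral_of_finite_etale {X Y : Scheme.{u}} [IsIntegral X]
    (hX : ∀ x : X, IsDomain (X.presheaf.stalk x) ∧ IsIntegrallyClosed (X.presheaf.stalk x))
    (f : Y ⟶ X) [IsFinite f] [Etale f] [ConnectedSpace Y] :
    IsIntegral Y ∧
      ∀ y : Y, IsDomain (Y.presheaf.stalk y) ∧ IsIntegrallyClosed (Y.presheaf.stalk y) := by
  have hnorm : ∀ y : Y, IsDomain (Y.presheaf.stalk y) ∧
      IsIntegrallyClosed (Y.presheaf.stalk y) := by
    intro y
    have hy : y ∈ f.smoothLocus := by
      rw [f.smoothLocus_eq_top]
      trivial
    exact (Groth.Agent.S4989.result f y hy).2.2 (hX (f y))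
  refine ⟨?_, hnorm⟩
  have hred : IsReduced Y := by
    have : ∀ y : Y, _root_.IsReduced (Y.presheaf.stalk y) := fun y => by
      have := (hnorm y).1
      infer_instance
    exact isReduced_of_isReduced_stalk Y
  have hfin : (irreducibleComponents Y).Finite :=
    finite_irreducibleComponents_of_generalizingMap f (Flat.generalizingMap f)
      (f.finite_preimage_singleton _)
  have hirr : IrreducibleSpace Y := irreducibleSpace_of_isDomain_stalks hfin fun y => (hnorm y).1
  exact isIntegral_iff_irreducibleSpace_and_isReduced Y |>.2 ⟨hirr, hred⟩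

end Groth.Agent.H4Rat
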