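import Mathlib
import Groth.Agent.Lib.helper4.FFCenter1

/-!
# Guide valuation rings and the separation lemma for charts
-/

set_option autoImplicit false
universe u

namespace Groth.Agent.H4FF

open AlgebraicGeometry CategoryTheory Limits IsLocalRing

section Algebra

variable {B : Type*} [CommRing B] [IsLocalRing B] {k : Type*} [Field k] (res : B →+* k)
  (hres : ∀ b, res b = 0 ↔ b ∈ maximalIdeal B)
  {K : Type*} [Field K] (alg : B →+* K)

include hres in
/-- A valuation ring of the field `K ⊇ B` dominating the pullback `B ×_k W` of a valuation ring `W`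
of the residue field `k` of `B`. -/
theorem exists_guide (W : ValuationSubring k) :
    ∃ Wg : ValuationSubring K, (∀ b : B, res b ∈ W → alg b ∈ Wg) ∧
      (∀ b : B, res b ∈ W.nonunits → alg b ∈ Wg.nonunits) := by
  let B'' : Subring B := W.toSubring.comap res
  let ψ : B'' →+* W := res.restrict B'' W.toSubring (fun b hb => hb)
  have hψ : IsLocalHom ψ := by
    constructor
    rintro ⟨b, hb⟩ hu
    -- res b is a unit of W
    have h1 : res b ≠ 0 := by
      intro h0
      have : (ψ ⟨b, hb⟩ : k) = 0 := h0
      have h2 : ψ ⟨b, hb⟩ = 0 := Subtype.ext this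
      rw [h2] at hu
      exact not_isUnit_zero hu
    have hbu : IsUnit b := by
      by_contra hnu
      exact h1 ((hres b).2 hnu)
    obtain ⟨u, hu'⟩ := hu
    have h3 : res (↑hbu.unit⁻¹ : B) ∈ W := by
      have h4 : res (↑hbu.unit⁻¹ : B) * res b = 1 := by
        rw [← map_mul]
        simp
      have h5 : ((↑u⁻¹ : W) : k) * res b = 1 := by
        have : (↑u⁻¹ : W) * ψ ⟨b, hb⟩ = 1 := by rw [← hu']; simp
        exact congrArg Subtype.val this
      have h6 : res (↑hbu.unit⁻¹ : B) = ((↑u⁻¹ : W) : k) := by
        have hne : res b ≠ 0 := h1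
        exact mul_right_cancel₀ hne (h4.trans h5.symm)
      rw [h6]
      exact (↑u⁻¹ : W).2
    refine IsUnit.of_mul_eq_one (⟨(↑hbu.unit⁻¹ : B), h3⟩ : B'') ?_
    apply Subtype.ext
    simp
  have hloc : IsLocalRing B'' := RingHom.domain_isLocalRing ψ
  let φ : B'' →+* K := alg.comp B''.subtype
  obtain ⟨Wg, h, hl⟩ := IsLocalRing.exists_factor_valuationRing φ
  refine ⟨Wg, fun b hb => h ⟨b, hb⟩, fun b hb => ?_⟩
  have hbW : res b ∈ W := W.nonunits_subset hb
  have h1 : ¬ IsUnit (⟨b, hbW⟩ : B'') := by
    intro hu
    have h2 : IsUnit (ψ ⟨b, hbW⟩) := hu.map ψ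
    have h3 : (ψ ⟨b, hbW⟩ : k) ∈ W.nonunits := hb
    rw [ValuationSubring.coe_mem_nonunits_iff] at h3
    exact h3 h2
  have h2 : ¬ IsUnit (φ.codRestrict Wg.toSubring h ⟨b, hbW⟩) := fun hu => h1 (hl.1 _ hu)
  have h3 : (φ.codRestrict Wg.toSubring h ⟨b, hbW⟩) ∈ maximalIdeal Wg := h2
  rw [← ValuationSubring.coe_mem_nonunits_iff] at h3
  exact h3

end Algebra

section Sep

variable {X : Scheme.{u}} [IsIntegral X]

/-- If `O ⊇ D` and `t ⊆ m_O`, then `1 ∉ span_D t`. -/
theorem not_one_mem_span {K : Type*} [Field K] (O : ValuationSubring K) (D : Subring K)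
    (hD : D ≤ O.toSubring) (t : Set K) (ht : t ⊆ O.nonunits) :
    (1 : K) ∉ Submodule.span D t := by
  intro h1
  have key : ∀ z ∈ Submodule.span D t, z ∈ O.nonunits := by
    intro z hz
    induction hz using Submodule.span_induction with
    | mem z hz => exact ht hz
    | zero => exact O.nonunits.zero_mem
    | add a b _ _ ha hb => exact O.nonunits.add_mem ha hb
    | smul d a _ ha =>
      rw [ValuationSubring.mem_nonunits_iff] at ha ⊢
      have hd : O.valuation (d : K) ≤ 1 := (O.valuation_le_one_iff _).2 (hD d.2)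
      have : d • a = (d : K) * a := rfl
      rw [this, map_mul]
      calc O.valuation (d : K) * O.valuation a ≤ 1 * O.valuation a := mul_le_mul_left hd _
        _ = O.valuation a := one_mul _
        _ < 1 := ha
  have := key 1 h1
  rw [ValuationSubring.mem_nonunits_iff, map_one] at this
  exact lt_irrefl _ this

/-- Separation lemma: if `x ∉ U` (affine open of a separated integral scheme), then
`1 ∈ m_x · Γ(U)` inside the function field. -/
theorem one_mem_span_of_notMem [X.IsSeparated] (x : X) {U : X.Opens} (hU : IsAffineOpen U)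
    (hξ : genericPoint X ∈ U) (hx : x ∉ U) :
    (1 : X.functionField) ∈ Submodule.span (X.presheaf.germ U (genericPoint X) hξ).hom.range
      ((algebraMap (X.presheaf.stalk x) X.functionField) ''
        (maximalIdeal (X.presheaf.stalk x) : Set (X.presheaf.stalk x))) := by
  have : Nonempty U := ⟨⟨_, hξ⟩⟩
  set K := X.functionField
  set B := X.presheaf.stalk x
  set D : Subring K := (X.presheaf.germ U (genericPoint X) hξ).hom.range with hD
  set N : Submodule D K := Submodule.span D
    ((algebraMap B K) '' (maximalIdeal B : Set B)) with hN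
  by_contra h1
  let Bim : Subring K := (algebraMap B K).range
  let E : Subring K := Subring.closure ((D : Set K) ∪ (Bim : Set K))
  have hBN : ∀ b : B, ∀ z ∈ N, algebraMap B K b * z ∈ N := by
    intro b z hz
    induction hz using Submodule.span_induction with
    | mem z hz =>
      obtain ⟨m, hm, rfl⟩ := hz
      rw [← map_mul]
      exact Submodule.subset_span ⟨b * m, Ideal.mul_mem_left _ b hm, rfl⟩
    | zero => rw [mul_zero]; exact N.zero_mem
    | add a c _ _ ha hc => rw [mul_add]; exact N.add_mem ha hc
    | smul d a _ ha =>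
      have : algebraMap B K b * (d • a) = d • (algebraMap B K b * a) := by
        change algebraMap B K b * ((d : K) * a) = (d : K) * (algebraMap B K b * a)
        ring
      rw [this]
      exact N.smul_mem d ha
  have hEN : ∀ e ∈ E, ∀ z ∈ N, e * z ∈ N := by
    intro e he
    induction he using Subring.closure_induction with
    | mem e he =>
      intro z hz
      rcases he with he | he
      · exact N.smul_mem ⟨e, he⟩ hz
      · obtain ⟨b, rfl⟩ := he
        exact hBN b z hz
    | zero => intro z _; rw [zero_mul]; exact N.zero_mem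
    | one => intro z hz; rw [one_mul]; exact hz
    | add a b _ _ ha hb => intro z hz; rw [add_mul]; exact N.add_mem (ha z hz) (hb z hz)
    | neg a _ ha => intro z hz; rw [neg_mul]; exact N.neg_mem (ha z hz)
    | mul a b _ _ ha hb => intro z hz; rw [mul_assoc]; exact ha _ (hb z hz)
  let I : Ideal E :=
    { carrier := {z | (z : K) ∈ N}
      add_mem' := fun {a b} ha hb => N.add_mem ha hb
      zero_mem' := N.zero_mem
      smul_mem' := fun e z hz => hEN e e.2 z hz }
  have hI : I ≠ ⊤ := by
    rw [Ideal.ne_top_iff_one]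
    exact h1
  obtain ⟨V', hEV', hIV'⟩ := Ideal.image_subset_nonunits_valuationSubring I hI
  have hdom : Dominates V' x := by
    refine ⟨fun a => hEV' (Subring.subset_closure (Or.inr ⟨a, rfl⟩)), fun a ha => ?_⟩
    rw [← ValuationSubring.mem_nonunits_iff]
    apply hIV'
    refine ⟨⟨algebraMap B K a, Subring.subset_closure (Or.inr ⟨a, rfl⟩)⟩, ?_, rfl⟩
    exact Submodule.subset_span ⟨a, ha, rfl⟩
  have hsec : ∀ s : Γ(X, U), (X.germToFunctionField U).hom s ∈ V' :=
    fun s => hEV' (Subring.subset_closure (Or.inl ⟨s, rfl⟩))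
  exact hx (mem_of_dominates_of_affine V' x hdom hU hsec)

end Sep

end Groth.Agent.H4FF
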