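import Mathlib
import Groth.Agent.Lib.helper4.FFChart1
import Groth.Agent.Lib.helper4.DvrProper5

/-!
# The core contradiction: no chart ⇒ a valuation ring of `K(X)` without centre
-/

set_option autoImplicit false
universe u

namespace Groth.Agent.H4FF

open AlgebraicGeometry CategoryTheory Limits IsLocalRing Groth.Agent.H4Dvr

variable {X Y : Scheme.{u}} [IsIntegral X]

/-- `θ : O_{Y,y₀} → K(X)` in terms of the stalk at `x`. -/
theorem theta_eq (f : X ⟶ Y) (x : X) (y₀ : Y) (hsp : f.base x ⤳ y₀)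
    (hy : f.base (genericPoint X) ⤳ y₀) (a : Y.presheaf.stalk y₀) :
    (Y.presheaf.stalkSpecializes hy ≫ f.stalkMap (genericPoint X)).hom a =
      algebraMap (X.presheaf.stalk x) X.functionField
        ((f.stalkMap x).hom ((Y.presheaf.stalkSpecializes hsp).hom a)) := by
  have h1 : Y.presheaf.stalkSpecializes hy =
      Y.presheaf.stalkSpecializes hsp ≫ Y.presheaf.stalkSpecializes
        (f.base.hom.map_specializes (genericPoint_specializes x)) :=
    (TopCat.Presheaf.stalkSpecializes_comp _ _ _).symm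
  rw [h1, Category.assoc, Scheme.Hom.stalkSpecializes_stalkMap]
  rfl

theorem algebraMap_germ (x : X) {U : X.Opens} (hxU : x ∈ U) (hξ : genericPoint X ∈ U)
    (s : Γ(X, U)) :
    algebraMap (X.presheaf.stalk x) X.functionField ((X.presheaf.germ U x hxU).hom s) =
      (X.presheaf.germ U (genericPoint X) hξ).hom s := by
  have := X.presheaf.germ_stalkSpecializes hxU (genericPoint_specializes x)
  exact congrArg (fun g => g.hom s) this

theorem genericPoint_mem {U : X.Opens} {z : X} (hz : z ∈ U) : genericPoint X ∈ U :=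
  (genericPoint_specializes z).mem_open U.isOpen hz

theorem core [X.IsSeparated] (f : X ⟶ Y) (x : X) (y₀ : Y) (hsp : f.base x ⤳ y₀)
    (W : ValuationSubring (X.residueField x))
    (hW1 : ∀ a, (toRes f x y₀ hsp).hom a ∈ W)
    (hW2 : ∀ a ∈ maximalIdeal (Y.presheaf.stalk y₀), (toRes f x y₀ hsp).hom a ∈ W.nonunits)
    (Y₀ : Y.Opens) (hx : f x ∈ Y₀)
    (ι : Type u) [Finite ι] (𝒰 : ι → X.Opens) (h𝒰 : ∀ i, IsAffineOpen (𝒰 i))
    (hcov : ∀ z : X, f z ∈ Y₀ → ∃ i, z ∈ 𝒰 i)
    (hcon : ∀ (i : ι) (hxi : x ∈ 𝒰 i), ∃ e, (toResidue x hxi).hom e ∉ W)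
    (hy : f.base (genericPoint X) ⤳ y₀) :
    ∃ (T : Set X.functionField) (Wg : ValuationSubring X.functionField), T.Finite ∧
      (∃ t ∈ T, t ≠ 0) ∧ T ⊆ Wg.nonunits ∧
      (∀ a : Y.presheaf.stalk y₀,
        (Y.presheaf.stalkSpecializes hy ≫ f.stalkMap (genericPoint X)).hom a ∈ Wg) ∧
      (∀ a ∈ maximalIdeal (Y.presheaf.stalk y₀),
        (Y.presheaf.stalkSpecializes hy ≫ f.stalkMap (genericPoint X)).hom a ∈ Wg.nonunits) ∧
      ∀ O : ValuationSubring X.functionField, T ⊆ O.nonunits →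
        ∀ z, f z ∈ Y₀ → ¬ Dominates O z := by
  classical
  set K := X.functionField
  set B := X.presheaf.stalk x
  let res : B →+* X.residueField x := (X.residue x).hom
  have hres : ∀ b, res b = 0 ↔ b ∈ maximalIdeal B := fun b => IsLocalRing.residue_eq_zero_iff b
  obtain ⟨Wg, hg1, hg2⟩ := exists_guide res hres (algebraMap B K) W
  choose e he using hcon
  -- facts on the sections `e i hxi`
  have hfact : ∀ (i : ι) (hxi : x ∈ 𝒰 i),
      (X.presheaf.germ (𝒰 i) (genericPoint X) (genericPoint_mem hxi)).hom (e i hxi) ≠ 0 ∧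
      ((X.presheaf.germ (𝒰 i) (genericPoint X) (genericPoint_mem hxi)).hom (e i hxi))⁻¹ ∈
        Wg.nonunits := by
    intro i hxi
    set b : B := (X.presheaf.germ (𝒰 i) x hxi).hom (e i hxi) with hb
    have hbres : res b ∉ W := he i hxi
    have hb0 : res b ≠ 0 := fun h0 => hbres (h0 ▸ W.zero_mem)
    have hbu : IsUnit b := by
      by_contra hnu
      exact hb0 ((hres b).2 hnu)
    have halg : algebraMap B K b =
        (X.presheaf.germ (𝒰 i) (genericPoint X) (genericPoint_mem hxi)).hom (e i hxi) :=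
      algebraMap_germ x hxi _ _
    rw [← halg]
    have hne : algebraMap B K b ≠ 0 := (hbu.map (algebraMap B K)).ne_zero
    refine ⟨hne, ?_⟩
    have h1 : res (↑hbu.unit⁻¹ : B) = (res b)⁻¹ := by
      have h4 : res (↑hbu.unit⁻¹ : B) * res b = 1 := by
        rw [← map_mul]
        simp
      exact eq_inv_of_mul_eq_one_left h4
    have h2 : algebraMap B K (↑hbu.unit⁻¹ : B) = (algebraMap B K b)⁻¹ := by
      have h4 : algebraMap B K (↑hbu.unit⁻¹ : B) * algebraMap B K b = 1 := by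
        rw [← map_mul]
        simp
      exact eq_inv_of_mul_eq_one_left h4
    rw [← h2]
    apply hg2
    rw [h1, ValuationSubring.inv_mem_nonunits_iff]
    exact Or.inr hbres
  -- the finite sets for the charts not containing `x`
  have hsets : ∀ j : ι, ∃ t : Finset K,
      (↑t ⊆ (algebraMap B K) '' (maximalIdeal B : Set B)) ∧
      ∀ (hξ : genericPoint X ∈ 𝒰 j), x ∉ 𝒰 j →
        (1 : K) ∈ Submodule.span (X.presheaf.germ (𝒰 j) (genericPoint X) hξ).hom.range
          (t : Set K) := by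
    intro j
    by_cases hc : genericPoint X ∈ 𝒰 j ∧ x ∉ 𝒰 j
    · obtain ⟨t, ht1, ht2⟩ := Submodule.mem_span_finite_of_mem_span
        (one_mem_span_of_notMem x (h𝒰 j) hc.1 hc.2)
      exact ⟨t, ht1, fun _ _ => ht2⟩
    · refine ⟨∅, by simp, fun hξ hxj => (hc ⟨hξ, hxj⟩).elim⟩
  choose t ht1 ht2 using hsets
  let T₁ : Set K := {s | ∃ (i : ι) (hxi : x ∈ 𝒰 i),
    s = ((X.presheaf.germ (𝒰 i) (genericPoint X) (genericPoint_mem hxi)).hom (e i hxi))⁻¹}
  let T₂ : Set K := ⋃ j, (t j : Set K)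
  have hT₁fin : T₁.Finite := by
    apply (Set.finite_range (fun i : ι =>
      if h : x ∈ 𝒰 i then
        ((X.presheaf.germ (𝒰 i) (genericPoint X) (genericPoint_mem h)).hom (e i h))⁻¹
      else 0)).subset
    rintro s ⟨i, hxi, rfl⟩
    exact ⟨i, by simp [hxi]⟩
  have hT₂fin : T₂.Finite := Set.finite_iUnion (fun j => (t j).finite_toSet)
  refine ⟨T₁ ∪ T₂, Wg, hT₁fin.union hT₂fin, ?_, ?_, ?_, ?_, ?_⟩
  · obtain ⟨i, hxi⟩ := hcov x hx
    exact ⟨_, Or.inl ⟨i, hxi, rfl⟩, inv_ne_zero (hfact i hxi).1⟩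
  · rintro s (⟨i, hxi, rfl⟩ | hs)
    · exact (hfact i hxi).2
    · obtain ⟨j, hj⟩ := Set.mem_iUnion.1 hs
      obtain ⟨m, hm, rfl⟩ := ht1 j hj
      apply hg2
      have : res m = 0 := (hres m).2 hm
      rw [this]
      exact W.nonunits.zero_mem
  · intro a
    rw [theta_eq f x y₀ hsp hy a]
    exact hg1 _ (hW1 a)
  · intro a ha
    rw [theta_eq f x y₀ hsp hy a]
    exact hg2 _ (hW2 a ha)
  · intro O hTO z hz hdom
    obtain ⟨j, hzj⟩ := hcov z hz
    have hξ : genericPoint X ∈ 𝒰 j := genericPoint_mem hzj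
    have hsec : ∀ s : Γ(X, 𝒰 j), (X.presheaf.germ (𝒰 j) (genericPoint X) hξ).hom s ∈ O := by
      intro s
      rw [← algebraMap_germ z hzj hξ s]
      exact hdom.1 _
    by_cases hxj : x ∈ 𝒰 j
    · have h1 := hTO (Or.inl ⟨j, hxj, rfl⟩)
      rw [SetLike.mem_coe, ValuationSubring.inv_mem_nonunits_iff] at h1
      rcases h1 with h1 | h1
      · exact (hfact j hxj).1 h1
      · exact h1 (hsec _)
    · have h1 := ht2 j hξ hxj
      refine not_one_mem_span O _ ?_ (t j : Set K) ?_ h1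
      · rintro _ ⟨s, rfl⟩
        exact hsec s
      · intro s hs
        exact hTO (Or.inr (Set.mem_iUnion.2 ⟨j, hs⟩))

end Groth.Agent.H4FF
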