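import Mathlib
import Groth.Agent.Lib.helper4.FFChart2

/-!
# Properness from centres of (discrete) valuation rings of the function field
-/

set_option autoImplicit false
universe u

namespace Groth.Agent.H4FF

open AlgebraicGeometry CategoryTheory Limits IsLocalRing Groth.Agent.H4Dvr

variable {X Y : Scheme.{u}} [IsIntegral X]

theorem chartProp_of_dvr_centers [X.IsSeparated] [Y.IsSeparated] [IsLocallyNoetherian Y]
    (f : X ⟶ Y) [LocallyOfFiniteType f]
    (h : ∀ (R : ValuationSubring X.functionField), IsDiscreteValuationRing R →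
      ∀ (y : Y) (hy : f.base (genericPoint X) ⤳ y), DominatesBase f R y hy →
        ∃ x : X, Dominates R x) : ChartProp f := by
  intro x y₀ hsp W hW1 hW2 Y₀ hY₀ hy₀ ι _ 𝒰 h𝒰 hle hcov
  by_contra hcon
  push Not at hcon
  have hy : f.base (genericPoint X) ⤳ y₀ :=
    (f.base.hom.map_specializes (genericPoint_specializes x)).trans hsp
  have hx : f x ∈ Y₀ := hsp.mem_open Y₀.isOpen hy₀
  obtain ⟨T, Wg, hTfin, hT0, hTW, hθ1, hθ2, hno⟩ :=
    core f x y₀ hsp W hW1 hW2 Y₀ hx ι 𝒰 h𝒰 hcov hcon hy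
  let θ : Y.presheaf.stalk y₀ →+* X.functionField :=
    (Y.presheaf.stalkSpecializes hy ≫ f.stalkMap (genericPoint X)).hom
  let R : Subring X.functionField := θ.range
  have hRnoeth : IsNoetherianRing R :=
    isNoetherianRing_of_surjective _ _ θ.rangeRestrict θ.rangeRestrict_surjective
  have hRW : R ≤ Wg.toSubring := by
    rintro _ ⟨a, rfl⟩
    exact hθ1 a
  obtain ⟨s, hs⟩ := (isNoetherianRing_iff_ideal_fg (Y.presheaf.stalk y₀)).1 inferInstance
    (maximalIdeal (Y.presheaf.stalk y₀))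
  have hsm : ∀ a ∈ s, a ∈ maximalIdeal (Y.presheaf.stalk y₀) := by
    intro a ha
    rw [← hs]
    exact Ideal.subset_span ha
  let T' : Set X.functionField := T ∪ θ '' (s : Set (Y.presheaf.stalk y₀))
  have hT'fin : T'.Finite := hTfin.union (s.finite_toSet.image θ)
  have hT'W : T' ⊆ Wg.nonunits := by
    rintro t (ht | ⟨a, ha, rfl⟩)
    · exact hTW ht
    · exact hθ2 a (hsm a ha)
  have hT'0 : ∃ t ∈ T', t ≠ 0 := by
    obtain ⟨t, ht, ht0⟩ := hT0
    exact ⟨t, Or.inl ht, ht0⟩
  obtain ⟨S, hS⟩ := closure_eq_top_of_essFiniteType θ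
    (essFiniteType_stalkSpecializes_comp f (genericPoint X) y₀ hy) (RingHom.id X.functionField)
    Function.surjective_id
  have hcl : Subfield.closure ((R : Set X.functionField) ∪ S) = ⊤ := by
    rw [← hS]
    rfl
  obtain ⟨O, hO, hRO, hTO⟩ := exists_dvr_of_finite_nonunits R Wg hRW T' hT'fin hT'W hT'0 S hcl
  have hdomB : DominatesBase f O y₀ hy := by
    refine ⟨fun a => hRO ⟨a, rfl⟩, fun a ha => ?_⟩
    rw [← ValuationSubring.mem_nonunits_iff]
    rw [← hs] at ha
    change θ a ∈ O.nonunits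
    induction ha using Submodule.span_induction with
    | mem a ha => exact hTO (Or.inr ⟨a, ha, rfl⟩)
    | zero => rw [map_zero]; exact O.nonunits.zero_mem
    | add a b _ _ ha hb => rw [map_add]; exact O.nonunits.add_mem ha hb
    | smul r a _ ha =>
      rw [smul_eq_mul, map_mul]
      rw [ValuationSubring.mem_nonunits_iff] at ha ⊢
      have hd : O.valuation (θ r) ≤ 1 := (O.valuation_le_one_iff _).2 (hRO ⟨r, rfl⟩)
      rw [map_mul]
      calc O.valuation (θ r) * O.valuation (θ a) ≤ 1 * O.valuation (θ a) := mul_le_mul_left hd _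
        _ = O.valuation (θ a) := one_mul _
        _ < 1 := ha
  obtain ⟨z, hz⟩ := h O hO y₀ hy hdomB
  have hfz : f z = y₀ := dominatesBase_unique f O (f z) y₀ _ hy
    (dominatesBase_of_dominates f O z hz) hdomB
  exact hno O (fun t ht => hTO (Or.inl ht)) z (hfz ▸ hy₀) hz

theorem chartProp_of_val_centers [X.IsSeparated] [Y.IsSeparated] (f : X ⟶ Y)
    (h : ∀ (R : ValuationSubring X.functionField), R ≠ ⊤ →
      ∀ (y : Y) (hy : f.base (genericPoint X) ⤳ y), DominatesBase f R y hy →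
        ∃ x : X, Dominates R x) : ChartProp f := by
  intro x y₀ hsp W hW1 hW2 Y₀ hY₀ hy₀ ι _ 𝒰 h𝒰 hle hcov
  by_contra hcon
  push Not at hcon
  have hy : f.base (genericPoint X) ⤳ y₀ :=
    (f.base.hom.map_specializes (genericPoint_specializes x)).trans hsp
  have hx : f x ∈ Y₀ := hsp.mem_open Y₀.isOpen hy₀
  obtain ⟨T, Wg, hTfin, hT0, hTW, hθ1, hθ2, hno⟩ :=
    core f x y₀ hsp W hW1 hW2 Y₀ hx ι 𝒰 h𝒰 hcov hcon hy
  have hne : Wg ≠ ⊤ := by
    rintro rfl
    obtain ⟨t, ht, ht0⟩ := hT0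
    have := hTW ht
    rw [SetLike.mem_coe, ValuationSubring.mem_nonunits_iff_or] at this
    rcases this with h0 | h1
    · exact ht0 h0
    · exact h1 trivial
  have hdomB : DominatesBase f Wg y₀ hy := by
    refine ⟨hθ1, fun a ha => ?_⟩
    rw [← ValuationSubring.mem_nonunits_iff]
    exact hθ2 a ha
  obtain ⟨z, hz⟩ := h Wg hne y₀ hy hdomB
  have hfz : f z = y₀ := dominatesBase_unique f Wg (f z) y₀ _ hy
    (dominatesBase_of_dominates f Wg z hz) hdomB
  exact hno Wg hTW z (hfz ▸ hy₀) hz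

end Groth.Agent.H4FF
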