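import Mathlib
import Groth.Agent.Lib.helper1.FpqcDescent
import Groth.Agent.Lib.helper15.FlatSrc

/-!
# fpqc descent of finite locally free morphisms (helper4)
-/

set_option autoImplicit false
universe u
open CategoryTheory CategoryTheory.Limits AlgebraicGeometry MorphismProperty

namespace H4FLF

theorem descends {A X Y Z : Scheme.{u}} {fst : A ⟶ X} {snd : A ⟶ Y} {f : X ⟶ Z} {g : Y ⟶ Z}
    (H : IsPullback fst snd f g)
    (hf : (@Surjective ⊓ @Flat ⊓ @QuasiCompact : MorphismProperty Scheme.{u}) f)
    (h1 : IsFinite fst) (h2 : Flat fst) (h3 : LocallyOfFinitePresentation fst) :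
    IsFinite g ∧ Flat g ∧ LocallyOfFinitePresentation g := by
  have := Groth.Agent.Lib.helper1.isFinite_descendsAlong.{u}
  refine ⟨MorphismProperty.of_isPullback_of_descendsAlong (P := @IsFinite) H hf h1,
    MorphismProperty.of_isPullback_of_descendsAlong (P := @Flat) H hf h2,
    MorphismProperty.of_isPullback_of_descendsAlong (P := @LocallyOfFinitePresentation) H hf h3⟩

theorem finrank_descends {A X Y Z : Scheme.{u}} {fst : A ⟶ X} {snd : A ⟶ Y} {f : X ⟶ Z}
    {g : Y ⟶ Z} (H : IsPullback fst snd f g) [Surjective f] [IsFinite g] [Flat g] (d : ℕ)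
    (hd : ∀ x : X, fst.finrank x = d) (z : Z) : g.finrank z = d := by
  obtain ⟨x, rfl⟩ := f.surjective z
  rw [← Scheme.Hom.finrank_of_isPullback snd fst g f H.flip x]
  exact hd x

end H4FLF
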