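import Mathlib

/-!
# A local form of Zariski's main theorem

A local ring `B`, essentially of finite type and quasi-finite over a normal local domain `A`, which
maps to the fraction field of `A` compatibly, maps into `A`.
-/

set_option autoImplicit false
universe u

namespace Groth.Agent.H4ZMT

open IsLocalRing

section

variable {A B K : Type*} [CommRing A] [IsDomain A] [IsLocalRing A] [IsIntegrallyClosed A]
  [CommRing B] [IsLocalRing B] [Algebra A B] [Field K] [Algebra A K] [IsFractionRing A K]
  [IsLocalHom (algebraMap A B)] (τ : B →ₐ[A] K)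

omit [IsDomain A] [IsLocalRing A] [IsIntegrallyClosed A] [IsFractionRing A K] in
/-- An element of `B` whose image in `K` comes from `a : A` is a unit iff `a` is. -/
theorem isUnit_iff_of_eq (b : B) (a : A) (h : τ b = algebraMap A K a) : IsUnit b ↔ IsUnit a := by
  have hker : b - algebraMap A B a ∈ maximalIdeal B := by
    rw [mem_maximalIdeal, mem_nonunits_iff]
    intro hu
    have h0 : τ (b - algebraMap A B a) = 0 := by
      rw [map_sub, h, AlgHom.commutes, sub_self]
    have := hu.map τ
    rw [h0] at this
    exact not_isUnit_zero this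
  constructor
  · intro hb
    by_contra ha
    have ha' : algebraMap A B a ∈ maximalIdeal B := by
      rw [mem_maximalIdeal, mem_nonunits_iff]
      intro hu
      exact ha (isUnit_of_map_unit (algebraMap A B) a hu)
    have : b ∈ maximalIdeal B := by
      have := (maximalIdeal B).add_mem hker ha'
      rwa [sub_add_cancel] at this
    exact this hb
  · intro ha
    by_contra hb
    have hb' : b ∈ maximalIdeal B := hb
    have : algebraMap A B a ∈ maximalIdeal B := by
      have := (maximalIdeal B).sub_mem hb' hker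
      rwa [sub_sub_cancel] at this
    exact this (ha.map (algebraMap A B))

omit [IsDomain A] [IsLocalRing A] [IsLocalRing B] [IsLocalHom (algebraMap A B)] in
theorem exists_of_isIntegral (b : B) (hb : IsIntegral A b) : ∃ a : A, τ b = algebraMap A K a := by
  obtain ⟨a, ha⟩ := IsIntegrallyClosed.isIntegral_iff.1 (hb.map τ)
  exact ⟨a, ha.symm⟩

variable [Algebra.EssFiniteType A B] [Algebra.QuasiFinite A B]

omit [IsDomain A] [IsLocalRing A] in
/-- **Local Zariski main theorem**. -/
theorem exists_eq_algebraMap (b : B) : ∃ a : A, τ b = algebraMap A K a := by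
  classical
  let C := Algebra.EssFiniteType.subalgebra A B
  let M := Algebra.EssFiniteType.submonoid A B
  let 𝔮 : Ideal C := (maximalIdeal B).comap (algebraMap C B)
  have h𝔮 : 𝔮.IsPrime := Ideal.comap_isPrime _ _
  have hM : M = 𝔮.primeCompl := by
    ext c
    change IsUnit (algebraMap C B c) ↔ ¬ (algebraMap C B c ∈ maximalIdeal B)
    rw [mem_maximalIdeal, mem_nonunits_iff, not_not]
  have hloc : IsLocalization 𝔮.primeCompl B := by
    rw [← hM]
    exact Algebra.EssFiniteType.isLocalization A B
  -- `C` is quasi-finite over `A` at `𝔮`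
  have hqf : Algebra.QuasiFiniteAt A 𝔮 := by
    let e : B ≃ₐ[C] Localization.AtPrime 𝔮 := IsLocalization.algEquiv 𝔮.primeCompl B _
    exact (Algebra.QuasiFinite.iff_of_algEquiv (e.restrictScalars A)).1 inferInstance
  obtain ⟨r, hr𝔮, hrint, hr⟩ := Algebra.zariskisMainProperty_iff.1
    (Algebra.ZariskisMainProperty.of_finiteType (R := A) 𝔮)
  -- the image of `r`
  have hrint' : IsIntegral A (r : B) := hrint.map (C.val)
  obtain ⟨ar, har⟩ := exists_of_isIntegral τ (r : B) hrint'
  have hru : IsUnit (r : B) := by
    by_contra h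
    exact hr𝔮 h
  have haru : IsUnit ar := (isUnit_iff_of_eq τ _ _ har).1 hru
  -- elements of `C`
  have hC : ∀ c : C, ∃ a : A, τ (c : B) = algebraMap A K a := by
    intro c
    obtain ⟨m, hm⟩ := hr c
    have hm' : IsIntegral A ((r : B) ^ m * (c : B)) := by
      have := hm.map (C.val)
      simpa using this
    obtain ⟨a', ha'⟩ := exists_of_isIntegral τ _ hm'
    obtain ⟨u, hu⟩ := haru
    refine ⟨(↑(u⁻¹ ^ m) : A) * a', ?_⟩
    rw [map_mul, ← ha', map_mul, map_pow, har, ← hu, ← mul_assoc, ← map_pow, ← map_mul,
      ← Units.val_pow_eq_pow_val, ← Units.val_mul, ← mul_pow, inv_mul_cancel, one_pow,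
      Units.val_one, map_one, one_mul]
  -- general elements
  obtain ⟨⟨c, m⟩, hcm⟩ := IsLocalization.surj 𝔮.primeCompl b
  obtain ⟨ac, hac⟩ := hC c
  obtain ⟨am, ham⟩ := hC m
  have hmu : IsUnit ((m : C) : B) := by
    by_contra h
    exact m.2 h
  have hamu : IsUnit am := (isUnit_iff_of_eq τ _ _ ham).1 hmu
  obtain ⟨u, hu⟩ := hamu
  refine ⟨ac * (↑(u⁻¹) : A), ?_⟩
  have h1 : τ b * τ ((m : C) : B) = τ (c : B) := by
    rw [← map_mul]
    exact congrArg τ hcm
  rw [ham, hac, ← hu] at h1
  rw [map_mul, ← h1, mul_assoc, ← map_mul, ← Units.val_mul, mul_inv_cancel, Units.val_one,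
    map_one, mul_one]

end

end Groth.Agent.H4ZMT
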