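import Mathlib
import Groth.Agent.Lib.helper4.ZMT1

/-!
# A flat local algebra contained in the fraction field is trivial
-/

set_option autoImplicit false
universe u

namespace Groth.Agent.H4ZMT

open IsLocalRing

/-- If `B` is a flat local `A`-algebra (local homomorphism) and `τ : B → Frac A` is an injective
`A`-algebra map, then the image of `τ` is `A`. -/
theorem exists_eq_algebraMap_of_flat {A B K : Type*} [CommRing A] [IsDomain A] [IsLocalRing A]
    [CommRing B] [IsLocalRing B] [Algebra A B] [Field K] [Algebra A K] [IsFractionRing A K]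
    [IsLocalHom (algebraMap A B)] [Module.Flat A B] (τ : B →ₐ[A] K)
    (hτ : Function.Injective τ) (b : B) : ∃ a : A, τ b = algebraMap A K a := by
  have hff : Module.FaithfullyFlat A B := Module.FaithfullyFlat.of_flat_of_isLocalHom
  obtain ⟨a₁, a₂, ha₂, h⟩ := IsFractionRing.div_surjective (A := A) (τ b)
  have ha₂0 : a₂ ≠ 0 := nonZeroDivisors.ne_zero ha₂
  have hK0 : algebraMap A K a₂ ≠ 0 := by
    rw [Ne, map_eq_zero_iff _ (IsFractionRing.injective A K)]
    exact ha₂0
  have h1 : τ (algebraMap A B a₂ * b) = τ (algebraMap A B a₁) := by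
    rw [map_mul, AlgHom.commutes, AlgHom.commutes, ← h, mul_div_cancel₀ _ hK0]
  have h2 : algebraMap A B a₂ * b = algebraMap A B a₁ := hτ h1
  have h4 : a₁ ∈ ((Ideal.span {a₂} : Ideal A).map (algebraMap A B)).comap (algebraMap A B) := by
    rw [Ideal.mem_comap, Ideal.map_span, Set.image_singleton, Ideal.mem_span_singleton]
    exact ⟨b, h2.symm⟩
  rw [Ideal.comap_map_eq_self_of_faithfullyFlat, Ideal.mem_span_singleton] at h4
  obtain ⟨a, rfl⟩ := h4
  refine ⟨a, ?_⟩
  rw [← h, map_mul, mul_div_cancel_left₀ _ hK0]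

end Groth.Agent.H4ZMT
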