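import Mathlib

/-!
# Topological lemmas on irreducible components used for flat unramified morphisms
-/

set_option autoImplicit false
universe u

namespace Groth.Agent.H4FU

open TopologicalSpace

section Top

variable {α β : Type*} [TopologicalSpace α] [TopologicalSpace β]

/-- A generization of the generic point of an irreducible component is that generic point. -/
theorem eq_of_specializes_of_closure_mem_irreducibleComponents [T0Space α] {ξ ξ' : α}
    (hξ : closure {ξ} ∈ irreducibleComponents α) (h : ξ' ⤳ ξ) : ξ' = ξ := by
  have h2 : closure {ξ} ⊆ closure {ξ'} :=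
    closure_minimal (Set.singleton_subset_iff.2 (specializes_iff_mem_closure.1 h))
      isClosed_closure
  have h3 : closure {ξ} = closure {ξ'} := hξ.eq_of_subset isIrreducible_singleton.closure h2
  have hg : IsGenericPoint ξ (closure {ξ'}) := h3
  exact (hg.eq (rfl : IsGenericPoint ξ' (closure {ξ'}))).symm

/-- The set of generic points of irreducible components is finite when there are finitely many
irreducible components. -/
theorem finite_generic_points [T0Space β] (hβ : (irreducibleComponents β).Finite) :
    {η : β | closure {η} ∈ irreducibleComponents β}.Finite := by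
  have hinj : Set.InjOn (fun η : β => closure {η}) {η : β | closure {η} ∈ irreducibleComponents β} := by
    intro η _ η' _ h
    have hg : IsGenericPoint η (closure {η'}) := h
    exact hg.eq (rfl : IsGenericPoint η' (closure {η'}))
  exact Set.Finite.of_finite_image (hβ.subset (by rintro _ ⟨η, hη, rfl⟩; exact hη)) hinj

/-- A generalizing map with finite fibres onto a space with finitely many irreducible components
has a source with finitely many irreducible components. -/
theorem finite_irreducibleComponents_of_generalizingMap [QuasiSober α] [T0Space α] [QuasiSober β]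
    [T0Space β] (f : α → β) (hgen : GeneralizingMap f) (hfib : ∀ y, (f ⁻¹' {y}).Finite)
    (hβ : (irreducibleComponents β).Finite) : (irreducibleComponents α).Finite := by
  set G : Set β := {η : β | closure {η} ∈ irreducibleComponents β} with hG
  have hGfin : G.Finite := finite_generic_points hβ
  have hpre : (f ⁻¹' G).Finite := hGfin.preimage' fun b _ => hfib b
  have hex : ∀ Z : irreducibleComponents α, ∃ ξ : α, IsGenericPoint ξ Z.1 := fun Z =>
    QuasiSober.sober Z.2.1 (isClosed_of_mem_irreducibleComponents Z.1 Z.2)
  choose g hg using hex
  have hmem : ∀ Z : irreducibleComponents α, g Z ∈ f ⁻¹' G := by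
    intro Z
    have hZ : closure {g Z} ∈ irreducibleComponents α := by
      rw [(hg Z).def]
      exact Z.2
    obtain ⟨η, hη⟩ := QuasiSober.sober (isIrreducible_irreducibleComponent (x := f (g Z)))
      isClosed_irreducibleComponent
    have h1 : η ⤳ f (g Z) := by
      rw [specializes_iff_mem_closure, hη.def]
      exact mem_irreducibleComponent
    obtain ⟨ξ', hξ', hfξ'⟩ := hgen h1
    have : ξ' = g Z := eq_of_specializes_of_closure_mem_irreducibleComponents hZ hξ'
    change closure {f (g Z)} ∈ irreducibleComponents β
    rw [← this, hfξ', hη.def]
    exact irreducibleComponent_mem_irreducibleComponents _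
  have hinj : Function.Injective (fun Z : irreducibleComponents α =>
      (⟨g Z, hmem Z⟩ : f ⁻¹' G)) := by
    intro Z Z' h
    have h' : g Z = g Z' := congrArg Subtype.val h
    apply Subtype.ext
    rw [← (hg Z).def, ← (hg Z').def, h']
  have := hpre.to_subtype
  exact Set.finite_coe_iff.1 (Finite.of_injective _ hinj)

/-- In a quasi-sober space with finitely many irreducible components, a closed subset stable
under generization is open. -/
theorem isOpen_of_isClosed_of_stableUnderGeneralization [QuasiSober α]
    (hα : (irreducibleComponents α).Finite) {Z : Set α} (hcl : IsClosed Z)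
    (hgen : StableUnderGeneralization Z) : IsOpen Z := by
  let 𝒯 : Set (Set α) := {C | C ∈ irreducibleComponents α ∧ ¬ C ⊆ Z}
  have h𝒯fin : 𝒯.Finite := hα.subset fun C hC => hC.1
  have hTcl : IsClosed (⋃₀ 𝒯) := by
    rw [Set.sUnion_eq_biUnion]
    exact h𝒯fin.isClosed_biUnion fun C hC => isClosed_of_mem_irreducibleComponents C hC.1
  have hcompl : Z = (⋃₀ 𝒯)ᶜ := by
    ext x
    constructor
    · rintro hx ⟨C, ⟨hC, hCZ⟩, hxC⟩
      obtain ⟨η, hη⟩ := QuasiSober.sober hC.1 (isClosed_of_mem_irreducibleComponents C hC)
      have h1 : η ⤳ x := by
        rw [specializes_iff_mem_closure, hη.def]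
        exact hxC
      have h2 : η ∈ Z := hgen h1 hx
      apply hCZ
      rw [← hη.def]
      exact closure_minimal (Set.singleton_subset_iff.2 h2) hcl
    · intro hx
      by_contra hxZ
      exact hx ⟨irreducibleComponent x, ⟨irreducibleComponent_mem_irreducibleComponents x,
        fun h => hxZ (h mem_irreducibleComponent)⟩, mem_irreducibleComponent⟩
  rw [hcompl]
  exact hTcl.isOpen_compl

end Top

end Groth.Agent.H4FU
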