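import Mathlib

/-!
# Generic finiteness: the algebraic lemma (Stacks 02ML)

A finite type algebra with finitely many primes over a minimal prime `𝔭` of the base becomes
integral (hence finite) after inverting some `g ∉ 𝔭`.
-/

set_option autoImplicit false
universe u

namespace Groth.Agent.H4GF

open Polynomial

section Nil

variable {R S : Type*} [CommRing R] [CommRing S] [Algebra R S]

/-- If `I` is a nil ideal and `x` is integral modulo `I`, then `x` is integral. -/
theorem isIntegral_of_isIntegral_quotient_of_nil (I : Ideal S) (hI : I ≤ nilradical S) (x : S)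
    (hx : IsIntegral R (Ideal.Quotient.mk I x)) : IsIntegral R x := by
  obtain ⟨P, hPm, hP⟩ := hx
  have h1 : Ideal.Quotient.mk I (Polynomial.eval₂ (algebraMap R S) x P) = 0 := by
    rw [Polynomial.hom_eval₂]
    exact hP
  have h2 : Polynomial.eval₂ (algebraMap R S) x P ∈ I := Ideal.Quotient.eq_zero_iff_mem.1 h1
  obtain ⟨n, hn⟩ := hI h2
  exact ⟨P ^ n, hPm.pow n, by rw [Polynomial.eval₂_pow, hn]⟩

end Nil

section Main

variable {R S : Type u} [CommRing R] [CommRing S] [Algebra R S]

/-- Over the localization at a minimal prime, a finite type algebra with finite fibre over that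
prime is integral. -/
theorem isIntegral_localization_of_minimal [Algebra.FiniteType R S] (𝔭 : Ideal R) [𝔭.IsPrime]
    (hmin : 𝔭 ∈ minimalPrimes R)
    (hfin : (PrimeSpectrum.comap (algebraMap R S) ⁻¹' {⟨𝔭, inferInstance⟩}).Finite) :
    Algebra.IsIntegral (Localization.AtPrime 𝔭)
      (Localization (Algebra.algebraMapSubmonoid S 𝔭.primeCompl)) := by
  set Rp := Localization.AtPrime 𝔭 with hRp
  set Sp := Localization (Algebra.algebraMapSubmonoid S 𝔭.primeCompl) with hSp
  have hft : Algebra.FiniteType Rp Sp := by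
    have : Algebra.IsPushout R Rp S Sp :=
      .symm <| Algebra.isPushout_of_isLocalization 𝔭.primeCompl _ _ _
    exact Algebra.FiniteType.equiv inferInstance (Algebra.IsPushout.equiv R Rp S Sp)
  have hsub : Subsingleton (PrimeSpectrum Rp) :=
    IsLocalization.subsingleton_primeSpectrum_of_mem_minimalPrimes 𝔭 hmin Rp
  -- the spectrum of `Sp` is finite
  have hfinSp : Finite (PrimeSpectrum Sp) := by
    have hinj : Function.Injective (PrimeSpectrum.comap (algebraMap S Sp)) :=
      PrimeSpectrum.localization_comap_injective Sp (Algebra.algebraMapSubmonoid S 𝔭.primeCompl)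
    have hmem : ∀ q : PrimeSpectrum Sp, PrimeSpectrum.comap (algebraMap S Sp) q ∈
        PrimeSpectrum.comap (algebraMap R S) ⁻¹' {⟨𝔭, inferInstance⟩} := by
      intro q
      have h1 : PrimeSpectrum.comap (algebraMap Rp Sp) q = IsLocalRing.closedPoint Rp :=
        Subsingleton.elim _ _
      change PrimeSpectrum.comap (algebraMap R S) (PrimeSpectrum.comap (algebraMap S Sp) q) = _
      rw [← PrimeSpectrum.comap_comp_apply, ← IsScalarTower.algebraMap_eq,
        IsScalarTower.algebraMap_eq R Rp Sp, PrimeSpectrum.comap_comp_apply, h1]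
      ext1
      exact IsLocalization.AtPrime.under_maximalIdeal Rp 𝔭
    have := hfin.to_subtype
    exact Finite.of_injective (fun q => (⟨_, hmem q⟩ :
      PrimeSpectrum.comap (algebraMap R S) ⁻¹' {⟨𝔭, inferInstance⟩}))
      (fun q q' h => hinj (congrArg Subtype.val h))
  have hqf : Algebra.QuasiFinite Rp Sp :=
    Algebra.QuasiFinite.iff_finite_comap_preimage_singleton.2 fun x => Set.toFinite _
  set 𝔪 := IsLocalRing.maximalIdeal Rp with h𝔪
  let _ : Field (Rp ⧸ 𝔪) := Ideal.Quotient.field 𝔪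
  set Q := Sp ⧸ 𝔪.map (algebraMap Rp Sp) with hQ
  have h1 : Algebra.QuasiFinite Rp Q := inferInstance
  have h2 : Algebra.QuasiFinite (Rp ⧸ 𝔪) Q := Algebra.QuasiFinite.of_restrictScalars Rp (Rp ⧸ 𝔪) Q
  have h3 : Module.Finite (Rp ⧸ 𝔪) Q := Module.Finite.of_quasiFinite
  have h4 : Algebra.IsIntegral (Rp ⧸ 𝔪) Q := inferInstance
  have h5 : Algebra.IsIntegral Rp (Rp ⧸ 𝔪) :=
    Algebra.IsIntegral.of_surjective (Ideal.Quotient.mkₐ Rp 𝔪) (Ideal.Quotient.mkₐ_surjective Rp 𝔪)
  have h6 : Algebra.IsIntegral Rp Q := Algebra.IsIntegral.trans (Rp ⧸ 𝔪)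
  -- the maximal ideal is nil
  have hnil : 𝔪.map (algebraMap Rp Sp) ≤ nilradical Sp := by
    rw [Ideal.map_le_iff_le_comap]
    intro x hx
    have hx' : x ∈ nilradical Rp := by
      rw [nilradical_eq_sInf, Ideal.mem_sInf]
      intro P hP
      have : (⟨P, hP⟩ : PrimeSpectrum Rp) = IsLocalRing.closedPoint Rp := Subsingleton.elim _ _
      have h7 : P = 𝔪 := congrArg PrimeSpectrum.asIdeal this
      rw [h7]
      exact hx
    exact (mem_nilradical.1 hx').map (algebraMap Rp Sp)
  refine ⟨fun x => ?_⟩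
  exact isIntegral_of_isIntegral_quotient_of_nil _ hnil x (h6.isIntegral _)

/-- Every element becomes integral after multiplying by an element outside the minimal prime. -/
theorem exists_isIntegral_smul_of_minimal [Algebra.FiniteType R S] (𝔭 : Ideal R) [𝔭.IsPrime]
    (hmin : 𝔭 ∈ minimalPrimes R)
    (hfin : (PrimeSpectrum.comap (algebraMap R S) ⁻¹' {⟨𝔭, inferInstance⟩}).Finite) (x : S) :
    ∃ g : R, g ∉ 𝔭 ∧ IsIntegral R (g • x) := by
  have hint := isIntegral_localization_of_minimal 𝔭 hmin hfin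
  set Rp := Localization.AtPrime 𝔭 with hRp
  set Sp := Localization (Algebra.algebraMapSubmonoid S 𝔭.primeCompl) with hSp
  have h1 : IsIntegral Rp (algebraMap S Sp x) := hint.isIntegral _
  obtain ⟨m, hm⟩ := IsIntegral.exists_multiple_integral_of_isLocalization 𝔭.primeCompl
    (algebraMap S Sp x) h1
  have h2 : IsIntegral R (algebraMap S Sp ((m : R) • x)) := by
    have heq : algebraMap S Sp ((m : R) • x) = m • algebraMap S Sp x := by
      rw [Submonoid.smul_def, Algebra.smul_def, Algebra.smul_def, map_mul,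
        ← IsScalarTower.algebraMap_apply]
    rw [heq]
    exact hm
  obtain ⟨m', hm', h3⟩ := IsLocalization.exists_isIntegral_smul_of_isIntegral_map
    (Sₘ := Sp) 𝔭.primeCompl h2
  exact ⟨m' * m, 𝔭.primeCompl.mul_mem hm' m.2, by rw [mul_smul]; exact h3⟩

/-- Uniform version: a single `g ∉ 𝔭` such that every element becomes integral after
multiplication by a power of `g`. -/
theorem exists_forall_isIntegral_pow_smul_of_minimal [Algebra.FiniteType R S] (𝔭 : Ideal R)
    [𝔭.IsPrime] (hmin : 𝔭 ∈ minimalPrimes R)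
    (hfin : (PrimeSpectrum.comap (algebraMap R S) ⁻¹' {⟨𝔭, inferInstance⟩}).Finite) :
    ∃ g : R, g ∉ 𝔭 ∧ ∀ x : S, ∃ n : ℕ, IsIntegral R (g ^ n • x) := by
  classical
  obtain ⟨s, hs⟩ := (Algebra.FiniteType.out : (⊤ : Subalgebra R S).FG)
  choose g hg hgint using fun x => exists_isIntegral_smul_of_minimal 𝔭 hmin hfin x
  refine ⟨∏ x ∈ s, g x, ?_, ?_⟩
  · intro h
    obtain ⟨x, _, hx⟩ := (Ideal.IsPrime.prod_mem_iff).1 h
    exact hg x hx
  · intro x
    have hx : x ∈ Algebra.adjoin R (s : Set S) := by rw [hs]; trivial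
    induction hx using Algebra.adjoin_induction with
    | mem x hx =>
      refine ⟨1, ?_⟩
      rw [pow_one, ← Finset.mul_prod_erase s g hx, mul_comm, mul_smul]
      exact (hgint x).smul _
    | algebraMap r => exact ⟨0, by rw [pow_zero, one_smul]; exact isIntegral_algebraMap⟩
    | add x y _ _ hx hy =>
      obtain ⟨n, hn⟩ := hx
      obtain ⟨m, hm⟩ := hy
      refine ⟨n + m, ?_⟩
      rw [smul_add]
      refine IsIntegral.add ?_ ?_
      · rw [pow_add, mul_comm, mul_smul]
        exact hn.smul _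
      · rw [pow_add, mul_smul]
        exact hm.smul _
    | mul x y _ _ hx hy =>
      obtain ⟨n, hn⟩ := hx
      obtain ⟨m, hm⟩ := hy
      refine ⟨n + m, ?_⟩
      have : (∏ x ∈ s, g x) ^ (n + m) • (x * y) =
          ((∏ x ∈ s, g x) ^ n • x) * ((∏ x ∈ s, g x) ^ m • y) := by
        rw [pow_add, smul_mul_smul_comm]
      rw [this]
      exact hn.mul hm

end Main

section RingHom

variable {R S : Type u} [CommRing R] [CommRing S]

/-- Ring hom version of `exists_forall_isIntegral_pow_smul_of_minimal`. -/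
theorem exists_forall_isIntegralElem_of_minimal (φ : R →+* S) (hφ : φ.FiniteType)
    (𝔭 : PrimeSpectrum R) (hmin : 𝔭.asIdeal ∈ minimalPrimes R)
    (hfin : (PrimeSpectrum.comap φ ⁻¹' {𝔭}).Finite) :
    ∃ g : R, g ∉ 𝔭.asIdeal ∧ ∀ x : S, ∃ n : ℕ, φ.IsIntegralElem (φ g ^ n * x) := by
  algebraize [φ]
  obtain ⟨g, hg, h⟩ := exists_forall_isIntegral_pow_smul_of_minimal (R := R) (S := S) 𝔭.asIdeal
    hmin hfin
  refine ⟨g, hg, fun x => ?_⟩
  obtain ⟨n, hn⟩ := h x
  refine ⟨n, ?_⟩
  have : g ^ n • x = φ g ^ n * x := by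
    rw [Algebra.smul_def, map_pow]
    rfl
  rw [← this]
  exact hn

/-- The primes over a minimal prime with finite fibre (finite type case) are pairwise
incomparable. -/
theorem eq_of_le_of_comap_eq_of_minimal (φ : R →+* S) (hφ : φ.FiniteType)
    (𝔭 : PrimeSpectrum R) (hmin : 𝔭.asIdeal ∈ minimalPrimes R)
    (hfin : (PrimeSpectrum.comap φ ⁻¹' {𝔭}).Finite) (q q' : PrimeSpectrum S)
    (hq : PrimeSpectrum.comap φ q = 𝔭) (hq' : PrimeSpectrum.comap φ q' = 𝔭) (hle : q ≤ q') :
    q = q' := by
  algebraize [φ]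
  obtain ⟨g, hg, h⟩ := exists_forall_isIntegral_pow_smul_of_minimal (R := R) (S := S) 𝔭.asIdeal
    hmin hfin
  by_contra hne
  have hlt : q.asIdeal < q'.asIdeal := lt_of_le_of_ne hle (fun h => hne (PrimeSpectrum.ext h))
  obtain ⟨x, hxq', hxq⟩ := SetLike.exists_of_lt hlt
  obtain ⟨n, hn⟩ := h x
  have hgq : algebraMap R S g ∉ q.asIdeal := by
    intro hmem
    apply hg
    rw [← hq]
    exact hmem
  have hmem : g ^ n • x ∈ (q'.asIdeal : Set S) \ q.asIdeal := by
    rw [Algebra.smul_def, map_pow]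
    refine ⟨q'.asIdeal.mul_mem_left _ hxq', fun h1 => ?_⟩
    rcases q.isPrime.mem_or_mem h1 with h2 | h2
    · exact hgq (q.isPrime.mem_of_pow_mem _ h2)
    · exact hxq h2
  have := Ideal.comap_lt_comap_of_integral_mem_sdiff (R := R) hle hmem hn
  have e1 : q.asIdeal.comap (algebraMap R S) = 𝔭.asIdeal := congrArg PrimeSpectrum.asIdeal hq
  have e2 : q'.asIdeal.comap (algebraMap R S) = 𝔭.asIdeal := congrArg PrimeSpectrum.asIdeal hq'
  rw [e1, e2] at this
  exact lt_irrefl _ this

end RingHom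

end Groth.Agent.H4GF
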