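import Mathlib
import Groth.Agent.Lib.helper4.GenFin1
import Groth.Agent.Lib.helper4.QcClosure

/-!
# Generic finiteness: scheme-level lemmas
-/

set_option autoImplicit false
universe u

namespace Groth.Agent.H4GF

open AlgebraicGeometry CategoryTheory TopologicalSpace Polynomial

variable {X Y : Scheme.{u}} (f : X ⟶ Y)

/-- The basic open of the pullback of a section along `appLE`. -/
theorem basicOpen_appLE {V₀ : Y.Opens} {U : X.Opens} (e : U ≤ f ⁻¹ᵁ V₀) (g : Γ(Y, V₀)) :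
    X.basicOpen ((f.appLE V₀ U e).hom g) = U ⊓ f ⁻¹ᵁ (Y.basicOpen g) := by
  rw [Scheme.preimage_basicOpen]
  have : (f.appLE V₀ U e).hom g = (X.presheaf.map (homOfLE e).op).hom ((f.app V₀).hom g) := by
    rw [Scheme.Hom.appLE]
    rfl
  rw [this, Scheme.basicOpen_res]

theorem basicOpen_appLE_le {V₀ : Y.Opens} {U : X.Opens} (e : U ≤ f ⁻¹ᵁ V₀) (g : Γ(Y, V₀)) :
    X.basicOpen ((f.appLE V₀ U e).hom g) ≤ f ⁻¹ᵁ (Y.basicOpen g) := by
  rw [basicOpen_appLE]
  exact inf_le_right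

/-- Integrality transfer to basic opens. -/
theorem isIntegral_appLE_basicOpen {V₀ : Y.Opens} (hV₀ : IsAffineOpen V₀) {U : X.Opens}
    (hU : IsAffineOpen U) (e : U ≤ f ⁻¹ᵁ V₀) (g : Γ(Y, V₀))
    (h : ∀ s : Γ(X, U), ∃ n : ℕ,
      (f.appLE V₀ U e).hom.IsIntegralElem ((f.appLE V₀ U e).hom g ^ n * s)) :
    (f.appLE (Y.basicOpen g) (X.basicOpen ((f.appLE V₀ U e).hom g))
      (basicOpen_appLE_le f e g)).hom.IsIntegral := by
  set φ := (f.appLE V₀ U e).hom with hφ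
  set t := φ g with ht
  set ψ := (f.appLE (Y.basicOpen g) (X.basicOpen t) (basicOpen_appLE_le f e g)).hom with hψ
  set resY := (Y.presheaf.map (homOfLE (Y.basicOpen_le g)).op).hom with hresY
  set resX := (X.presheaf.map (homOfLE (X.basicOpen_le t)).op).hom with hresX
  have hcomm : ψ.comp resY = resX.comp φ := by
    rw [hψ, hresY, hresX, hφ, ← CommRingCat.hom_comp, ← CommRingCat.hom_comp,
      Scheme.Hom.map_appLE, Scheme.Hom.appLE_map]
  have hlocX : IsLocalization.Away t Γ(X, X.basicOpen t) := hU.isLocalization_basicOpen t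
  have hlocY : IsLocalization.Away g Γ(Y, Y.basicOpen g) := hV₀.isLocalization_basicOpen g
  have hunit : IsUnit (resY g) := IsLocalization.Away.algebraMap_isUnit g
  obtain ⟨u, hu⟩ := hunit.exists_right_inv
  have hu' : ψ u * resX t = 1 := by
    have : resX t = ψ (resY g) := by
      change (resX.comp φ) g = (ψ.comp resY) g
      rw [hcomm]
    rw [this, ← map_mul, mul_comm, hu, map_one]
  intro s'
  obtain ⟨n, s, hs⟩ := IsLocalization.Away.surj t s'
  replace hs : s' * resX t ^ n = resX s := hs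
  obtain ⟨m, P, hPm, hP⟩ := h s
  have h1 : ψ.IsIntegralElem (resX (t ^ m * s)) := by
    refine ⟨P.map resY, hPm.map _, ?_⟩
    rw [Polynomial.eval₂_map, hcomm, ← Polynomial.hom_eval₂, hP, map_zero]
  have h2 : s' = ψ (u ^ (n + m)) * resX (t ^ m * s) := by
    rw [map_mul, map_pow, ← hs, map_pow, pow_add]
    have : ψ u ^ n * ψ u ^ m * (resX t ^ m * (s' * resX t ^ n)) =
        s' * (ψ u * resX t) ^ n * (ψ u * resX t) ^ m := by ring
    rw [this, hu', one_pow, one_pow, mul_one, mul_one]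
  rw [h2]
  exact RingHom.IsIntegralElem.mul _ (ψ.isIntegralElem_map) h1

/-- A point without proper generizations corresponds to a minimal prime in any affine chart. -/
theorem primeIdealOf_mem_minimalPrimes {V₀ : Y.Opens} (hV₀ : IsAffineOpen V₀) (η : Y)
    (hηV : η ∈ V₀) (hη : ∀ y : Y, y ⤳ η → y = η) :
    (hV₀.primeIdealOf ⟨η, hηV⟩).asIdeal ∈ minimalPrimes Γ(Y, V₀) := by
  rw [minimalPrimes_eq_minimals]
  refine ⟨(hV₀.primeIdealOf ⟨η, hηV⟩).isPrime, fun q hq hle => ?_⟩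
  have h1 : (⟨q, hq⟩ : PrimeSpectrum Γ(Y, V₀)) ⤳ hV₀.primeIdealOf ⟨η, hηV⟩ :=
    (PrimeSpectrum.le_iff_specializes _ _).1 hle
  have h2 : hV₀.fromSpec ⟨q, hq⟩ ⤳ hV₀.fromSpec (hV₀.primeIdealOf ⟨η, hηV⟩) :=
    h1.map hV₀.fromSpec.continuous
  rw [hV₀.fromSpec_primeIdealOf ⟨η, hηV⟩] at h2
  have h3 := hη _ h2
  have h4 : hV₀.fromSpec ⟨q, hq⟩ = hV₀.fromSpec (hV₀.primeIdealOf ⟨η, hηV⟩) := by
    rw [hV₀.fromSpec_primeIdealOf ⟨η, hηV⟩]
    exact h3
  have h5 := hV₀.fromSpec.isOpenEmbedding.injective h4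
  rw [← h5]

/-- Finiteness of the fibre of the ring map of a chart. -/
theorem finite_comap_preimage_of_finite_fiber {V₀ : Y.Opens} (hV₀ : IsAffineOpen V₀)
    {U : X.Opens} (hU : IsAffineOpen U) (e : U ≤ f ⁻¹ᵁ V₀) (η : Y) (hηV : η ∈ V₀)
    (hfin : (f ⁻¹' {η}).Finite) :
    (PrimeSpectrum.comap (f.appLE V₀ U e).hom ⁻¹' {hV₀.primeIdealOf ⟨η, hηV⟩}).Finite := by
  have hsub : PrimeSpectrum.comap (f.appLE V₀ U e).hom ⁻¹' {hV₀.primeIdealOf ⟨η, hηV⟩} ⊆
      hU.fromSpec ⁻¹' (f ⁻¹' {η}) := by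
    intro q hq
    have hq' : (Spec.map (f.appLE V₀ U e)) q = hV₀.primeIdealOf ⟨η, hηV⟩ := hq
    change f (hU.fromSpec q) = η
    rw [← Scheme.Hom.comp_apply, ← IsAffineOpen.SpecMap_appLE_fromSpec f hV₀ hU e,
      Scheme.Hom.comp_apply, hq', hV₀.fromSpec_primeIdealOf ⟨η, hηV⟩]
  exact (hfin.preimage hU.fromSpec.isOpenEmbedding.injective.injOn).subset hsub

/-- In a finite fibre over a point without proper generizations (locally of finite type case),
there are no nontrivial specializations. -/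
theorem eq_of_specializes_of_finite_fiber [LocallyOfFiniteType f] (η : Y)
    (hη : ∀ y : Y, y ⤳ η → y = η) (hfin : (f ⁻¹' {η}).Finite) {ξ ξ' : X} (hξ : f ξ = η)
    (hξ' : f ξ' = η) (hspec : ξ' ⤳ ξ) : ξ' = ξ := by
  obtain ⟨V₀, hV₀, hηV, -⟩ := Opens.isBasis_iff_nbhd.mp Y.isBasis_affineOpens
    (Opens.mem_top η)
  obtain ⟨U, hU, hξU, e⟩ := Opens.isBasis_iff_nbhd.mp X.isBasis_affineOpens
    (show ξ ∈ f ⁻¹ᵁ V₀ by change f ξ ∈ V₀; rw [hξ]; exact hηV)
  have hξ'U : ξ' ∈ U := hspec.mem_open U.isOpen hξU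
  have hmin := primeIdealOf_mem_minimalPrimes hV₀ η hηV hη
  have hfin' := finite_comap_preimage_of_finite_fiber f hV₀ hU e η hηV hfin
  have hft : (f.appLE V₀ U e).hom.FiniteType := LocallyOfFiniteType.finiteType_appLE f hV₀ hU e
  have hc : ∀ (x : X) (hx : x ∈ U) (hfx : f x = η),
      PrimeSpectrum.comap (f.appLE V₀ U e).hom (hU.primeIdealOf ⟨x, hx⟩) =
        hV₀.primeIdealOf ⟨η, hηV⟩ := by
    intro x hx hfx
    rw [IsAffineOpen.comap_primeIdealOf_appLE V₀ hV₀ U hU e hx]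
    congr 1
    exact Subtype.ext hfx
  have hle : hU.primeIdealOf ⟨ξ', hξ'U⟩ ≤ hU.primeIdealOf ⟨ξ, hξU⟩ := by
    rw [PrimeSpectrum.le_iff_specializes]
    have h1 : (⟨ξ', hξ'U⟩ : U) ⤳ ⟨ξ, hξU⟩ := (subtype_specializes_iff _ _).2 hspec
    exact h1.map hU.isoSpec.hom.continuous
  have heq := eq_of_le_of_comap_eq_of_minimal (f.appLE V₀ U e).hom hft _ hmin hfin'
    (hU.primeIdealOf ⟨ξ', hξ'U⟩) (hU.primeIdealOf ⟨ξ, hξU⟩) (hc ξ' hξ'U hξ') (hc ξ hξU hξ) hle
  have := congrArg hU.fromSpec heq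
  rwa [hU.fromSpec_primeIdealOf ⟨ξ', hξ'U⟩, hU.fromSpec_primeIdealOf ⟨ξ, hξU⟩] at this

/-- A point without proper generizations outside the image of a quasi-compact morphism has an
open neighbourhood missing the image. -/
theorem exists_open_disjoint_range {T : Scheme.{u}} (h : T ⟶ Y) [QuasiCompact h] (η : Y)
    (hη : ∀ y : Y, y ⤳ η → y = η) (hnot : η ∉ Set.range h) :
    ∃ V : Y.Opens, η ∈ V ∧ ∀ t : T, h t ∉ V := by
  refine ⟨⟨(closure (Set.range h))ᶜ, isClosed_closure.isOpen_compl⟩, ?_, ?_⟩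
  · intro hmem
    obtain ⟨t, ht⟩ := Groth.Agent.H4Qc.exists_specializes_of_mem_closure_range h η hmem
    exact hnot ⟨t, hη _ ht⟩
  · intro t ht
    exact ht (subset_closure ⟨t, rfl⟩)

/-- A morphism whose source over an affine open `V` is a finite disjoint union of affine opens,
each integral over `V`, is finite over `V`. -/
theorem isFinite_morphismRestrict_of_disjoint_cover [LocallyOfFiniteType f] (V : Y.Opens)
    (hV : IsAffineOpen V) {ι : Type*} [Finite ι] (W : ι → X.Opens)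
    (hW : ∀ i, IsAffineOpen (W i)) (hdisj : Pairwise (Function.onFun Disjoint W))
    (hcov : ⨆ i, W i = f ⁻¹ᵁ V)
    (hint : ∀ i, (f.appLE V (W i) (hcov ▸ le_iSup W i)).hom.IsIntegral) :
    IsFinite (f ∣_ V) := by
  classical
  have hA : IsAffineOpen (f ⁻¹ᵁ V) := hcov ▸ IsAffineOpen.iSup_of_disjoint hW hdisj
  have : IsAffine V.toScheme := hV
  have : IsAffine (f ⁻¹ᵁ V).toScheme := hA
  rw [HasAffineProperty.iff_of_isAffine (P := @IsFinite)]
  refine ⟨inferInstance, ?_⟩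
  rw [Scheme.Hom.appTop, morphismRestrict_app']
  have key : (f.appLE V (f ⁻¹ᵁ V) le_rfl).hom.Finite := by
    refine RingHom.IsIntegral.to_finite ?_ (LocallyOfFiniteType.finiteType_appLE f hV hA le_rfl)
    intro s
    have hle : ∀ i, W i ≤ f ⁻¹ᵁ V := fun i => hcov ▸ le_iSup W i
    have hi : ∀ i, (f.appLE V (W i) (hle i)).hom.IsIntegralElem
        ((X.presheaf.map (homOfLE (hle i)).op).hom s) := fun i => hint i _
    choose P hPm hP using hi
    have := Fintype.ofFinite ι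
    refine ⟨∏ i, P i, Polynomial.monic_prod_of_monic _ _ (fun i _ => hPm i), ?_⟩
    refine TopCat.Sheaf.eq_of_locally_eq' X.sheaf W (f ⁻¹ᵁ V) (fun i => homOfLE (hle i))
      (le_of_eq hcov.symm) _ _ (fun i => ?_)
    change (X.presheaf.map (homOfLE (hle i)).op).hom _ = (X.presheaf.map (homOfLE (hle i)).op).hom 0
    rw [map_zero, Polynomial.hom_eval₂, ← CommRingCat.hom_comp, Scheme.Hom.appLE_map,
      Polynomial.eval₂_finsetProd]
    exact Finset.prod_eq_zero (Finset.mem_univ i) (hP i)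
  have hcong := f.appLE_congr (U := V) (V := f ⁻¹ᵁ V) (U' := V.ι ''ᵁ ⊤)
    (V' := (f ⁻¹ᵁ V).ι ''ᵁ ((f ∣_ V) ⁻¹ᵁ ⊤)) le_rfl (by simp) (by simp)
    (fun φ => φ.hom.Finite)
  exact hcong.1 key

end Groth.Agent.H4GF
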