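import Mathlib
import Groth.Agent.Lib.helper4.GenFin2

/-!
# Generic finiteness: the core theorem
-/

set_option autoImplicit false
universe u

namespace Groth.Agent.H4GF

open AlgebraicGeometry CategoryTheory TopologicalSpace Polynomial

variable {X Y : Scheme.{u}} (f : X ⟶ Y)

theorem mem_basicOpen_iff_notMem_primeIdealOf {V₀ : Y.Opens} (hV₀ : IsAffineOpen V₀) (η : Y)
    (hηV : η ∈ V₀) (g : Γ(Y, V₀)) :
    η ∈ Y.basicOpen g ↔ g ∉ (hV₀.primeIdealOf ⟨η, hηV⟩).asIdeal := by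
  have h2 : hV₀.fromSpec (hV₀.primeIdealOf ⟨η, hηV⟩) = η := hV₀.fromSpec_primeIdealOf ⟨η, hηV⟩
  have h1 : hV₀.primeIdealOf ⟨η, hηV⟩ ∈ hV₀.fromSpec ⁻¹ᵁ Y.basicOpen g ↔
      g ∉ (hV₀.primeIdealOf ⟨η, hηV⟩).asIdeal := by
    rw [hV₀.fromSpec_preimage_basicOpen]
    rfl
  rw [← h1]
  change _ ↔ hV₀.fromSpec (hV₀.primeIdealOf ⟨η, hηV⟩) ∈ Y.basicOpen g
  rw [h2]

/-- In a finite fibre over a point without proper generizations, every point has an open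
neighbourhood meeting the fibre only in that point. -/
theorem exists_open_inter_fiber_eq_singleton [LocallyOfFiniteType f] (η : Y)
    (hη : ∀ y : Y, y ⤳ η → y = η) (hfin : (f ⁻¹' {η}).Finite) (ξ : X) (hξ : f ξ = η) :
    ∃ O : X.Opens, ξ ∈ O ∧ ∀ x ∈ O, f x = η → x = ξ := by
  refine ⟨⟨(closure (f ⁻¹' {η} \ {ξ}))ᶜ, isClosed_closure.isOpen_compl⟩, ?_, ?_⟩
  · intro hmem
    have hfin' : (f ⁻¹' {η} \ {ξ}).Finite := hfin.subset Set.sdiff_subset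
    rw [← Set.biUnion_of_singleton (f ⁻¹' {η} \ {ξ}), hfin'.closure_biUnion] at hmem
    obtain ⟨ξ', hξ', hmem'⟩ := Set.mem_iUnion₂.1 hmem
    have hspec : ξ' ⤳ ξ := specializes_iff_mem_closure.2 hmem'
    exact hξ'.2 (eq_of_specializes_of_finite_fiber f η hη hfin hξ hξ'.1 hspec)
  · intro x hx hfx
    by_contra hne
    exact hx (subset_closure ⟨hfx, hne⟩)

/-- Core generic finiteness theorem. -/
theorem exists_isFinite_morphismRestrict [LocallyOfFiniteType f] [QuasiCompact f] (η : Y)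
    (hη : ∀ y : Y, y ⤳ η → y = η) (hfin : (f ⁻¹' {η}).Finite)
    (hsep : ∀ (V₀ : Y.Opens) (U₁ U₂ : X.Opens), IsAffineOpen V₀ → η ∈ V₀ → IsAffineOpen U₁ →
      IsAffineOpen U₂ → U₁ ≤ f ⁻¹ᵁ V₀ → U₂ ≤ f ⁻¹ᵁ V₀ → (∀ x ∈ U₁ ⊓ U₂, f x ≠ η) →
      ∃ V : Y.Opens, η ∈ V ∧ ∀ x ∈ U₁ ⊓ U₂, f x ∉ V)
    (V₁ : Y.Opens) (hηV₁ : η ∈ V₁) :
    ∃ V : Y.Opens, IsAffineOpen V ∧ η ∈ V ∧ V ≤ V₁ ∧ IsFinite (f ∣_ V) := by
  classical
  obtain ⟨V₀, hV₀, hηV, hV₀V₁⟩ := Opens.isBasis_iff_nbhd.mp Y.isBasis_affineOpens hηV₁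
  let ι := ↥(f ⁻¹' {η})
  have : Finite ι := hfin.to_subtype
  have := Fintype.ofFinite ι
  -- isolating opens
  have hO : ∀ ξ : ι, ∃ O : X.Opens, ξ.1 ∈ O ∧ ∀ x ∈ O, f x = η → x = ξ.1 := fun ξ =>
    exists_open_inter_fiber_eq_singleton f η hη hfin ξ.1 ξ.2
  choose O hξO hO using hO
  -- affine charts
  have hU : ∀ ξ : ι, ∃ U : X.Opens, IsAffineOpen U ∧ ξ.1 ∈ U ∧ U ≤ O ξ ⊓ f ⁻¹ᵁ V₀ := by
    intro ξ
    obtain ⟨U, hU, h1, h2⟩ := Opens.isBasis_iff_nbhd.mp X.isBasis_affineOpens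
      (show ξ.1 ∈ O ξ ⊓ f ⁻¹ᵁ V₀ from ⟨hξO ξ, by change f ξ.1 ∈ V₀; rw [ξ.2]; exact hηV⟩)
    exact ⟨U, hU, h1, h2⟩
  choose U hU hξU hUle using hU
  have e : ∀ ξ, U ξ ≤ f ⁻¹ᵁ V₀ := fun ξ => (hUle ξ).trans inf_le_right
  have hmin := primeIdealOf_mem_minimalPrimes hV₀ η hηV hη
  -- the algebraic lemma for each chart
  have hg : ∀ ξ : ι, ∃ g : Γ(Y, V₀), g ∉ (hV₀.primeIdealOf ⟨η, hηV⟩).asIdeal ∧
      ∀ s : Γ(X, U ξ), ∃ n : ℕ, (f.appLE V₀ (U ξ) (e ξ)).hom.IsIntegralElem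
        ((f.appLE V₀ (U ξ) (e ξ)).hom g ^ n * s) := fun ξ =>
    exists_forall_isIntegralElem_of_minimal (f.appLE V₀ (U ξ) (e ξ)).hom
      (LocallyOfFiniteType.finiteType_appLE f hV₀ (hU ξ) (e ξ)) _ hmin
      (finite_comap_preimage_of_finite_fiber f hV₀ (hU ξ) (e ξ) η hηV hfin)
  choose g₀ hg₀ hint₀ using hg
  -- (b) shrink so that the preimage is covered by the charts
  obtain ⟨V₂, hηV₂, hV₂⟩ : ∃ V₂ : Y.Opens, η ∈ V₂ ∧ ∀ x : X, f x ∈ V₂ → ∃ ξ, x ∈ U ξ := by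
    let Zc : Closeds X := ⟨(⋃ ξ, (U ξ : Set X))ᶜ,
      (isOpen_iUnion fun ξ => (U ξ).isOpen).isClosed_compl⟩
    let I := Scheme.IdealSheafData.vanishingIdeal Zc
    have hrange : Set.range I.subschemeι = (Zc : Set X) := by
      rw [Scheme.IdealSheafData.range_subschemeι]
      exact Scheme.IdealSheafData.coe_support_vanishingIdeal Zc
    have hnot : η ∉ Set.range (I.subschemeι ≫ f) := by
      rintro ⟨t, ht⟩
      have h1 : f (I.subschemeι t) = η := ht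
      have h2 : I.subschemeι t ∈ (Zc : Set X) := hrange ▸ ⟨t, rfl⟩
      exact h2 (Set.mem_iUnion.2 ⟨⟨_, h1⟩, hξU ⟨_, h1⟩⟩)
    obtain ⟨V₂, hηV₂, hV₂⟩ := exists_open_disjoint_range (I.subschemeι ≫ f) η hη hnot
    refine ⟨V₂, hηV₂, fun x hx => ?_⟩
    by_contra hcon
    have hxZ : x ∈ (Zc : Set X) := by
      intro hmem
      obtain ⟨ξ, hξ⟩ := Set.mem_iUnion.1 hmem
      exact hcon ⟨ξ, hξ⟩
    rw [← hrange] at hxZ
    obtain ⟨t, rfl⟩ := hxZ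
    exact hV₂ t hx
  -- (c) shrink so that the charts become disjoint
  have hVs : ∀ p : ι × ι, ∃ V : Y.Opens, η ∈ V ∧
      (p.1 ≠ p.2 → ∀ x ∈ U p.1 ⊓ U p.2, f x ∉ V) := by
    intro p
    by_cases hp : p.1 = p.2
    · exact ⟨⊤, trivial, fun h => absurd hp h⟩
    · obtain ⟨V, hV, hV'⟩ := hsep V₀ (U p.1) (U p.2) hV₀ hηV (hU p.1) (hU p.2) (e p.1) (e p.2) (by
        intro x hx hfx
        have h1 : x = p.1.1 := hO p.1 x ((hUle p.1) hx.1).1 hfx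
        have h2 : x = p.2.1 := hO p.2 x ((hUle p.2) hx.2).1 hfx
        exact hp (Subtype.ext (h1.symm.trans h2)))
      exact ⟨V, hV, fun _ => hV'⟩
  choose Vs hηVs hVs using hVs
  let Vc : Y.Opens := ⟨⋂ p, (Vs p : Set Y), isOpen_iInter_of_finite fun p => (Vs p).isOpen⟩
  have hηVc : η ∈ Vc := Set.mem_iInter.2 hηVs
  obtain ⟨g₁, hg₁le, hg₁mem⟩ := hV₀.exists_basicOpen_le (V := V₂ ⊓ Vc) ⟨η, ⟨hηV₂, hηVc⟩⟩ hηV
  -- the final function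
  let g : Γ(Y, V₀) := g₁ * ∏ ξ, g₀ ξ
  have hgη : η ∈ Y.basicOpen g := by
    rw [mem_basicOpen_iff_notMem_primeIdealOf hV₀ η hηV]
    intro hmem
    rcases (hV₀.primeIdealOf ⟨η, hηV⟩).isPrime.mem_or_mem hmem with h1 | h1
    · exact (mem_basicOpen_iff_notMem_primeIdealOf hV₀ η hηV g₁).1 hg₁mem h1
    · obtain ⟨ξ, _, hξ⟩ := (Ideal.IsPrime.prod_mem_iff).1 h1
      exact hg₀ ξ hξ
  have hgle : Y.basicOpen g ≤ Y.basicOpen g₁ := by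
    rw [Scheme.basicOpen_mul]
    exact inf_le_left
  let V : Y.Opens := Y.basicOpen g
  let W : ι → X.Opens := fun ξ => X.basicOpen ((f.appLE V₀ (U ξ) (e ξ)).hom g)
  have hWeq : ∀ ξ, W ξ = U ξ ⊓ f ⁻¹ᵁ V := fun ξ => basicOpen_appLE f (e ξ) g
  have hWaff : ∀ ξ, IsAffineOpen (W ξ) := fun ξ => (hU ξ).basicOpen _
  have hdisj : Pairwise (Function.onFun Disjoint W) := by
    intro ξ ξ' hne
    change Disjoint (W ξ) (W ξ')
    rw [← Opens.coe_disjoint, Set.disjoint_left]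
    intro x hx hx'
    rw [SetLike.mem_coe, hWeq] at hx hx'
    have h1 : f x ∈ Vc := (hg₁le (hgle hx.2)).2
    have h2 : f x ∈ Vs (ξ, ξ') := Set.mem_iInter.1 h1 (ξ, ξ')
    exact hVs (ξ, ξ') hne x ⟨hx.1, hx'.1⟩ h2
  have hcov : ⨆ ξ, W ξ = f ⁻¹ᵁ V := by
    apply le_antisymm
    · refine iSup_le fun ξ => ?_
      rw [hWeq]
      exact inf_le_right
    · intro x hx
      have h1 : f x ∈ V₂ := (hg₁le (hgle hx)).1
      obtain ⟨ξ, hξ⟩ := hV₂ x h1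
      refine Opens.mem_iSup.2 ⟨ξ, ?_⟩
      rw [hWeq]
      exact ⟨hξ, hx⟩
  have hint : ∀ ξ, (f.appLE V (W ξ) (hcov ▸ le_iSup W ξ)).hom.IsIntegral := by
    intro ξ
    refine isIntegral_appLE_basicOpen f hV₀ (hU ξ) (e ξ) g (fun s => ?_)
    obtain ⟨n, hn⟩ := hint₀ ξ s
    refine ⟨n, ?_⟩
    have hgfac : g = (g₁ * ∏ x ∈ Finset.univ.erase ξ, g₀ x) * g₀ ξ := by
      change g₁ * ∏ ξ, g₀ ξ = _
      rw [← Finset.mul_prod_erase Finset.univ g₀ (Finset.mem_univ ξ)]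
      ring
    rw [hgfac, map_mul, mul_pow, mul_assoc, ← map_pow]
    exact RingHom.IsIntegralElem.mul _ ((f.appLE V₀ (U ξ) (e ξ)).hom.isIntegralElem_map) hn
  exact ⟨V, hV₀.basicOpen g, hgη, (Y.basicOpen_le g).trans hV₀V₁,
    isFinite_morphismRestrict_of_disjoint_cover f V (hV₀.basicOpen g) W hWaff hdisj hcov hint⟩

end Groth.Agent.H4GF
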