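import Mathlib
import Groth.Agent.Lib.helper4.GenFin3
import Groth.Agent.Lib.helper4.FlatUnram1

/-!
# Generic finiteness for quasi-compact quasi-separated morphisms
-/

set_option autoImplicit false
universe u

namespace Groth.Agent.H4GF

open AlgebraicGeometry CategoryTheory TopologicalSpace Polynomial

variable {X Y : Scheme.{u}} (f : X ⟶ Y)

/-- Separation hypothesis of the core theorem, from quasi-separatedness. -/
theorem hsep_of_quasiSeparated [QuasiSeparated f] (η : Y) (hη : ∀ y : Y, y ⤳ η → y = η)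
    (V₀ : Y.Opens) (U₁ U₂ : X.Opens) (hV₀ : IsAffineOpen V₀) (hηV : η ∈ V₀)
    (hU₁ : IsAffineOpen U₁)
    (hU₂ : IsAffineOpen U₂) (e₁ : U₁ ≤ f ⁻¹ᵁ V₀) (e₂ : U₂ ≤ f ⁻¹ᵁ V₀)
    (hne : ∀ x ∈ U₁ ⊓ U₂, f x ≠ η) :
    ∃ V : Y.Opens, η ∈ V ∧ ∀ x ∈ U₁ ⊓ U₂, f x ∉ V := by
  have hc : IsCompact ((U₁ ⊓ U₂ : X.Opens) : Set X) :=
    (f.isQuasiSeparated_preimage hV₀.isQuasiSeparated) U₁ U₂ e₁ U₁.isOpen hU₁.isCompact e₂
      U₂.isOpen hU₂.isCompact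
  have : CompactSpace ((U₁ ⊓ U₂ : X.Opens) : Scheme.{u}) := isCompact_iff_compactSpace.1 hc
  have : IsAffine (V₀ : Scheme.{u}) := hV₀
  let h' : ((U₁ ⊓ U₂ : X.Opens) : Scheme.{u}) ⟶ (V₀ : Scheme.{u}) :=
    f.resLE V₀ (U₁ ⊓ U₂) (inf_le_left.trans e₁)
  have hh' : h' ≫ V₀.ι = (U₁ ⊓ U₂).ι ≫ f := Scheme.Hom.resLE_comp_ι _ _
  let η₀ : (V₀ : Scheme.{u}) := ⟨η, hηV⟩
  have hη₀ : ∀ y : (V₀ : Scheme.{u}), y ⤳ η₀ → y = η₀ := by
    intro y hy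
    have h1 : V₀.ι y ⤳ V₀.ι η₀ := hy.map V₀.ι.continuous
    have h2 := hη _ h1
    exact V₀.ι.isOpenEmbedding.injective h2
  have hnot : η₀ ∉ Set.range h' := by
    rintro ⟨t, ht⟩
    have h1 : V₀.ι (h' t) = f ((U₁ ⊓ U₂).ι t) := by
      rw [← Scheme.Hom.comp_apply, hh', Scheme.Hom.comp_apply]
    rw [ht] at h1
    exact hne _ t.2 h1.symm
  obtain ⟨V', hηV', hV'⟩ := exists_open_disjoint_range h' η₀ hη₀ hnot
  refine ⟨V₀.ι ''ᵁ V', ⟨η₀, hηV', rfl⟩, ?_⟩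
  rintro x hx ⟨v, hv, hvx⟩
  let t : ((U₁ ⊓ U₂ : X.Opens) : Scheme.{u}) := ⟨x, hx⟩
  have h1 : V₀.ι (h' t) = f ((U₁ ⊓ U₂).ι t) := by
    rw [← Scheme.Hom.comp_apply, hh', Scheme.Hom.comp_apply]
  have h2 : h' t = v := V₀.ι.isOpenEmbedding.injective (h1.trans hvx.symm)
  exact hV' t (h2 ▸ hv)

/-- Generic finiteness for quasi-compact quasi-separated morphisms locally of finite type. -/
theorem exists_isFinite_of_qcqs [LocallyOfFiniteType f] [QuasiCompact f] [QuasiSeparated f]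
    (η : Y) (hη : ∀ y : Y, y ⤳ η → y = η) (hfin : (f ⁻¹' {η}).Finite)
    (V₁ : Y.Opens) (hηV₁ : η ∈ V₁) :
    ∃ V : Y.Opens, IsAffineOpen V ∧ η ∈ V ∧ V ≤ V₁ ∧ IsFinite (f ∣_ V) :=
  exists_isFinite_morphismRestrict f η hη hfin
    (fun V₀ U₁ U₂ hV₀ hηV hU₁ hU₂ e₁ e₂ hne =>
      hsep_of_quasiSeparated f η hη V₀ U₁ U₂ hV₀ hηV hU₁ hU₂ e₁ e₂ hne) V₁ hηV₁

/-- A fibre of a morphism that is finite over an open neighbourhood is finite. -/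
theorem finite_fiber_of_isFinite_morphismRestrict (V : Y.Opens) [IsFinite (f ∣_ V)] (η : Y)
    (hηV : η ∈ V) : (f ⁻¹' {η}).Finite := by
  have h1 : ((f ∣_ V) ⁻¹' {⟨η, hηV⟩}).Finite := (f ∣_ V).finite_preimage_singleton _
  refine (h1.image (f ⁻¹ᵁ V).ι).subset ?_
  intro x hx
  have hx' : f x = η := hx
  have hxV : x ∈ f ⁻¹ᵁ V := by change f x ∈ V; rw [hx']; exact hηV
  refine ⟨⟨x, hxV⟩, ?_, rfl⟩
  change (f ∣_ V) ⟨x, hxV⟩ = ⟨η, hηV⟩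
  apply V.ι.isOpenEmbedding.injective
  rw [← Scheme.Hom.comp_apply, morphismRestrict_ι, Scheme.Hom.comp_apply]
  exact hx'

end Groth.Agent.H4GF
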