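import Mathlib
import Groth.Agent.Lib.helper4.GenFin4

/-!
# Generic finiteness: finitely many irreducible components
-/

set_option autoImplicit false
universe u

namespace Groth.Agent.H4GF

open AlgebraicGeometry CategoryTheory TopologicalSpace Polynomial Groth.Agent.H4FU

variable {X Y : Scheme.{u}} (f : X ⟶ Y)

/-- Every point is a specialization of the generic point of an irreducible component. -/
theorem exists_generic_specializes {α : Type*} [TopologicalSpace α] [QuasiSober α] (x : α) :
    ∃ ξ : α, closure {ξ} ∈ irreducibleComponents α ∧ ξ ⤳ x := by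
  obtain ⟨ξ, hξ⟩ := QuasiSober.sober (isIrreducible_irreducibleComponent (x := x))
    isClosed_irreducibleComponent
  refine ⟨ξ, ?_, ?_⟩
  · rw [hξ.def]
    exact irreducibleComponent_mem_irreducibleComponents x
  · rw [specializes_iff_mem_closure, hξ.def]
    exact mem_irreducibleComponent

/-- Stacks 02NX. -/
theorem exists_dense_isFinite [LocallyOfFiniteType f] [QuasiCompact f]
    (hX : (irreducibleComponents X).Finite) (hY : (irreducibleComponents Y).Finite)
    (hgen : ∀ x : X, closure {x} ∈ irreducibleComponents X ↔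
      closure {f x} ∈ irreducibleComponents Y) :
    ∃ V : Y.Opens, Dense (V : Set Y) ∧ IsFinite (f ∣_ V) := by
  classical
  set GY : Set Y := {η : Y | closure {η} ∈ irreducibleComponents Y} with hGY
  set GX : Set X := {ξ : X | closure {ξ} ∈ irreducibleComponents X} with hGX
  have hGYfin : GY.Finite := finite_generic_points hY
  have hGXfin : GX.Finite := finite_generic_points hX
  have key : ∀ η ∈ GY, ∃ V : Y.Opens, η ∈ V ∧ IsFinite (f ∣_ V) := by
    intro η hηG
    have hη : ∀ y : Y, y ⤳ η → y = η := fun y hy =>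
      eq_of_specializes_of_closure_mem_irreducibleComponents hηG hy
    let Vi : Y.Opens := ⟨(⋃ η' ∈ GY \ {η}, closure {η'})ᶜ,
      ((hGYfin.subset Set.sdiff_subset).isClosed_biUnion fun _ _ => isClosed_closure).isOpen_compl⟩
    have hηVi : η ∈ Vi := by
      intro hmem
      obtain ⟨η', hη', hmem'⟩ := Set.mem_iUnion₂.1 hmem
      exact hη'.2 (hη _ (specializes_iff_mem_closure.2 hmem'))
    have hVi : ∀ y ∈ Vi, η ⤳ y := by
      intro y hy
      obtain ⟨η', hη'G, hη'y⟩ := exists_generic_specializes y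
      by_cases h : η' = η
      · exact h ▸ hη'y
      · exact absurd (Set.mem_iUnion₂.2 ⟨η', ⟨hη'G, h⟩, specializes_iff_mem_closure.1 hη'y⟩) hy
    have hfin : (f ⁻¹' {η}).Finite := by
      refine hGXfin.subset fun x hx => ?_
      have hx' : f x = η := hx
      change closure {x} ∈ irreducibleComponents X
      rw [hgen, hx']
      exact hηG
    obtain ⟨V, -, hηV, -, hVfin⟩ := exists_isFinite_morphismRestrict f η hη hfin
      (fun V₀ U₁ U₂ _ _ _ _ _ _ hne => by
        refine ⟨Vi, hηVi, fun x hx hfx => ?_⟩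
        obtain ⟨ξ, hξG, hξx⟩ := exists_generic_specializes x
        have hξU : ξ ∈ U₁ ⊓ U₂ := hξx.mem_open (U₁ ⊓ U₂).isOpen hx
        have hfξ : closure {f ξ} ∈ irreducibleComponents Y := (hgen ξ).1 hξG
        have h1 : f ξ ⤳ f x := hξx.map f.continuous
        have h2 : f ξ ∈ Vi := h1.mem_open Vi.isOpen hfx
        have h3 : η = f ξ :=
          eq_of_specializes_of_closure_mem_irreducibleComponents hfξ (hVi _ h2)
        exact hne ξ hξU h3.symm) ⊤ trivial
    exact ⟨V, hηV, hVfin⟩
  choose! V hηV hVfin using key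
  let Vt : Y.Opens := ⨆ η : GY, V η.1
  have hle : ∀ η : GY, V η.1 ≤ Vt := fun η => le_iSup (fun η : GY => V η.1) η
  refine ⟨Vt, ?_, ?_⟩
  · rw [dense_iff_inter_open]
    rintro O hO ⟨y, hy⟩
    obtain ⟨η, hηG, hηy⟩ := exists_generic_specializes y
    exact ⟨η, hηy.mem_open hO hy, hle ⟨η, hηG⟩ (hηV η hηG)⟩
  · refine IsZariskiLocalAtTarget.of_iSup_eq_top (P := @IsFinite)
      (fun η : GY => Vt.ι ⁻¹ᵁ V η.1) ?_ fun η => ?_
    · rw [eq_top_iff]
      rintro ⟨y, hy⟩ _
      obtain ⟨η, hη⟩ := TopologicalSpace.Opens.mem_iSup.1 hy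
      exact TopologicalSpace.Opens.mem_iSup.2 ⟨η, hη⟩
    · rw [MorphismProperty.arrow_mk_iso_iff @IsFinite (morphismRestrictRestrict f Vt _)]
      have : Vt.ι ''ᵁ (Vt.ι ⁻¹ᵁ V η.1) = V η.1 := by
        rw [Scheme.Hom.image_preimage_eq_opensRange_inf, Scheme.Opens.opensRange_ι]
        exact inf_eq_right.2 (hle η)
      rw [this]
      exact hVfin η.1 η.2

end Groth.Agent.H4GF
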