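import Mathlib
import Groth.Agent.Lib.helper4.Rat4
import Groth.Agent.Lib.helper4.ZMT1

/-!
# Extending a rational section at a normal point where the morphism is quasi-finite
-/

set_option autoImplicit false
universe u

namespace Groth.Agent.H4Rat

open AlgebraicGeometry CategoryTheory Limits TopologicalSpace IsLocalRing Groth.Agent.H4FF
open Groth.Agent.H4FunField

section QF

variable {W Y : Scheme.{u}} [IsIntegral W] (q : Y ⟶ W) (V : W.Opens) (h₀ : V.toScheme ⟶ Y)

/-- A local section through `y₀` from the fact that `O_{Y,y₀} → K(W)` has image in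
`O_{W,q y₀}`. -/
theorem exists_local_section_of_range (hh₀ : h₀ ≫ q = V.ι) (hξ : genericPoint W ∈ V) (y₀ : Y)
    (hsp : (V.fromSpecStalkOfMem (genericPoint W) hξ ≫ h₀) (closedPoint W.functionField) ⤳ y₀)
    (hrange : ∀ b : Y.presheaf.stalk y₀, ∃ a : W.presheaf.stalk (q y₀),
      (Y.presheaf.stalkSpecializes hsp ≫ Scheme.stalkClosedPointTo
        (V.fromSpecStalkOfMem (genericPoint W) hξ ≫ h₀)).hom b =
          algebraMap (W.presheaf.stalk (q y₀)) W.functionField a ∧
        (b ∈ maximalIdeal (Y.presheaf.stalk y₀) → a ∈ maximalIdeal (W.presheaf.stalk (q y₀)))) :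
    ∃ φ : Spec (W.presheaf.stalk (q y₀)) ⟶ Y,
      φ (closedPoint (W.presheaf.stalk (q y₀))) = y₀ ∧
      Spec.map (toFF W (q y₀)) ≫ φ = V.fromSpecStalkOfMem (genericPoint W) hξ ≫ h₀ ∧
      φ ≫ q = W.fromSpecStalk (q y₀) := by
  set hK : Spec W.functionField ⟶ Y := V.fromSpecStalkOfMem (genericPoint W) hξ ≫ h₀ with hKdef
  set τ : Y.presheaf.stalk y₀ ⟶ W.functionField :=
    Y.presheaf.stalkSpecializes hsp ≫ Scheme.stalkClosedPointTo hK with hτ
  have hτrange : ∀ b, τ.hom b ∈ (algebraMap (W.presheaf.stalk (q y₀)) W.functionField).range := by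
    intro b
    obtain ⟨a, ha, -⟩ := hrange b
    exact ⟨a, ha.symm⟩
  have hinj : Function.Injective (algebraMap (W.presheaf.stalk (q y₀)) W.functionField) :=
    IsFractionRing.injective _ _
  have hinj' : Function.Injective
      (algebraMap (W.presheaf.stalk (q y₀)) W.functionField).rangeRestrict := by
    intro a b hab
    exact hinj (congrArg Subtype.val hab)
  let e : W.presheaf.stalk (q y₀) ≃+*
      (algebraMap (W.presheaf.stalk (q y₀)) W.functionField).range :=
    RingEquiv.ofBijective _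
      ⟨hinj', (algebraMap (W.presheaf.stalk (q y₀)) W.functionField).rangeRestrict_surjective⟩
  let σ : Y.presheaf.stalk y₀ →+* W.presheaf.stalk (q y₀) :=
    e.symm.toRingHom.comp (τ.hom.codRestrict _ hτrange)
  have hσ : ∀ b, algebraMap (W.presheaf.stalk (q y₀)) W.functionField (σ b) = τ.hom b := by
    intro b
    have : e (σ b) = τ.hom.codRestrict _ hτrange b := e.apply_symm_apply _
    exact congrArg Subtype.val this
  have hσloc : IsLocalHom σ := by
    constructor
    intro b hb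
    by_contra hnb
    have h1 : b ∈ maximalIdeal (Y.presheaf.stalk y₀) := hnb
    obtain ⟨a, ha, ha'⟩ := hrange b
    have h2 : σ b = a := hinj ((hσ b).trans ha)
    exact (h2 ▸ ha' h1) hb
  let σ' : Y.presheaf.stalk y₀ ⟶ W.presheaf.stalk (q y₀) := CommRingCat.ofHom σ
  have hστ : σ' ≫ toFF W (q y₀) = τ := by
    ext b
    change (toFF W (q y₀)).hom (σ b) = τ.hom b
    rw [toFF_hom]
    exact hσ b
  have hφc : (Spec.map σ' ≫ Y.fromSpecStalk y₀) (closedPoint (W.presheaf.stalk (q y₀))) = y₀ :=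
    closedPoint_SpecMap_fromSpecStalk y₀ (W.presheaf.stalk (q y₀)) σ
  have hφg : Spec.map (toFF W (q y₀)) ≫ Spec.map σ' ≫ Y.fromSpecStalk y₀ = hK := by
    rw [← Spec.map_comp_assoc, hστ]
    exact factor_fromSpecStalk y₀ hK hsp
  refine ⟨Spec.map σ' ≫ Y.fromSpecStalk y₀, hφc, hφg, ?_⟩
  refine hom_ext_of_local (toFF W (q y₀)) ?_ (q y₀) _ _ ?_ ?_ ?_
  · rw [toFF_hom]
    exact hinj
  · rw [Scheme.Hom.comp_apply, hφc]
  · rw [Scheme.fromSpecStalk_closedPoint]
  · rw [← Category.assoc, hφg, SpecMap_toFF, hKdef, Category.assoc, hh₀,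
      Scheme.Opens.fromSpecStalkOfMem_ι]

/-- A local section through `y₀` when `q` is quasi-finite at `y₀` and `O_{W,q y₀}` is normal. -/
theorem exists_local_section_of_quasiFiniteAt [LocallyOfFiniteType q] (hh₀ : h₀ ≫ q = V.ι)
    (hξ : genericPoint W ∈ V) (y₀ : Y) [IsIntegrallyClosed (W.presheaf.stalk (q y₀))]
    (hsp : (V.fromSpecStalkOfMem (genericPoint W) hξ ≫ h₀) (closedPoint W.functionField) ⤳ y₀)
    (hqf : q.QuasiFiniteAt y₀) :
    ∃ φ : Spec (W.presheaf.stalk (q y₀)) ⟶ Y,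
      φ (closedPoint (W.presheaf.stalk (q y₀))) = y₀ ∧
      Spec.map (toFF W (q y₀)) ≫ φ = V.fromSpecStalkOfMem (genericPoint W) hξ ≫ h₀ ∧
      φ ≫ q = W.fromSpecStalk (q y₀) := by
  refine exists_local_section_of_range q V h₀ hh₀ hξ y₀ hsp ?_
  set hK : Spec W.functionField ⟶ Y := V.fromSpecStalkOfMem (genericPoint W) hξ ≫ h₀ with hKdef
  set τ : Y.presheaf.stalk y₀ ⟶ W.functionField :=
    Y.presheaf.stalkSpecializes hsp ≫ Scheme.stalkClosedPointTo hK with hτ
  let _ : Algebra (W.presheaf.stalk (q y₀)) (Y.presheaf.stalk y₀) := (q.stalkMap y₀).hom.toAlgebra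
  have hess : Algebra.EssFiniteType (W.presheaf.stalk (q y₀)) (Y.presheaf.stalk y₀) :=
    LocallyOfFiniteType.stalkMap q y₀
  have hqf' : Algebra.QuasiFinite (W.presheaf.stalk (q y₀)) (Y.presheaf.stalk y₀) := hqf
  have hloc : IsLocalHom (algebraMap (W.presheaf.stalk (q y₀)) (Y.presheaf.stalk y₀)) :=
    inferInstanceAs (IsLocalHom (q.stalkMap y₀).hom)
  have hcomp : q.stalkMap y₀ ≫ τ = toFF W (q y₀) := by
    apply Spec.map_injective
    rw [← cancel_mono (W.fromSpecStalk (q y₀)), Spec.map_comp, Category.assoc,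
      Scheme.SpecMap_stalkMap_fromSpecStalk, ← Category.assoc, factor_fromSpecStalk y₀ hK hsp,
      SpecMap_toFF, hKdef, Category.assoc, hh₀, Scheme.Opens.fromSpecStalkOfMem_ι]
  let τa : Y.presheaf.stalk y₀ →ₐ[W.presheaf.stalk (q y₀)] W.functionField :=
    { τ.hom with
      commutes' := fun a => by
        have := congrArg (fun f => f.hom a) hcomp
        rw [toFF_hom] at this
        exact this }
  intro b
  obtain ⟨a, ha⟩ := Groth.Agent.H4ZMT.exists_eq_algebraMap τa b
  refine ⟨a, ha, fun hb => ?_⟩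
  by_contra hna
  have hau : IsUnit a := by
    by_contra h
    exact hna h
  exact hb ((Groth.Agent.H4ZMT.isUnit_iff_of_eq τa b a ha).2 hau)

/-- Spreading out a local section to a neighbourhood, compatibly with the given rational section
(`q` separated). -/
theorem exists_extension_of_local_section [LocallyOfFiniteType q] [IsSeparated q]
    (hh₀ : h₀ ≫ q = V.ι) (hξ : genericPoint W ∈ V) (x₀ : W)
    (φ : Spec (W.presheaf.stalk x₀) ⟶ Y)
    (hφg : Spec.map (toFF W x₀) ≫ φ = V.fromSpecStalkOfMem (genericPoint W) hξ ≫ h₀)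
    (hφq : φ ≫ q = W.fromSpecStalk x₀) :
    ∃ (V' : W.Opens) (hxV' : x₀ ∈ V') (g' : V'.toScheme ⟶ Y),
      g' ≫ q = V'.ι ∧ g' ⟨x₀, hxV'⟩ = φ (closedPoint (W.presheaf.stalk x₀)) ∧
      W.homOfLE (inf_le_right : V ⊓ V' ≤ V') ≫ g' =
        W.homOfLE (inf_le_left : V ⊓ V' ≤ V) ≫ h₀ := by
  obtain ⟨V₁, hxV₁, g₁, hg₁φ, hg₁q⟩ := spread_out_of_isGermInjective' (𝟙 W) q φ
    (by rw [hφq, Category.comp_id])
  rw [Category.comp_id] at hg₁q
  refine ⟨V₁, hxV₁, g₁, hg₁q, ?_, ?_⟩
  · rw [hg₁φ, Scheme.Hom.comp_apply, fromSpecStalkOfMem_closedPoint]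
  · have hξ' : genericPoint W ∈ V ⊓ V₁ :=
      ⟨hξ, (Groth.Agent.H4FF.genericPoint_specializes x₀).mem_open V₁.isOpen hxV₁⟩
    refine ext_of_isDominant_of_isSeparated q ?_
      ((V ⊓ V₁).fromSpecStalkOfMem (genericPoint W) hξ') ?_
    · rw [Category.assoc, Category.assoc, hg₁q, hh₀, Scheme.homOfLE_ι, Scheme.homOfLE_ι]
    · rw [fromSpecStalkOfMem_homOfLE_assoc, fromSpecStalkOfMem_homOfLE_assoc, ← hφg, hg₁φ,
        ← Category.assoc, SpecMap_toFF_fromSpecStalkOfMem]

end QF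

end Groth.Agent.H4Rat
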