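import Mathlib
import Groth.Agent.Lib.helper4.Rat5

/-!
# Local sections through a point isolated in the fibre of the closure of the graph
-/

set_option autoImplicit false
universe u

namespace Groth.Agent.H4Rat

open AlgebraicGeometry CategoryTheory Limits TopologicalSpace IsLocalRing Groth.Agent.H4FF
open Groth.Agent.H4FunField

section Gen

variable {W Y : Scheme.{u}} [IsIntegral W] (q : Y ⟶ W)
  (hK : Spec W.functionField ⟶ Y) (hKq : hK ≫ q = W.fromSpecStalk (genericPoint W))

include hKq in
/-- A local section through `y₀` from the fact that `O_{Y,y₀} → K(W)` has image in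
`O_{W,q y₀}` (version with a `K(W)`-point of `Y`). -/
theorem exists_local_section_of_range' (y₀ : Y)
    (hsp : hK (closedPoint W.functionField) ⤳ y₀)
    (hrange : ∀ b : Y.presheaf.stalk y₀, ∃ a : W.presheaf.stalk (q y₀),
      (Y.presheaf.stalkSpecializes hsp ≫ Scheme.stalkClosedPointTo hK).hom b =
          algebraMap (W.presheaf.stalk (q y₀)) W.functionField a ∧
        (b ∈ maximalIdeal (Y.presheaf.stalk y₀) → a ∈ maximalIdeal (W.presheaf.stalk (q y₀)))) :
    ∃ φ : Spec (W.presheaf.stalk (q y₀)) ⟶ Y,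
      φ (closedPoint (W.presheaf.stalk (q y₀))) = y₀ ∧
      Spec.map (toFF W (q y₀)) ≫ φ = hK ∧ φ ≫ q = W.fromSpecStalk (q y₀) := by
  set τ : Y.presheaf.stalk y₀ ⟶ W.functionField :=
    Y.presheaf.stalkSpecializes hsp ≫ Scheme.stalkClosedPointTo hK with hτ
  have hτrange : ∀ b, τ.hom b ∈ (algebraMap (W.presheaf.stalk (q y₀)) W.functionField).range := by
    intro b
    obtain ⟨a, ha, -⟩ := hrange b
    exact ⟨a, ha.symm⟩
  have hinj : Function.Injective (algebraMap (W.presheaf.stalk (q y₀)) W.functionField) :=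
    IsFractionRing.injective _ _
  have hinj' : Function.Injective
      (algebraMap (W.presheaf.stalk (q y₀)) W.functionField).rangeRestrict := by
    intro a b hab
    exact hinj (congrArg Subtype.val hab)
  let e : W.presheaf.stalk (q y₀) ≃+*
      (algebraMap (W.presheaf.stalk (q y₀)) W.functionField).range :=
    RingEquiv.ofBijective _
      ⟨hinj', (algebraMap (W.presheaf.stalk (q y₀)) W.functionField).rangeRestrict_surjective⟩
  let σ : Y.presheaf.stalk y₀ →+* W.presheaf.stalk (q y₀) :=
    e.symm.toRingHom.comp (τ.hom.codRestrict _ hτrange)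
  have hσ : ∀ b, algebraMap (W.presheaf.stalk (q y₀)) W.functionField (σ b) = τ.hom b := by
    intro b
    have : e (σ b) = τ.hom.codRestrict _ hτrange b := e.apply_symm_apply _
    exact congrArg Subtype.val this
  have hσloc : IsLocalHom σ := by
    constructor
    intro b hb
    by_contra hnb
    have h1 : b ∈ maximalIdeal (Y.presheaf.stalk y₀) := hnb
    obtain ⟨a, ha, ha'⟩ := hrange b
    have h2 : σ b = a := hinj ((hσ b).trans ha)
    exact (h2 ▸ ha' h1) hb
  let σ' : Y.presheaf.stalk y₀ ⟶ W.presheaf.stalk (q y₀) := CommRingCat.ofHom σ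
  have hστ : σ' ≫ toFF W (q y₀) = τ := by
    ext b
    change (toFF W (q y₀)).hom (σ b) = τ.hom b
    rw [toFF_hom]
    exact hσ b
  have hφc : (Spec.map σ' ≫ Y.fromSpecStalk y₀) (closedPoint (W.presheaf.stalk (q y₀))) = y₀ :=
    closedPoint_SpecMap_fromSpecStalk y₀ (W.presheaf.stalk (q y₀)) σ
  have hφg : Spec.map (toFF W (q y₀)) ≫ Spec.map σ' ≫ Y.fromSpecStalk y₀ = hK := by
    rw [← Spec.map_comp_assoc, hστ]
    exact factor_fromSpecStalk y₀ hK hsp
  refine ⟨Spec.map σ' ≫ Y.fromSpecStalk y₀, hφc, hφg, ?_⟩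
  refine hom_ext_of_local (toFF W (q y₀)) ?_ (q y₀) _ _ ?_ ?_ ?_
  · rw [toFF_hom]
    exact hinj
  · rw [Scheme.Hom.comp_apply, hφc]
  · rw [Scheme.fromSpecStalk_closedPoint]
  · rw [← Category.assoc, hφg, SpecMap_toFF, hKq]

include hKq in
/-- A local section through `y₀` when `q` is quasi-finite at `y₀` and `O_{W,q y₀}` is normal
(version with a `K(W)`-point of `Y`). -/
theorem exists_local_section_of_quasiFiniteAt' [LocallyOfFiniteType q] (y₀ : Y)
    [IsIntegrallyClosed (W.presheaf.stalk (q y₀))]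
    (hsp : hK (closedPoint W.functionField) ⤳ y₀) (hqf : q.QuasiFiniteAt y₀) :
    ∃ φ : Spec (W.presheaf.stalk (q y₀)) ⟶ Y,
      φ (closedPoint (W.presheaf.stalk (q y₀))) = y₀ ∧
      Spec.map (toFF W (q y₀)) ≫ φ = hK ∧ φ ≫ q = W.fromSpecStalk (q y₀) := by
  refine exists_local_section_of_range' q hK hKq y₀ hsp ?_
  set τ : Y.presheaf.stalk y₀ ⟶ W.functionField :=
    Y.presheaf.stalkSpecializes hsp ≫ Scheme.stalkClosedPointTo hK with hτ
  let _ : Algebra (W.presheaf.stalk (q y₀)) (Y.presheaf.stalk y₀) := (q.stalkMap y₀).hom.toAlgebra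
  have hess : Algebra.EssFiniteType (W.presheaf.stalk (q y₀)) (Y.presheaf.stalk y₀) :=
    LocallyOfFiniteType.stalkMap q y₀
  have hqf' : Algebra.QuasiFinite (W.presheaf.stalk (q y₀)) (Y.presheaf.stalk y₀) := hqf
  have hloc : IsLocalHom (algebraMap (W.presheaf.stalk (q y₀)) (Y.presheaf.stalk y₀)) :=
    inferInstanceAs (IsLocalHom (q.stalkMap y₀).hom)
  have hcomp : q.stalkMap y₀ ≫ τ = toFF W (q y₀) := by
    apply Spec.map_injective
    rw [← cancel_mono (W.fromSpecStalk (q y₀)), Spec.map_comp, Category.assoc,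
      Scheme.SpecMap_stalkMap_fromSpecStalk, ← Category.assoc, factor_fromSpecStalk y₀ hK hsp,
      SpecMap_toFF, hKq]
  let τa : Y.presheaf.stalk y₀ →ₐ[W.presheaf.stalk (q y₀)] W.functionField :=
    { τ.hom with
      commutes' := fun a => by
        have := congrArg (fun f => f.hom a) hcomp
        rw [toFF_hom] at this
        exact this }
  intro b
  obtain ⟨a, ha⟩ := Groth.Agent.H4ZMT.exists_eq_algebraMap τa b
  refine ⟨a, ha, fun hb => ?_⟩
  by_contra hna
  have hau : IsUnit a := by
    by_contra h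
    exact hna h
  exact hb ((Groth.Agent.H4ZMT.isUnit_iff_of_eq τa b a ha).2 hau)

omit [IsIntegral W] in
theorem range_eq_singleton {K : Type u} [Field K] (g : Spec (CommRingCat.of K) ⟶ Y) :
    Set.range g = {g (closedPoint K)} := by
  apply Set.eq_of_subset_of_subset
  · rintro _ ⟨s, rfl⟩
    have : s = closedPoint K := by
      apply PrimeSpectrum.ext
      change s.asIdeal = maximalIdeal K
      rw [Ideal.eq_bot_of_prime s.asIdeal, IsLocalRing.maximalIdeal_eq_bot]
    rw [this]
    rfl
  · rintro _ rfl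
    exact ⟨_, rfl⟩

include hKq in
/-- A local section through `y₀` when `y₀` is isolated among the points of the closure of the
image of the generic point lying in its fibre, and `O_{W,q y₀}` is normal. -/
theorem exists_local_section_of_isolated [LocallyOfFiniteType q] (y₀ : Y)
    [hic : IsIntegrallyClosed (W.presheaf.stalk (q y₀))]
    (hsp : hK (closedPoint W.functionField) ⤳ y₀)
    (O : Y.Opens) (hy₀O : y₀ ∈ O)
    (hiso : ∀ t : Y, t ∈ O → hK (closedPoint W.functionField) ⤳ t → q t = q y₀ → t = y₀) :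
    ∃ φ : Spec (W.presheaf.stalk (q y₀)) ⟶ Y,
      φ (closedPoint (W.presheaf.stalk (q y₀))) = y₀ ∧
      Spec.map (toFF W (q y₀)) ≫ φ = hK ∧ φ ≫ q = W.fromSpecStalk (q y₀) := by
  have hqc : QuasiCompact hK := ⟨fun U _ _ => (Set.toFinite _).isCompact⟩
  have hfac : hK.toImage ≫ hK.imageι = hK := hK.toImage_imageι
  have hrange : Set.range hK.imageι = closure {hK (closedPoint W.functionField)} := by
    rw [← range_eq_singleton hK, ← Scheme.Hom.support_ker]
    exact Scheme.IdealSheafData.range_subschemeι _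
  have hmem : y₀ ∈ Set.range hK.imageι := by
    rw [hrange]
    exact specializes_iff_mem_closure.1 hsp
  obtain ⟨z, rfl⟩ := hmem
  have hemb : Topology.IsEmbedding hK.imageι := hK.imageι.isEmbedding
  have hsp' : hK.toImage (closedPoint W.functionField) ⤳ z := by
    rw [← hemb.isInducing.specializes_iff, ← Scheme.Hom.comp_apply, hfac]
    exact hsp
  have hK'q : hK.toImage ≫ hK.imageι ≫ q = W.fromSpecStalk (genericPoint W) := by
    rw [← Category.assoc, hfac, hKq]
  have hqf : (hK.imageι ≫ q).QuasiFiniteAt z := by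
    rw [Scheme.Hom.quasiFiniteAt_iff_isOpen_singleton_asFiber,
      ← ((hK.imageι ≫ q).fiberHomeo ((hK.imageι ≫ q) z)).isOpen_image]
    simp only [Set.image_singleton, Scheme.Hom.asFiber, Homeomorph.apply_symm_apply]
    refine isOpen_induced_iff.2 ⟨hK.imageι ⁻¹' O, O.isOpen.preimage hK.imageι.continuous, ?_⟩
    ext ⟨t, ht⟩
    constructor
    · intro htO
      have h1 : hK.imageι t ∈ (O : Set Y) := htO
      have h2 : hK (closedPoint W.functionField) ⤳ hK.imageι t := by
        rw [specializes_iff_mem_closure, ← hrange]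
        exact ⟨t, rfl⟩
      have h3 : q (hK.imageι t) = q (hK.imageι z) := ht
      have h4 := hemb.injective (hiso _ h1 h2 h3)
      exact Subtype.ext h4
    · intro h
      have h4 : t = z := congrArg Subtype.val h
      subst h4
      exact hy₀O
  have hic' : IsIntegrallyClosed (W.presheaf.stalk ((hK.imageι ≫ q) z)) := hic
  obtain ⟨φ', h1, h2, h3⟩ := exists_local_section_of_quasiFiniteAt' (hK.imageι ≫ q) hK.toImage
    hK'q z hsp' hqf
  refine ⟨φ' ≫ hK.imageι, ?_, ?_, ?_⟩
  · rw [Scheme.Hom.comp_apply]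
    exact congrArg hK.imageι h1
  · rw [← Category.assoc]
    exact (congrArg (· ≫ hK.imageι) h2).trans hfac
  · rw [Category.assoc]
    exact h3

end Gen

end Groth.Agent.H4Rat
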