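import Mathlib
import Groth.Agent.Lib.helper4.Rat7

/-!
# Sections through quasi-finite points over normal points; local isomorphisms
-/

set_option autoImplicit false
universe u

namespace Groth.Agent.H4Rat

open AlgebraicGeometry CategoryTheory Limits TopologicalSpace IsLocalRing Groth.Agent.H4FF
open Groth.Agent.H4FunField

/-- A section through a point at which `q` is quasi-finite, over a neighbourhood of a normal
point of the integral base, extending a given `K(W)`-point. -/
theorem exists_section_of_quasiFiniteAt {W Y : Scheme.{u}} [IsIntegral W] (q : Y ⟶ W)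
    [LocallyOfFiniteType q] (hK : Spec W.functionField ⟶ Y)
    (hKq : hK ≫ q = W.fromSpecStalk (genericPoint W)) (y₀ : Y)
    [IsIntegrallyClosed (W.presheaf.stalk (q y₀))]
    (hsp : hK (closedPoint W.functionField) ⤳ y₀) (hqf : q.QuasiFiniteAt y₀) :
    ∃ (V₁ : W.Opens) (hV₁ : q y₀ ∈ V₁) (g₁ : V₁.toScheme ⟶ Y), g₁ ≫ q = V₁.ι ∧
      g₁ ⟨q y₀, hV₁⟩ = y₀ ∧
      ∀ hξ : genericPoint W ∈ V₁, V₁.fromSpecStalkOfMem (genericPoint W) hξ ≫ g₁ = hK := by
  obtain ⟨φ, hφc, hφg, hφq⟩ := exists_local_section_of_quasiFiniteAt' q hK hKq y₀ hsp hqf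
  obtain ⟨V₁, hxV₁, g₁, hg₁φ, hg₁q⟩ := spread_out_of_isGermInjective' (𝟙 W) q φ
    (by rw [hφq, Category.comp_id])
  rw [Category.comp_id] at hg₁q
  refine ⟨V₁, hxV₁, g₁, hg₁q, ?_, ?_⟩
  · have : g₁ ⟨q y₀, hxV₁⟩ = φ (closedPoint (W.presheaf.stalk (q y₀))) := by
      rw [hg₁φ, Scheme.Hom.comp_apply, fromSpecStalkOfMem_closedPoint]
    exact this.trans hφc
  · intro hξ
    rw [← hφg, hg₁φ, ← Category.assoc, SpecMap_toFF_fromSpecStalkOfMem]

/-- A section of `f` over an open of the target whose image contains the generic point of the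
integral source is an isomorphism onto an open subscheme on which `f` is an open immersion. -/
theorem exists_isOpenImmersion_of_section {X Y : Scheme.{u}} [IsIntegral X] (f : X ⟶ Y)
    (V₁ : Y.Opens) (g₁ : V₁.toScheme ⟶ X) (hg₁ : g₁ ≫ f = V₁.ι)
    (hgen : genericPoint X ∈ Set.range g₁) :
    ∃ U : X.Opens, (U : Set X) = Set.range g₁ ∧ IsOpenImmersion (U.ι ≫ f) := by
  have h1 : IsImmersion (g₁ ≫ f) := by rw [hg₁]; infer_instance
  have h2 : IsImmersion g₁ := IsImmersion.of_comp g₁ f
  have hlc : IsLocallyClosed (Set.range g₁) := g₁.isLocallyClosed_range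
  have hopen : IsOpen (Set.range g₁) := by
    obtain ⟨O, Z, hO, hZ, h⟩ := hlc
    have hZuniv : Z = Set.univ := by
      apply Set.eq_univ_of_univ_subset
      rw [← (genericPoint_spec X).def]
      apply hZ.closure_subset_iff.2
      rw [Set.singleton_subset_iff]
      have : genericPoint X ∈ O ∩ Z := h ▸ hgen
      exact this.2
    rw [h, hZuniv, Set.inter_univ]
    exact hO
  let U : X.Opens := ⟨Set.range g₁, hopen⟩
  have hr : Set.range g₁ ⊆ Set.range U.ι := by
    rw [Scheme.Opens.range_ι]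
    exact subset_rfl
  let g₁' : V₁.toScheme ⟶ U.toScheme := IsOpenImmersion.lift U.ι g₁ hr
  have hg₁' : g₁' ≫ U.ι = g₁ := IsOpenImmersion.lift_fac _ _ _
  have hsurj : Function.Surjective g₁' := by
    rintro ⟨x, v, rfl⟩
    refine ⟨v, ?_⟩
    apply Subtype.ext
    change U.ι (g₁' v) = g₁ v
    rw [← Scheme.Hom.comp_apply, hg₁']
  have hpre : IsPreimmersion g₁' := by
    have : IsPreimmersion (g₁' ≫ U.ι) := by rw [hg₁']; infer_instance
    exact IsPreimmersion.of_comp g₁' U.ι
  have hci : IsClosedImmersion g₁' := by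
    apply IsClosedImmersion.of_isPreimmersion
    rw [hsurj.range_eq]
    exact isClosed_univ
  have hsurj' : Surjective g₁' := ⟨hsurj⟩
  have hiso : IsIso g₁' := isIso_of_isClosedImmersion_of_surjective g₁'
  refine ⟨U, rfl, ?_⟩
  have : U.ι ≫ f = inv g₁' ≫ V₁.ι := by
    rw [IsIso.eq_inv_comp, ← Category.assoc, hg₁', hg₁]
  rw [this]
  infer_instance

/-- A birational morphism of integral schemes gives a `K(Y)`-point of `X` over the generic point
of `Y`. -/
theorem exists_generic_lift {X Y : Scheme.{u}} [IsIntegral X] [IsIntegral Y] (f : X ⟶ Y)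
    (hgen : f (genericPoint X) = genericPoint Y) (hbir : IsIso (f.stalkMap (genericPoint X))) :
    ∃ hK : Spec Y.functionField ⟶ X, hK ≫ f = Y.fromSpecStalk (genericPoint Y) ∧
      hK (closedPoint Y.functionField) = genericPoint X := by
  have hsp : genericPoint Y ⤳ f (genericPoint X) := by rw [hgen]
  let β : X.presheaf.stalk (genericPoint X) ⟶ Y.functionField :=
    inv (f.stalkMap (genericPoint X)) ≫ Y.presheaf.stalkSpecializes hsp
  have hβiso : IsIso (Y.presheaf.stalkSpecializes hsp) := by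
    have hsp' : f (genericPoint X) ⤳ genericPoint Y := by rw [hgen]
    refine ⟨Y.presheaf.stalkSpecializes hsp', ?_, ?_⟩
    · rw [TopCat.Presheaf.stalkSpecializes_comp, TopCat.Presheaf.stalkSpecializes_refl]
    · rw [TopCat.Presheaf.stalkSpecializes_comp, TopCat.Presheaf.stalkSpecializes_refl]
  have hβ : IsIso β := inferInstance
  have hloc : IsLocalHom β.hom := isLocalHom_of_isIso β
  refine ⟨Spec.map β ≫ X.fromSpecStalk (genericPoint X), ?_, ?_⟩
  · rw [Category.assoc, ← Scheme.SpecMap_stalkMap_fromSpecStalk, ← Spec.map_comp_assoc]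
    have : f.stalkMap (genericPoint X) ≫ β = Y.presheaf.stalkSpecializes hsp := by
      rw [IsIso.hom_inv_id_assoc]
    rw [this, Scheme.SpecMap_stalkSpecializes_fromSpecStalk]
  · exact closedPoint_SpecMap_fromSpecStalk (genericPoint X) Y.functionField β.hom

/-- An injective local isomorphism is an open immersion. -/
theorem isOpenImmersion_of_local_of_injective {X Y : Scheme.{u}} (f : X ⟶ Y)
    (h : ∀ x : X, ∃ U : X.Opens, x ∈ U ∧ IsOpenImmersion (U.ι ≫ f))
    (hinj : Function.Injective f) : IsOpenImmersion f := by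
  have hopen : IsOpenMap f := by
    intro O hO
    rw [isOpen_iff_forall_mem_open]
    rintro _ ⟨x, hxO, rfl⟩
    obtain ⟨U, hxU, hU⟩ := h x
    refine ⟨(U.ι ≫ f) '' (U.ι ⁻¹' O), ?_, ?_, ?_⟩
    · rintro _ ⟨u, hu, rfl⟩
      exact ⟨U.ι u, hu, rfl⟩
    · exact (U.ι ≫ f).isOpenEmbedding.isOpenMap _ (hO.preimage U.ι.continuous)
    · exact ⟨⟨x, hxU⟩, hxO, rfl⟩
  have hemb : Topology.IsOpenEmbedding f :=
    Topology.IsOpenEmbedding.of_continuous_injective_isOpenMap f.continuous hinj hopen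
  have hstalk : ∀ x, IsIso (f.stalkMap x) := by
    intro x
    obtain ⟨U, hxU, hU⟩ := h x
    have h2 := Scheme.Hom.stalkMap_comp U.ι f ⟨x, hxU⟩
    have h3 : IsIso (U.ι.stalkMap ⟨x, hxU⟩) := inferInstance
    have h1 : IsIso ((U.ι ≫ f).stalkMap ⟨x, hxU⟩) := inferInstance
    exact @IsIso.of_isIso_fac_right _ _ _ _ _ _ _ _ h3 h1 h2.symm
  exact IsOpenImmersion.of_isIso_stalkMap f hemb

end Groth.Agent.H4Rat
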