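import Mathlib
import Groth.Agent.Lib.helper4.Rat9
import Groth.Agent.Lib.helper4.FlatBir

/-!
# Birational morphisms with local sections are local isomorphisms; the flat case
-/

set_option autoImplicit false
universe u

namespace Groth.Agent.H4Rat

open AlgebraicGeometry CategoryTheory Limits TopologicalSpace IsLocalRing Groth.Agent.H4FF
open Groth.Agent.H4FunField

section

variable {X Y : Scheme.{u}} [IsIntegral X] [IsIntegral Y] (f : X ⟶ Y)

omit [IsIntegral X] in
/-- Spreading out a local section. -/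
theorem exists_section_of_local_section [LocallyOfFiniteType f]
    (hK : Spec Y.functionField ⟶ X) (y : Y) (φ : Spec (Y.presheaf.stalk y) ⟶ X)
    (hφg : Spec.map (toFF Y y) ≫ φ = hK) (hφq : φ ≫ f = Y.fromSpecStalk y) :
    ∃ (V₁ : Y.Opens) (hV₁ : y ∈ V₁) (g₁ : V₁.toScheme ⟶ X), g₁ ≫ f = V₁.ι ∧
      g₁ ⟨y, hV₁⟩ = φ (closedPoint (Y.presheaf.stalk y)) ∧
      ∀ hξ : genericPoint Y ∈ V₁, V₁.fromSpecStalkOfMem (genericPoint Y) hξ ≫ g₁ = hK := by
  obtain ⟨V₁, hxV₁, g₁, hg₁φ, hg₁q⟩ := spread_out_of_isGermInjective' (𝟙 Y) f φ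
    (by rw [hφq, Category.comp_id])
  rw [Category.comp_id] at hg₁q
  refine ⟨V₁, hxV₁, g₁, hg₁q, ?_, ?_⟩
  · rw [hg₁φ, Scheme.Hom.comp_apply, fromSpecStalkOfMem_closedPoint]
  · intro hξ
    rw [← hφg, hg₁φ, ← Category.assoc, SpecMap_toFF_fromSpecStalkOfMem]

/-- A birational morphism of integral schemes admitting local sections through every point is a
local isomorphism, and an open immersion if separated. -/
theorem isLocalIso_of_local_sections [LocallyOfFiniteType f]
    (hK : Spec Y.functionField ⟶ X)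
    (hKpt : hK (closedPoint Y.functionField) = genericPoint X)
    (H : ∀ x : X, ∃ φ : Spec (Y.presheaf.stalk (f x)) ⟶ X,
      φ (closedPoint (Y.presheaf.stalk (f x))) = x ∧ Spec.map (toFF Y (f x)) ≫ φ = hK ∧
        φ ≫ f = Y.fromSpecStalk (f x)) :
    (∀ x : X, ∃ U : X.Opens, x ∈ U ∧ IsOpenImmersion (U.ι ≫ f)) ∧
      (IsSeparated f → IsOpenImmersion f) := by
  have hsec : ∀ x : X, ∃ (V₁ : Y.Opens) (hV₁ : f x ∈ V₁) (g₁ : V₁.toScheme ⟶ X),
      g₁ ≫ f = V₁.ι ∧ g₁ ⟨f x, hV₁⟩ = x ∧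
      (∀ hξ : genericPoint Y ∈ V₁, V₁.fromSpecStalkOfMem (genericPoint Y) hξ ≫ g₁ = hK) ∧
      genericPoint X ∈ Set.range g₁ := by
    intro x
    obtain ⟨φ, hφc, hφg, hφq⟩ := H x
    obtain ⟨V₁, hV₁, g₁, h1, h2, h3⟩ := exists_section_of_local_section f hK (f x) φ hφg hφq
    refine ⟨V₁, hV₁, g₁, h1, h2.trans hφc, h3, ?_⟩
    have hξ : genericPoint Y ∈ V₁ :=
      (Groth.Agent.H4FF.genericPoint_specializes (f x)).mem_open V₁.isOpen hV₁
    refine ⟨V₁.fromSpecStalkOfMem (genericPoint Y) hξ (closedPoint Y.functionField), ?_⟩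
    rw [← Scheme.Hom.comp_apply, h3 hξ, hKpt]
  have hloc : ∀ x : X, ∃ U : X.Opens, x ∈ U ∧ IsOpenImmersion (U.ι ≫ f) := by
    intro x
    obtain ⟨V₁, hV₁, g₁, h1, h2, -, h4⟩ := hsec x
    obtain ⟨U, hU, hUo⟩ := exists_isOpenImmersion_of_section f V₁ g₁ h1 h4
    refine ⟨U, ?_, hUo⟩
    change x ∈ (U : Set X)
    rw [hU]
    exact ⟨_, h2⟩
  refine ⟨hloc, fun hsep => ?_⟩
  apply isOpenImmersion_of_local_of_injective f hloc
  intro x₁ x₂ h12
  obtain ⟨V₁, hV₁, g₁, h1, h2, h3, -⟩ := hsec x₁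
  obtain ⟨V₂, hV₂, g₂, h1', h2', h3', -⟩ := hsec x₂
  have hξ : genericPoint Y ∈ V₁ ⊓ V₂ :=
    ⟨(Groth.Agent.H4FF.genericPoint_specializes (f x₁)).mem_open V₁.isOpen hV₁,
      (Groth.Agent.H4FF.genericPoint_specializes (f x₂)).mem_open V₂.isOpen hV₂⟩
  have hag : Y.homOfLE (inf_le_left : V₁ ⊓ V₂ ≤ V₁) ≫ g₁ =
      Y.homOfLE (inf_le_right : V₁ ⊓ V₂ ≤ V₂) ≫ g₂ := by
    refine ext_of_isDominant_of_isSeparated f ?_
      ((V₁ ⊓ V₂).fromSpecStalkOfMem (genericPoint Y) hξ) ?_
    · rw [Category.assoc, Category.assoc, h1, h1', Scheme.homOfLE_ι, Scheme.homOfLE_ι]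
    · rw [fromSpecStalkOfMem_homOfLE_assoc, fromSpecStalkOfMem_homOfLE_assoc, h3 hξ.1, h3' hξ.2]
  have hmem : f x₁ ∈ V₁ ⊓ V₂ := ⟨hV₁, h12 ▸ hV₂⟩
  have e1 : g₁ ⟨f x₁, hV₁⟩ = (Y.homOfLE (inf_le_left : V₁ ⊓ V₂ ≤ V₁) ≫ g₁) ⟨f x₁, hmem⟩ := by
    rw [Scheme.Hom.comp_apply, homOfLE_mk]
  have e2 : g₂ ⟨f x₂, hV₂⟩ = (Y.homOfLE (inf_le_right : V₁ ⊓ V₂ ≤ V₂) ≫ g₂) ⟨f x₁, hmem⟩ := by
    rw [Scheme.Hom.comp_apply, homOfLE_mk]
    congr 2
    exact h12.symm
  rw [← h2, ← h2', e1, e2, hag]

/-- A birational morphism of integral schemes gives an isomorphism of function fields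
`β : K(X) ≅ K(Y)` such that `Spec K(Y) → Spec K(X) → X` lies over the generic point of `Y`. -/
theorem exists_generic_lift' (hgen : f (genericPoint X) = genericPoint Y)
    (hbir : IsIso (f.stalkMap (genericPoint X))) :
    ∃ β : X.functionField ⟶ Y.functionField, IsIso β ∧
      (Spec.map β ≫ X.fromSpecStalk (genericPoint X)) ≫ f = Y.fromSpecStalk (genericPoint Y) := by
  have hsp : genericPoint Y ⤳ f (genericPoint X) := by rw [hgen]
  let β : X.presheaf.stalk (genericPoint X) ⟶ Y.functionField :=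
    inv (f.stalkMap (genericPoint X)) ≫ Y.presheaf.stalkSpecializes hsp
  have hβiso : IsIso (Y.presheaf.stalkSpecializes hsp) := by
    have hsp' : f (genericPoint X) ⤳ genericPoint Y := by rw [hgen]
    refine ⟨Y.presheaf.stalkSpecializes hsp', ?_, ?_⟩
    · rw [TopCat.Presheaf.stalkSpecializes_comp, TopCat.Presheaf.stalkSpecializes_refl]
    · rw [TopCat.Presheaf.stalkSpecializes_comp, TopCat.Presheaf.stalkSpecializes_refl]
  have hβ : IsIso β := inferInstance
  refine ⟨β, hβ, ?_⟩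
  rw [Category.assoc, ← Scheme.SpecMap_stalkMap_fromSpecStalk, ← Spec.map_comp_assoc]
  have : f.stalkMap (genericPoint X) ≫ β = Y.presheaf.stalkSpecializes hsp := by
    rw [IsIso.hom_inv_id_assoc]
  rw [this, Scheme.SpecMap_stalkSpecializes_fromSpecStalk]

omit [IsIntegral Y] in
theorem closedPoint_generic_lift {K : CommRingCat.{u}} [IsLocalRing K]
    (β : X.functionField ⟶ K) [IsIso β] :
    (Spec.map β ≫ X.fromSpecStalk (genericPoint X)) (closedPoint K) = genericPoint X := by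
  have hloc : IsLocalHom β.hom := isLocalHom_of_isIso β
  exact closedPoint_SpecMap_fromSpecStalk (genericPoint X) K β.hom

omit [IsIntegral Y] in
theorem tau_eq {K : CommRingCat.{u}} [IsLocalRing K] (β : X.functionField ⟶ K) (x : X)
    (hsp : (Spec.map β ≫ X.fromSpecStalk (genericPoint X)) (closedPoint K) ⤳ x) :
    X.presheaf.stalkSpecializes hsp ≫
      Scheme.stalkClosedPointTo (Spec.map β ≫ X.fromSpecStalk (genericPoint X)) =
        toFF X x ≫ β := by
  apply Spec.map_injective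
  rw [← cancel_mono (X.fromSpecStalk x), factor_fromSpecStalk x _ hsp, Spec.map_comp,
    Category.assoc, SpecMap_toFF]

/-- Local sections through every point for a flat birational morphism of integral schemes. -/
theorem exists_local_section_of_flat [Flat f] (β : X.functionField ⟶ Y.functionField) [IsIso β]
    (hKf : (Spec.map β ≫ X.fromSpecStalk (genericPoint X)) ≫ f =
      Y.fromSpecStalk (genericPoint Y)) (x : X) :
    ∃ φ : Spec (Y.presheaf.stalk (f x)) ⟶ X,
      φ (closedPoint (Y.presheaf.stalk (f x))) = x ∧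
      Spec.map (toFF Y (f x)) ≫ φ = Spec.map β ≫ X.fromSpecStalk (genericPoint X) ∧
      φ ≫ f = Y.fromSpecStalk (f x) := by
  set hK : Spec Y.functionField ⟶ X := Spec.map β ≫ X.fromSpecStalk (genericPoint X) with hKdef
  have hsp : hK (closedPoint Y.functionField) ⤳ x := by
    rw [hKdef, closedPoint_generic_lift]
    exact Groth.Agent.H4FF.genericPoint_specializes x
  refine exists_local_section_of_range' f hK hKf x hsp ?_
  set τ : X.presheaf.stalk x ⟶ Y.functionField :=
    X.presheaf.stalkSpecializes hsp ≫ Scheme.stalkClosedPointTo hK with hτ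
  have hτeq : τ = toFF X x ≫ β := tau_eq β x hsp
  have hτinj : Function.Injective τ.hom := by
    rw [hτeq, CommRingCat.hom_comp, RingHom.coe_comp]
    refine Function.Injective.comp ?_ ?_
    · exact ((ConcreteCategory.isIso_iff_bijective β).1 inferInstance).1
    · rw [toFF_hom]
      exact IsFractionRing.injective _ _
  let _ : Algebra (Y.presheaf.stalk (f x)) (X.presheaf.stalk x) := (f.stalkMap x).hom.toAlgebra
  have hflat : Module.Flat (Y.presheaf.stalk (f x)) (X.presheaf.stalk x) := Flat.stalkMap f x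
  have hloc : IsLocalHom (algebraMap (Y.presheaf.stalk (f x)) (X.presheaf.stalk x)) :=
    inferInstanceAs (IsLocalHom (f.stalkMap x).hom)
  have hcomp : f.stalkMap x ≫ τ = toFF Y (f x) := by
    apply Spec.map_injective
    rw [← cancel_mono (Y.fromSpecStalk (f x)), Spec.map_comp, Category.assoc,
      Scheme.SpecMap_stalkMap_fromSpecStalk, ← Category.assoc, factor_fromSpecStalk x hK hsp,
      SpecMap_toFF, hKf]
  let τa : X.presheaf.stalk x →ₐ[Y.presheaf.stalk (f x)] Y.functionField :=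
    { τ.hom with
      commutes' := fun a => by
        have := congrArg (fun g => g.hom a) hcomp
        rw [toFF_hom] at this
        exact this }
  intro b
  obtain ⟨a, ha⟩ := Groth.Agent.H4ZMT.exists_eq_algebraMap_of_flat τa hτinj b
  refine ⟨a, ha, fun hb => ?_⟩
  by_contra hna
  have hau : IsUnit a := by
    by_contra h
    exact hna h
  exact hb ((Groth.Agent.H4ZMT.isUnit_iff_of_eq τa b a ha).2 hau)

/-- A flat birational morphism locally of finite type between integral schemes is a local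
isomorphism, and an open immersion if separated. -/
theorem isLocalIso_of_flat_birational [Flat f] [LocallyOfFiniteType f]
    (hgen : f (genericPoint X) = genericPoint Y)
    (hbir : IsIso (f.stalkMap (genericPoint X))) :
    (∀ x : X, ∃ U : X.Opens, x ∈ U ∧ IsOpenImmersion (U.ι ≫ f)) ∧
      (IsSeparated f → IsOpenImmersion f) := by
  obtain ⟨β, hβ, hKf⟩ := exists_generic_lift' f hgen hbir
  exact isLocalIso_of_local_sections f (Spec.map β ≫ X.fromSpecStalk (genericPoint X))
    (closedPoint_generic_lift β) (fun x => exists_local_section_of_flat f β hKf x)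

end

end Groth.Agent.H4Rat
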