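import Mathlib

/-!
# Valuation subrings dominating a (normal) local domain
-/

set_option autoImplicit false
universe u

namespace Groth.Agent.H4Val

open IsLocalRing

section

variable (A : Type*) [CommRing A] [IsDomain A] [IsLocalRing A] (K : Type*) [Field K] [Algebra A K]
  [IsFractionRing A K]

theorem exists_valuationSubring_dominating_aux (R₀ : LocalSubring K)
    (hR₀ : R₀.toSubring = (algebraMap A K).range) (V : ValuationSubring K)
    (hV : R₀ ≤ V.toLocalSubring) :
    (∀ a, algebraMap A K a ∈ V) ∧ (∀ a ∈ maximalIdeal A, algebraMap A K a ∈ V.nonunits) := by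
  obtain ⟨hRV, hloc⟩ := hV
  have hRV' : ∀ a, algebraMap A K a ∈ V := fun a => hRV (hR₀ ▸ ⟨a, rfl⟩)
  refine ⟨hRV', fun g hgm => ?_⟩
  have hmem : algebraMap A K g ∈ R₀.toSubring := hR₀ ▸ ⟨g, rfl⟩
  have h1 : ¬ IsUnit (⟨algebraMap A K g, hmem⟩ : R₀.toSubring) := by
    intro hu
    obtain ⟨c, hc⟩ := hu.exists_right_inv
    have hcm : (c : K) ∈ (algebraMap A K).range := hR₀ ▸ c.2
    obtain ⟨c', hc'⟩ := hcm
    have h2 : algebraMap A K (g * c') = 1 := by
      rw [map_mul, hc']
      exact congrArg Subtype.val hc
    have h3 : g * c' = 1 := IsFractionRing.injective A K (by rw [h2, map_one])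
    exact hgm (IsUnit.of_mul_eq_one _ h3)
  have h4 : ¬ IsUnit (Subring.inclusion hRV ⟨algebraMap A K g, hmem⟩) := fun hu => h1 (hloc.1 _ hu)
  rw [ValuationSubring.mem_nonunits_iff_exists_mem_maximalIdeal]
  exact ⟨hRV' g, h4⟩

theorem isLocalRing_range : IsLocalRing (algebraMap A K).range := by
  have hinj : Function.Injective (algebraMap A K).rangeRestrict := by
    intro a b hab
    exact IsFractionRing.injective A K (congrArg Subtype.val hab)
  let e : A ≃+* (algebraMap A K).range :=
    RingEquiv.ofBijective _ ⟨hinj, (algebraMap A K).rangeRestrict_surjective⟩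
  exact e.isLocalRing

/-- Some valuation subring of the fraction field dominates the local domain `A`. -/
theorem exists_valuationSubring_dominating :
    ∃ O : ValuationSubring K, (∀ a, algebraMap A K a ∈ O) ∧
      (∀ a ∈ maximalIdeal A, algebraMap A K a ∈ O.nonunits) := by
  have hlocR : IsLocalRing (algebraMap A K).range := isLocalRing_range A K
  let R₀ : LocalSubring K := ⟨(algebraMap A K).range⟩
  obtain ⟨V, hV⟩ := LocalSubring.exists_le_valuationSubring R₀
  exact ⟨V, exists_valuationSubring_dominating_aux A K R₀ rfl V hV⟩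

/-- A normal local domain is the intersection of the valuation subrings dominating it. -/
theorem exists_valuationSubring_dominating_not_mem [IsIntegrallyClosed A] (t : K)
    (ht : t ∉ (algebraMap A K).range) :
    ∃ O : ValuationSubring K, (∀ a, algebraMap A K a ∈ O) ∧
      (∀ a ∈ maximalIdeal A, algebraMap A K a ∈ O.nonunits) ∧ t ∉ O := by
  have hlocR : IsLocalRing (algebraMap A K).range := isLocalRing_range A K
  let R₀ : LocalSubring K := ⟨(algebraMap A K).range⟩
  have hsurj : Function.Surjective (algebraMap A K).rangeRestrict :=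
    (algebraMap A K).rangeRestrict_surjective
  have hic : IsIntegrallyClosedIn (algebraMap A K).range K := by
    rw [Subring.isIntegrallyClosedIn_iff]
    intro x hx
    have hxA : IsIntegral A x := by
      obtain ⟨p, hp, hpx⟩ := hx
      obtain ⟨p', hp', hdeg, hmon⟩ := Polynomial.lifts_and_degree_eq_and_monic
        ((Polynomial.mem_lifts p).2 (Polynomial.map_surjective _ hsurj p)) hp
      refine ⟨p', hmon, ?_⟩
      rw [← hpx, ← hp', Polynomial.eval₂_map]
      rfl
    obtain ⟨a, ha⟩ := (IsIntegrallyClosed.isIntegral_iff (R := A) (K := K)).mp hxA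
    exact ⟨a, ha⟩
  have hic' : IsIntegrallyClosedIn R₀.toSubring K := hic
  have htR : t ∉ R₀.toSubring := ht
  obtain ⟨V, hV, htV⟩ :=
    LocalSubring.exists_le_valuationSubring_of_isIntegrallyClosedIn (x := t) (R := R₀) htR
  obtain ⟨h1, h2⟩ := exists_valuationSubring_dominating_aux A K R₀ rfl V hV
  exact ⟨V, h1, h2, htV⟩

end

end Groth.Agent.H4Val
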