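import Mathlib
import Groth.Agent.Lib.helper4.Rat10
import Groth.Agent.Lib.helper4.Val2

/-!
# Universally closed, injective, birational morphisms onto a normal integral scheme
-/

set_option autoImplicit false
universe u

namespace Groth.Agent.H4Rat

open AlgebraicGeometry CategoryTheory Limits TopologicalSpace IsLocalRing Groth.Agent.H4FF
open Groth.Agent.H4FunField Topology

theorem residue_bijective_of_isField {X : Scheme.{u}} (x : X)
    (h : IsField (X.presheaf.stalk x)) : Function.Bijective (X.residue x).hom := by
  refine ⟨?_, IsLocalRing.residue_surjective⟩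
  have hm : maximalIdeal (X.presheaf.stalk x) = ⊥ :=
    IsLocalRing.isField_iff_maximalIdeal_eq.1 h
  rw [injective_iff_map_eq_zero]
  intro a ha
  have : a ∈ maximalIdeal (X.presheaf.stalk x) := (IsLocalRing.residue_eq_zero_iff a).1 ha
  rw [hm] at this
  exact this

theorem isIso_stalkMap_generic {X Y : Scheme.{u}} [IsIntegral X] [IsIntegral Y] (f : X ⟶ Y)
    (hgen : f (genericPoint X) = genericPoint Y)
    (hbir : Function.Bijective (f.residueFieldMap (genericPoint X)).hom) :
    IsIso (f.stalkMap (genericPoint X)) := by
  have hX : IsField (X.presheaf.stalk (genericPoint X)) := Field.toIsField X.functionField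
  have hY : IsField (Y.presheaf.stalk (f (genericPoint X))) := by
    rw [hgen]
    exact Field.toIsField Y.functionField
  have h1 := residue_bijective_of_isField (genericPoint X) hX
  have h2 := residue_bijective_of_isField (f (genericPoint X)) hY
  have h3 := Scheme.residue_residueFieldMap f (genericPoint X)
  have h4 : Function.Bijective
      ((X.residue (genericPoint X)).hom ∘ (f.stalkMap (genericPoint X)).hom) := by
    have : (X.residue (genericPoint X)).hom ∘ (f.stalkMap (genericPoint X)).hom =
        (f.residueFieldMap (genericPoint X)).hom ∘ (Y.residue (f (genericPoint X))).hom := by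
      ext a
      exact (congrArg (fun g => g.hom a) h3).symm
    rw [this]
    exact hbir.comp h2
  rw [ConcreteCategory.isIso_iff_bijective]
  exact ⟨Function.Injective.of_comp h4.1, by
    intro b
    obtain ⟨a, ha⟩ := h4.2 ((X.residue (genericPoint X)).hom b)
    exact ⟨a, h1.1 ha⟩⟩

section

variable {X Y : Scheme.{u}} [IsIntegral X] [IsIntegral Y] (f : X ⟶ Y)

/-- For a universally closed morphism with injective underlying map, birational onto a normal
integral scheme, every stalk map is bijective. -/
theorem stalkMap_bijective_of_closed_injective [UniversallyClosed f]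
    (hinj : Function.Injective f.base)
    (hN : ∀ y : Y, IsIntegrallyClosed (Y.presheaf.stalk y))
    (β : X.functionField ⟶ Y.functionField) [IsIso β]
    (hKf : (Spec.map β ≫ X.fromSpecStalk (genericPoint X)) ≫ f =
      Y.fromSpecStalk (genericPoint Y)) (x : X) :
    Function.Bijective (f.stalkMap x).hom := by
  set hK : Spec Y.functionField ⟶ X := Spec.map β ≫ X.fromSpecStalk (genericPoint X) with hKdef
  have hsp : hK (closedPoint Y.functionField) ⤳ x := by
    rw [hKdef, closedPoint_generic_lift]
    exact Groth.Agent.H4FF.genericPoint_specializes x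
  set τ : X.presheaf.stalk x ⟶ Y.functionField :=
    X.presheaf.stalkSpecializes hsp ≫ Scheme.stalkClosedPointTo hK with hτ
  have hτeq : τ = toFF X x ≫ β := tau_eq β x hsp
  have hτinj : Function.Injective τ.hom := by
    rw [hτeq, CommRingCat.hom_comp, RingHom.coe_comp]
    refine Function.Injective.comp ?_ ?_
    · exact ((ConcreteCategory.isIso_iff_bijective β).1 inferInstance).1
    · rw [toFF_hom]
      exact IsFractionRing.injective _ _
  have hcomp : f.stalkMap x ≫ τ = toFF Y (f x) := by
    apply Spec.map_injective
    rw [← cancel_mono (Y.fromSpecStalk (f x)), Spec.map_comp, Category.assoc,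
      Scheme.SpecMap_stalkMap_fromSpecStalk, ← Category.assoc, factor_fromSpecStalk x hK hsp,
      SpecMap_toFF, hKf]
  have hcomp' : ∀ a, τ.hom ((f.stalkMap x).hom a) =
      algebraMap (Y.presheaf.stalk (f x)) Y.functionField a := by
    intro a
    have := congrArg (fun g => g.hom a) hcomp
    rw [toFF_hom] at this
    exact this
  have hrange : ∀ b, τ.hom b ∈ (algebraMap (Y.presheaf.stalk (f x)) Y.functionField).range := by
    intro b
    by_contra hb
    have _ := hN (f x)
    obtain ⟨O, h1, h2, htO⟩ := Groth.Agent.H4Val.exists_valuationSubring_dominating_not_mem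
      (Y.presheaf.stalk (f x)) Y.functionField (τ.hom b) hb
    have hdom : Groth.Agent.H4FF.Dominates O (f x) :=
      ⟨h1, fun a ha => (ValuationSubring.mem_nonunits_iff (A := O)).1 (h2 a ha)⟩
    obtain ⟨l, hl1, hl2⟩ := Groth.Agent.H4FF.lift_of_dominates O (f x) hdom
    have hu := (UniversallyClosed.eq_valuativeCriterion ▸ (inferInstance : UniversallyClosed f) :
      (ValuativeCriterion.Existence ⊓ @QuasiCompact) f).1
    let S : ValuativeCommSq f :=
      { R := O
        K := Y.functionField
        i₁ := hK
        i₂ := l
        commSq := ⟨by rw [hKf, ← hl2]; rfl⟩ }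
    obtain ⟨⟨l', hl'1, hl'2⟩⟩ := hu S
    have hl'x : l' (closedPoint O) = x := by
      apply hinj
      have : (l' ≫ f) (closedPoint O) = f x := by
        rw [hl'2]
        exact hl1
      exact this
    exact htO (mem_of_lift O l' hK hl'1 x hl'x hsp b).1
  refine ⟨?_, fun b => ?_⟩
  · intro a a' haa
    apply IsFractionRing.injective (Y.presheaf.stalk (f x)) Y.functionField
    rw [← hcomp', ← hcomp', haa]
  · obtain ⟨a, ha⟩ := hrange b
    refine ⟨a, hτinj ?_⟩
    rw [hcomp', ha]

/-- A universally closed, injective, birational morphism from an integral scheme onto a normal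
integral scheme is an isomorphism. -/
theorem isIso_of_closed_injective_birational [UniversallyClosed f]
    (hinj : Function.Injective f.base)
    (hN : ∀ y : Y, IsIntegrallyClosed (Y.presheaf.stalk y))
    (hgen : f (genericPoint X) = genericPoint Y)
    (hbir : IsIso (f.stalkMap (genericPoint X))) : IsIso f := by
  obtain ⟨β, hβ, hKf⟩ := exists_generic_lift' f hgen hbir
  have hst : ∀ x, IsIso (f.stalkMap x) := fun x =>
    (ConcreteCategory.isIso_iff_bijective _).2
      (stalkMap_bijective_of_closed_injective f hinj hN β hKf x)
  have hcl : IsClosedMap f.base := f.isClosedMap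
  have hsurj : Function.Surjective f.base := by
    have hr : IsClosed (Set.range f.base) := hcl.isClosed_range
    have hmem : genericPoint Y ∈ Set.range f.base := ⟨genericPoint X, hgen⟩
    have : closure {genericPoint Y} ⊆ Set.range f.base :=
      hr.closure_subset_iff.2 (Set.singleton_subset_iff.2 hmem)
    rw [(genericPoint_spec Y).def] at this
    intro y
    exact this (Set.mem_univ y)
  have hhomeo : IsHomeomorph f.base :=
    isHomeomorph_iff_continuous_isClosedMap_bijective.2 ⟨f.continuous, hcl, hinj, hsurj⟩
  have hopen : IsOpenEmbedding f.base := hhomeo.isOpenEmbedding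
  have hoi : IsOpenImmersion f := IsOpenImmersion.of_isIso_stalkMap f hopen
  have : Epi f.base := (TopCat.epi_iff_surjective _).2 hsurj
  exact (isIso_iff_isOpenImmersion_and_epi_base f).2 ⟨hoi, this⟩

end

end Groth.Agent.H4Rat
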