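import Mathlib
import Groth.Agent.Lib.helper4.GenFin5
import Groth.Agent.Lib.helper4.Rat12

/-!
# Generic finiteness for dominant morphisms of integral schemes
-/

set_option autoImplicit false
universe u

namespace Groth.Agent.H4GF

open AlgebraicGeometry CategoryTheory TopologicalSpace Polynomial Groth.Agent.H4FU

variable {X Y : Scheme.{u}} (f : X ⟶ Y)

/-- A dominant morphism of irreducible schemes maps the generic point to the generic point. -/
theorem map_genericPoint_of_isDominant [IrreducibleSpace X] [IrreducibleSpace Y] [IsDominant f] :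
    f (genericPoint X) = genericPoint Y := by
  have hgen : IsGenericPoint (f (genericPoint X)) (⊤ : Set Y) := by
    rw [isGenericPoint_def]
    apply top_unique
    have h1 : Set.range f ⊆ closure {f (genericPoint X)} := by
      rw [← Set.image_univ, ← (genericPoint_spec X).def, ← Set.image_singleton]
      exact image_closure_subset_closure_image f.continuous
    have h2 : closure (Set.range f) ⊆ closure {f (genericPoint X)} :=
      isClosed_closure.closure_subset_iff.2 h1
    rw [f.denseRange.closure_eq] at h2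
    exact h2
  exact hgen.eq (genericPoint_spec Y)

theorem genericPoint_no_generization [IrreducibleSpace Y] (y : Y) (hy : y ⤳ genericPoint Y) :
    y = genericPoint Y :=
  (hy.antisymm ((genericPoint_spec Y).specializes trivial)).eq

/-- Finiteness of the residue field extension at a point whose stalks are fields is equivalent
to quasi-finiteness at the point. -/
theorem quasiFiniteAt_iff_finite_residueFieldMap (x : X) (hX : IsField (X.presheaf.stalk x))
    (hY : IsField (Y.presheaf.stalk (f x))) :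
    f.QuasiFiniteAt x ↔ (f.residueFieldMap x).hom.Finite := by
  have h1 := Groth.Agent.H4Rat.residue_bijective_of_isField x hX
  have h2 := Groth.Agent.H4Rat.residue_bijective_of_isField (f x) hY
  have h3 : (f.residueFieldMap x).hom.comp (Y.residue (f x)).hom =
      (X.residue x).hom.comp (f.stalkMap x).hom := by
    rw [← CommRingCat.hom_comp, ← CommRingCat.hom_comp, Scheme.residue_residueFieldMap]
  have hqf : f.QuasiFiniteAt x ↔ (f.stalkMap x).hom.Finite := by
    let _ : Field (Y.presheaf.stalk (f x)) := hY.toField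
    change (f.stalkMap x).hom.QuasiFinite ↔ _
    algebraize [(f.stalkMap x).hom]
    exact Algebra.QuasiFinite.iff_of_isArtinianRing
  rw [hqf]
  constructor
  · intro h
    have h4 : ((X.residue x).hom.comp (f.stalkMap x).hom).Finite :=
      (RingHom.Finite.of_surjective _ h1.2).comp h
    rw [← h3] at h4
    exact RingHom.Finite.of_comp_finite h4
  · intro h
    have h4 : ((f.residueFieldMap x).hom.comp (Y.residue (f x)).hom).Finite :=
      h.comp (RingHom.Finite.of_surjective _ h2.2)
    rw [h3] at h4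
    let e : X.presheaf.stalk x ≃+* X.residueField x := RingEquiv.ofBijective _ h1
    have h5 : (f.stalkMap x).hom =
        (e.symm : X.residueField x →+* X.presheaf.stalk x).comp
          ((X.residue x).hom.comp (f.stalkMap x).hom) := by
      ext a
      change _ = e.symm (e ((f.stalkMap x).hom a))
      rw [e.symm_apply_apply]
    rw [h5]
    exact (RingHom.Finite.of_surjective _ e.symm.surjective).comp h4

/-- If `f` is finite between opens around `x`, then `f` is quasi-finite at `x`. -/
theorem quasiFiniteAt_of_isFinite_resLE (U : X.Opens) (V : Y.Opens) (hUV : U ≤ f ⁻¹ᵁ V)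
    [IsFinite (f.resLE V U hUV)] (x : X) (hx : x ∈ U) : f.QuasiFiniteAt x := by
  have h1 : (f.resLE V U hUV).QuasiFiniteAt ⟨x, hx⟩ := (f.resLE V U hUV).quasiFiniteAt _
  have h2 : (f.resLE V U hUV ≫ V.ι).QuasiFiniteAt ⟨x, hx⟩ :=
    Scheme.Hom.quasiFiniteAt_comp_iff.2 h1
  rw [Scheme.Hom.resLE_comp_ι] at h2
  have h3 : f.QuasiFiniteAt (U.ι ⟨x, hx⟩) :=
    Scheme.Hom.quasiFiniteAt_comp_iff_of_isOpenImmersion.1 h2
  have h4 : U.ι ⟨x, hx⟩ = x := rfl
  rw [h4] at h3
  exact h3

/-- If `f` is quasi-finite at the generic point of an irreducible scheme, the generic point is the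
only point of its fibre. -/
theorem eq_genericPoint_of_quasiFiniteAt [IrreducibleSpace X] [LocallyOfFiniteType f]
    (h : f.QuasiFiniteAt (genericPoint X)) (x : X) (hx : f x = f (genericPoint X)) :
    x = genericPoint X := by
  set ξ := genericPoint X with hξ
  have hopen : IsOpen {f.asFiber ξ} := Scheme.Hom.quasiFiniteAt_iff_isOpen_singleton_asFiber.1 h
  have hd : Dense (closedPoints (f.fiber (f ξ))) := dense_iff_closure_eq.2 closure_closedPoints
  obtain ⟨z, hz1, hz2⟩ := hd.inter_open_nonempty _ hopen ⟨_, rfl⟩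
  have hz : z = f.asFiber ξ := hz1
  have hcl : IsClosed {f.asFiber ξ} := by
    rw [← hz]
    exact mem_closedPoints_iff.1 hz2
  have hxr : x ∈ Set.range (f.fiberι (f ξ)) := by
    rw [f.range_fiberι]
    exact hx
  obtain ⟨x', rfl⟩ := hxr
  have hspec : f.asFiber ξ ⤳ x' := by
    rw [← (f.fiberι (f ξ)).isEmbedding.isInducing.specializes_iff, f.fiberι_asFiber]
    exact (genericPoint_spec X).specializes trivial
  have hmem : x' ∈ closure {f.asFiber ξ} := specializes_iff_mem_closure.1 hspec
  rw [hcl.closure_eq] at hmem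
  have : x' = f.asFiber ξ := hmem
  rw [this, f.fiberι_asFiber]

/-- Finiteness of `resLE` between affine opens from finiteness of `appLE`. -/
theorem isFinite_resLE_of_finite_appLE {U : X.Opens} {V : Y.Opens} (hU : IsAffineOpen U)
    (hV : IsAffineOpen V) (hUV : U ≤ f ⁻¹ᵁ V) (h : (f.appLE V U hUV).hom.Finite) :
    IsFinite (f.resLE V U hUV) := by
  have : IsAffine (V : Scheme.{u}) := hV
  have : IsAffine (U : Scheme.{u}) := hU
  rw [HasAffineProperty.iff_of_isAffine (P := @IsFinite)]
  refine ⟨inferInstance, ?_⟩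
  exact (RingHom.finite_respectsIso.arrow_mk_iso_iff (arrowResLEAppIso f V U hUV)).2 h

/-- If the generic point is alone in its fibre, then `f` is finite between suitable nonempty
affine opens. -/
theorem exists_isFinite_resLE_of_fiber_eq [IsIntegral X] [IsIntegral Y] [IsDominant f]
    [LocallyOfFiniteType f] (hC : ∀ x : X, f x = genericPoint Y → x = genericPoint X)
    (V₁ : Y.Opens) (hV₁ : genericPoint Y ∈ V₁) :
    ∃ (U : X.Opens) (V : Y.Opens) (hUV : U ≤ f ⁻¹ᵁ V), IsAffineOpen U ∧ IsAffineOpen V ∧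
      genericPoint X ∈ U ∧ V ≤ V₁ ∧ IsFinite (f.resLE V U hUV) := by
  set ξ := genericPoint X with hξ
  set η := genericPoint Y with hη
  have hfξ : f ξ = η := map_genericPoint_of_isDominant f
  have hηgen : ∀ y : Y, y ⤳ η → y = η := genericPoint_no_generization
  have hfin : (f ⁻¹' {η}).Finite := (Set.finite_singleton ξ).subset fun x hx => hC x hx
  obtain ⟨V₀, hV₀, hηV, hV₀V₁⟩ := Opens.isBasis_iff_nbhd.mp Y.isBasis_affineOpens hV₁
  obtain ⟨U, hU, hξU, e⟩ := Opens.isBasis_iff_nbhd.mp X.isBasis_affineOpens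
    (show ξ ∈ f ⁻¹ᵁ V₀ by change f ξ ∈ V₀; rw [hfξ]; exact hηV)
  have hmin := primeIdealOf_mem_minimalPrimes hV₀ η hηV hηgen
  obtain ⟨g, hg, hint⟩ := exists_forall_isIntegralElem_of_minimal (f.appLE V₀ U e).hom
    (LocallyOfFiniteType.finiteType_appLE f hV₀ hU e) _ hmin
    (finite_comap_preimage_of_finite_fiber f hV₀ hU e η hηV hfin)
  have hηg : η ∈ Y.basicOpen g := (mem_basicOpen_iff_notMem_primeIdealOf hV₀ η hηV g).2 hg
  have hint' := isIntegral_appLE_basicOpen f hV₀ hU e g hint
  have hfinite : (f.appLE (Y.basicOpen g) (X.basicOpen ((f.appLE V₀ U e).hom g))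
      (basicOpen_appLE_le f e g)).hom.Finite :=
    RingHom.IsIntegral.to_finite hint' (LocallyOfFiniteType.finiteType_appLE f
      (hV₀.basicOpen g) (hU.basicOpen _) _)
  refine ⟨X.basicOpen ((f.appLE V₀ U e).hom g), Y.basicOpen g, basicOpen_appLE_le f e g,
    hU.basicOpen _, hV₀.basicOpen g, ?_, (Y.basicOpen_le g).trans hV₀V₁,
    isFinite_resLE_of_finite_appLE f (hU.basicOpen _) (hV₀.basicOpen g) _ hfinite⟩
  rw [basicOpen_appLE]
  exact ⟨hξU, by change f ξ ∈ Y.basicOpen g; rw [hfξ]; exact hηg⟩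

/-- A finite restriction over a nonempty affine open gives finite `resLE` between affine opens. -/
theorem exists_isFinite_resLE_of_isFinite_morphismRestrict [IsIntegral X] [IsIntegral Y]
    [IsDominant f] (V : Y.Opens) (hV : IsAffineOpen V) (hne : Nonempty V)
    [IsFinite (f ∣_ V)] :
    ∃ (U : X.Opens) (V : Y.Opens) (hUV : U ≤ f ⁻¹ᵁ V), IsAffineOpen U ∧ IsAffineOpen V ∧
      Nonempty ↥U ∧ IsFinite (f.resLE V U hUV) := by
  have : IsAffine (V : Scheme.{u}) := hV
  have hA : IsAffineOpen (f ⁻¹ᵁ V) := isAffine_of_isAffineHom (f ∣_ V)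
  have hηV : genericPoint Y ∈ V :=
    ((genericPoint_spec Y).mem_open_set_iff V.isOpen).2 (by
      obtain ⟨v⟩ := hne
      exact ⟨v.1, trivial, v.2⟩)
  have hξ : genericPoint X ∈ f ⁻¹ᵁ V := by
    change f (genericPoint X) ∈ V
    rw [map_genericPoint_of_isDominant f]
    exact hηV
  refine ⟨f ⁻¹ᵁ V, V, le_rfl, hA, hV, ⟨⟨_, hξ⟩⟩, ?_⟩
  rw [Scheme.Hom.resLE_eq_morphismRestrict]
  infer_instance

/-- Quasi-compact case of generic finiteness for integral schemes. -/
theorem exists_isFinite_morphismRestrict_of_quasiCompact [IsIntegral X] [IsIntegral Y]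
    [IsDominant f] [LocallyOfFiniteType f] [QuasiCompact f]
    (hC : ∀ x : X, f x = genericPoint Y → x = genericPoint X) :
    ∃ V : Y.Opens, IsAffineOpen V ∧ Nonempty ↥V ∧ IsFinite (f ∣_ V) := by
  have hfξ : f (genericPoint X) = genericPoint Y := map_genericPoint_of_isDominant f
  have hfin : (f ⁻¹' {genericPoint Y}).Finite :=
    (Set.finite_singleton (genericPoint X)).subset fun x hx => hC x hx
  obtain ⟨V, hV, hηV, -, hVfin⟩ := exists_isFinite_morphismRestrict f (genericPoint Y)
    genericPoint_no_generization hfin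
    (fun V₀ U₁ U₂ _ _ _ _ _ _ hne => by
      refine ⟨⊤, trivial, fun x hx _ => ?_⟩
      have hξ : genericPoint X ∈ U₁ ⊓ U₂ :=
        ((genericPoint_spec X).mem_open_set_iff (U₁ ⊓ U₂).isOpen).2 ⟨x, trivial, hx⟩
      exact hne _ hξ hfξ) ⊤ trivial
  exact ⟨V, hV, ⟨⟨_, hηV⟩⟩, hVfin⟩

/-- Separated case: a finite `resLE` over `V` with nonempty source forces the whole preimage
of `V` to be finite over `V`. -/
theorem isFinite_morphismRestrict_of_isFinite_resLE [IsIntegral X] [IsSeparated f]
    (U : X.Opens) (V : Y.Opens) (hUV : U ≤ f ⁻¹ᵁ V) (hne : Nonempty ↥U)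
    [IsFinite (f.resLE V U hUV)] : IsFinite (f ∣_ V) := by
  let j : (U : Scheme.{u}) ⟶ (f ⁻¹ᵁ V : X.Opens) := X.homOfLE hUV
  have hj : j ≫ (f ∣_ V) = f.resLE V U hUV := rfl
  have : IsFinite (j ≫ (f ∣_ V)) := by rw [hj]; infer_instance
  have hjfin : IsFinite j := IsFinite.of_comp j (f ∣_ V)
  have hne' : Nonempty ↥(f ⁻¹ᵁ V) := by
    obtain ⟨u⟩ := hne
    exact ⟨⟨u.1, hUV u.2⟩⟩
  have hne'' : Nonempty ↥((f ⁻¹ᵁ V : X.Opens) : Scheme.{u}) := hne'
  have hint : IsIntegral ((f ⁻¹ᵁ V : X.Opens) : Scheme.{u}) :=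
    isIntegral_of_isOpenImmersion (f ⁻¹ᵁ V).ι
  have hirr : IrreducibleSpace ↥((f ⁻¹ᵁ V : X.Opens) : Scheme.{u}) := inferInstance
  have hpre : PreconnectedSpace ↥((f ⁻¹ᵁ V : X.Opens) : Scheme.{u}) := inferInstance
  have hclopen : IsClopen (Set.range j) :=
    ⟨j.isClosedMap.isClosed_range, j.isOpenEmbedding.isOpen_range⟩
  have hrange : Set.range j = Set.univ := by
    obtain ⟨u⟩ := hne
    exact hclopen.eq_univ ⟨j u, u, rfl⟩
  have hiso : IsIso j := by
    apply isIso_of_isOpenImmersion_of_opensRange_eq_top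
    ext1
    exact hrange
  have h2 : f ∣_ V = inv j ≫ f.resLE V U hUV := by rw [← hj, IsIso.inv_hom_id_assoc]
  rw [h2]
  infer_instance

end Groth.Agent.H4GF
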