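import Mathlib
import Groth.Prelude.Def_ega3
import Groth.Agent.Lib.helper4.FlatCx11
import Groth.Agent.Lib.helper4.BC1

/-!
# Exactness of `T_p` for `p ≤ N` from flatness of the homology (bounded below flat complexes), and
generic exactness over a domain
-/

set_option autoImplicit false
set_option linter.unusedSectionVars false
universe u

namespace Groth.Agent.H4GenFree

open CategoryTheory Limits TensorProduct CohIII Groth.Agent.H4FlatCx Groth.Agent.H4BC

section Below

variable {B : Type u} [CommRing B] (K : ChainComplex (ModuleCat.{u} B) ℤ)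
  (hK : ∀ i, Module.Flat B (K.X i))

include hK in
/-- bounded below, flat terms, flat homology in degrees `≤ N` ⟹ flat opcycles in degrees `≤ N` -/
theorem flat_opcycles_of_flat_homology (i₀ : ℤ) (hb : ∀ i < i₀, IsZero (K.X i)) (N : ℤ)
    (hH : ∀ n, i₀ ≤ n → n ≤ N → Module.Flat B (K.homology n)) :
    ∀ n ≤ N, Module.Flat B (K.opcycles n) := by
  have main : ∀ m : ℕ, ∀ n : ℤ, n < i₀ + m → n ≤ N → Module.Flat B (K.opcycles n) := by
    intro m
    induction m with
    | zero =>
      intro n hn _
      have := subsingleton_opcycles_of_isZero K n (hb n (by simpa using hn))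
      infer_instance
    | succ m ih =>
      intro n hn hnN
      by_cases hlt : n < i₀ + m
      · exact ih n hlt hnN
      · have h1 : Module.Flat B (K.opcycles (n - 1)) := ih (n - 1) (by push_cast at hn; omega) (by omega)
        have h2 : Module.Flat B (K.X (n - 1)) := hK (n - 1)
        have h3 : Module.Flat B (K.homology n) := hH n (by omega) hnN
        exact flat_opcycles_of_flat K n (n - 1) (by simp) (by simp)
  intro n hn
  by_cases hlt : n < i₀
  · exact main 0 n (by simpa using hlt) hn
  · exact main ((n - i₀).toNat + 1) n (by push_cast; omega) hn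

include hK in
theorem exact_of_flat_homology (i₀ : ℤ) (hb : ∀ i < i₀, IsZero (K.X i)) (N : ℤ)
    (hH : ∀ n, i₀ ≤ n → n ≤ N → Module.Flat B (K.homology n)) :
    ∀ p ≤ N, (TFun K p).PreservesMonomorphisms ∧ (TFun K p).PreservesEpimorphisms := by
  intro p hp
  have h := flat_opcycles_of_flat_homology K hK i₀ hb N hH
  exact ⟨(preservesMono_iff' K hK p).2 (h p hp), (preservesEpi_iff' K hK p).2 (h (p - 1) (by omega))⟩

end Below

section BC

variable {A B : Type u} [CommRing A] [CommRing B] [Algebra A B] [Module.Flat A B]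
  (P : ChainComplex (ModuleCat.{u} A) ℤ) (hP : ∀ i, Module.Flat A (P.X i))

theorem flat_homology_bcCx_iff (n : ℤ) :
    Module.Flat B ((bcCx (algebraMap A B) P).homology n) ↔ Module.Flat B (B ⊗[A] P.homology n) := by
  rw [← flat_extendScalars_obj_iff]
  exact Module.Flat.equiv_iff
    (homologyBcIso (algebraMap A B) (RingHom.flat_algebraMap_iff.2 inferInstance) P n).toLinearEquiv

theorem isZero_bcCx_X (i : ℤ) (h : IsZero (P.X i)) : IsZero ((bcCx (algebraMap A B) P).X i) :=
  (ModuleCat.extendScalars.{u,u,u} (algebraMap A B)).map_isZero h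

include hP in
theorem exact_bcCx_of_flat (i₀ : ℤ) (hb : ∀ i < i₀, IsZero (P.X i)) (N : ℤ)
    (hH : ∀ n, i₀ ≤ n → n ≤ N → Module.Flat B (B ⊗[A] P.homology n)) :
    ∀ p ≤ N, (TFun (bcCx (algebraMap A B) P) p).PreservesMonomorphisms ∧
      (TFun (bcCx (algebraMap A B) P) p).PreservesEpimorphisms :=
  exact_of_flat_homology (bcCx (algebraMap A B) P) (flat_bcCx_X' P hP) i₀
    (fun i hi => isZero_bcCx_X P i (hb i hi)) N
    (fun n h1 h2 => (flat_homology_bcCx_iff P n).2 (hH n h1 h2))

end BC

section Generic

variable {A : Type u} [CommRing A] [IsDomain A]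

theorem bot_mem_freeLocus (W : Type u) [AddCommGroup W] [Module A W] :
    (⟨⊥, Ideal.isPrime_bot⟩ : PrimeSpectrum A) ∈ Module.freeLocus A W := by
  rw [Module.mem_freeLocus]
  have hmax : IsLocalRing.maximalIdeal (Localization.AtPrime (⊥ : Ideal A)) = ⊥ := by
    rw [← Localization.AtPrime.map_eq_maximalIdeal, Ideal.map_bot]
  have hF : IsField (Localization.AtPrime (⊥ : Ideal A)) :=
    IsLocalRing.isField_iff_maximalIdeal_eq.2 hmax
  let _ : Field (Localization.AtPrime (⊥ : Ideal A)) := hF.toField
  exact Module.Free.of_divisionRing _ _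

/-- generic projectivity of finitely many finitely presented modules over a domain -/
theorem exists_ne_zero_projective (s : Finset ℤ) (H : ℤ → Type u) [∀ n, AddCommGroup (H n)]
    [∀ n, Module A (H n)] (hfp : ∀ n, Module.FinitePresentation A (H n)) :
    ∃ f : A, f ≠ 0 ∧ ∀ n ∈ s,
      Module.Projective (Localization.Away f) (Localization.Away f ⊗[A] H n) := by
  let U : Set (PrimeSpectrum A) := ⋂ n ∈ s, Module.freeLocus A (H n)
  have hU : IsOpen U := isOpen_biInter_finset (fun n _ => Module.isOpen_freeLocus)
  have hmem : (⟨⊥, Ideal.isPrime_bot⟩ : PrimeSpectrum A) ∈ U := by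
    simp only [U, Set.mem_iInter]
    intro n _
    exact bot_mem_freeLocus _
  obtain ⟨v, ⟨f, rfl⟩, hfv, hvU⟩ :=
    PrimeSpectrum.isTopologicalBasis_basic_opens.exists_subset_of_mem_open hmem hU
  refine ⟨f, ?_, fun n hn => ?_⟩
  · intro h0
    rw [h0] at hfv
    simp at hfv
  · have hsub : (PrimeSpectrum.basicOpen f : Set (PrimeSpectrum A)) ⊆ Module.freeLocus A (H n) := by
      intro x hx
      have := hvU hx
      simp only [U, Set.mem_iInter] at this
      exact this n hn
    have hproj := Module.basicOpen_subset_freeLocus_iff.1 hsub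
    exact Module.Projective.of_equiv (LocalizedModule.equivTensorProduct (Submonoid.powers f) (H n))

end Generic

end Groth.Agent.H4GenFree
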