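import Mathlib
import Groth.Prelude.Def_ega3
import Groth.Agent.Lib.helper4.GenFree
import Groth.Agent.Lib.helper4.Bridge1
import Groth.Agent.Lib.helper4.DVR2

/-!
# Generic local constancy of `dRank` (EGA III 7.6.9-type statement)
-/

set_option autoImplicit false
set_option linter.unusedSectionVars false
universe u

namespace Groth.Agent.H4GenLC

open CategoryTheory Limits MonoidalCategory TensorProduct CohIII Groth.Agent.H4FlatCx
  Groth.Agent.H4Bridge Groth.Agent.H4BC Groth.Agent.H4GenFree Groth.Agent.H4EW

section FiniteT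

variable {A : Type u} [CommRing A] [IsNoetherianRing A]
  (P : ChainComplex (ModuleCat.{u} A) ℤ) (hP : ∀ i, Module.Flat A (P.X i))

theorem finite_of_exact_mid {X Y Z : Type u} [AddCommGroup X] [AddCommGroup Y] [AddCommGroup Z]
    [Module A X] [Module A Y] [Module A Z] [Module.Finite A X] [Module.Finite A Z]
    (f : X →ₗ[A] Y) (g : Y →ₗ[A] Z) (h : Function.Exact f g) : Module.Finite A Y := by
  have : IsNoetherian A Z := isNoetherian_of_isNoetherianRing_of_finite A Z
  have : Module.Finite A (LinearMap.range g) := Module.Finite.iff_fg.2 (IsNoetherian.noetherian _)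
  have hex : Function.Exact f g.rangeRestrict := by
    intro y
    rw [← h y]
    constructor
    · intro hy
      exact congrArg Subtype.val hy
    · intro hy
      exact Subtype.ext hy
  exact Module.Finite.of_exact hex g.surjective_rangeRestrict

theorem isZero_T_of_isZero (n : ℤ) (h : IsZero (P.X n)) (M : ModuleCat.{u} A) :
    IsZero (T P n M) := by
  have h1 : IsZero ((tensorObj P M).X n) := (tensorRight M).map_isZero h
  exact ShortComplex.isZero_homology_of_isZero_X₂ _ h1

include hP in
theorem finite_T_of_finite (i₀ : ℤ) (hb : ∀ i < i₀, IsZero (P.X i))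
    (hfg : ∀ n : ℤ, Module.Finite A (T P n (ModuleCat.of A A))) :
    ∀ (n : ℤ) (M : ModuleCat.{u} A), Module.Finite A M → Module.Finite A (T P n M) := by
  have main : ∀ m : ℕ, ∀ n : ℤ, n < i₀ + m → ∀ M : ModuleCat.{u} A, Module.Finite A M →
      Module.Finite A (T P n M) := by
    intro m
    induction m with
    | zero =>
      intro n hn M _
      have := ModuleCat.subsingleton_of_isZero
        (isZero_T_of_isZero P n (hb n (by simpa using hn)) M)
      infer_instance
    | succ m ih =>
      intro n hn M hM
      by_cases hlt : n < i₀ + m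
      · exact ih n hlt M hM
      · obtain ⟨r, g, hg⟩ := Module.Finite.exists_fin' A M
        let K := LinearMap.ker g
        let S : ShortComplex (ModuleCat.{u} A) :=
          ShortComplex.mk (X₁ := ModuleCat.of A K) (X₂ := ModuleCat.of A (Fin r → A)) (X₃ := M)
            (ModuleCat.ofHom K.subtype) (ModuleCat.ofHom g) (by
              ext x
              exact x.2)
        have hS : S.ShortExact :=
          ModuleCat.shortComplex_shortExact S (LinearMap.exact_subtype_ker_map g)
            K.subtype_injective hg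
        have hK : Module.Finite A (ModuleCat.of A K) :=
          Module.Finite.iff_fg.2 (IsNoetherian.noetherian _)
        have h1 : Module.Finite A (T P (n - 1) (ModuleCat.of A K)) :=
          ih (n - 1) (by push_cast at hn; omega) _ hK
        have h2 : Module.Finite A ((TFun P n).obj (ModuleCat.of A (Fin r → A))) := by
          have h0 : Module.Finite A ((TFun P n).obj (ModuleCat.of A A)) := hfg n
          have h00 : Module.Finite A (TensorProduct A ((TFun P n).obj (ModuleCat.of A A))
              (Fin r → A)) := inferInstance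
          have hbij := tLin_bijective_of_free (TFun P n) (ModuleCat.of A (Fin r → A))
          exact Module.Finite.of_surjective (tLin (TFun P n) (ModuleCat.of A (Fin r → A))) hbij.2
        have hex := (ShortComplex.ShortExact.moduleCat_exact_iff_function_exact _).1
          (exact₃ P hP S hS n (n - 1) (by simp))
        exact @finite_of_exact_mid A _ _ ((TFun P n).obj (ModuleCat.of A (Fin r → A))) _
          (T P (n - 1) (ModuleCat.of A K)) _ _ _ _ _ _ h2 h1 _ _ hex
  intro n M hM
  by_cases hlt : n < i₀
  · exact main 0 n (by simpa using hlt) M hM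
  · exact main ((n - i₀).toNat + 1) n (by push_cast; omega) M hM

end FiniteT

section Dense

variable {A : Type u} [CommRing A]

theorem dense_of_minimal_mem (U : Set (PrimeSpectrum A))
    (h : ∀ q : PrimeSpectrum A, q.asIdeal ∈ minimalPrimes A → q ∈ U) : Dense U := by
  rw [dense_iff_inter_open]
  intro V hV ⟨y, hy⟩
  obtain ⟨q, hq, hqy⟩ := Ideal.exists_minimalPrimes_le (I := ⊥) (J := y.asIdeal) bot_le
  have hqp : q.IsPrime := hq.1.1
  let q' : PrimeSpectrum A := ⟨q, hqp⟩
  have hs : q' ⤳ y := (PrimeSpectrum.le_iff_specializes q' y).1 hqy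
  exact ⟨q', hs.mem_open hV hy, h q' hq⟩

theorem minimal_mem_freeLocus [IsReduced A] (W : Type u) [AddCommGroup W] [Module A W]
    (q : PrimeSpectrum A) (hq : q.asIdeal ∈ minimalPrimes A) : q ∈ Module.freeLocus A W := by
  rw [Module.mem_freeLocus]
  have : Ring.KrullDimLE 0 (Localization.AtPrime q.asIdeal) :=
    Ring.KrullDimLE.of_isLocalization q.asIdeal hq _
  have hF : IsField (Localization.AtPrime q.asIdeal) := Ring.KrullDimLE.isField_of_isReduced
  let _ : Field (Localization.AtPrime q.asIdeal) := hF.toField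
  exact Module.Free.of_divisionRing _ _

end Dense

section Basic

variable {A : Type u} [CommRing A] [IsNoetherianRing A]
  (P : ChainComplex (ModuleCat.{u} A) ℤ) (hP : ∀ i, Module.Flat A (P.X i))

include hP in
/-- if the homology modules `H_n(P)`, `i₀ ≤ n ≤ N`, are locally free on `D(f)` then `dRank P p`,
`p ≤ N`, is constant near every point of `D(f)`. -/
theorem eventually_dRank_eq_of_basicOpen (i₀ : ℤ) (hb : ∀ i < i₀, IsZero (P.X i))
    (hfg : ∀ n : ℤ, Module.Finite A (P.homology n)) (N : ℤ) (f : A)
    (hf : ∀ n, i₀ ≤ n → n ≤ N →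
      (PrimeSpectrum.basicOpen f : Set (PrimeSpectrum A)) ⊆ Module.freeLocus A (P.homology n))
    (p : ℤ) (hp : p ≤ N) (x : PrimeSpectrum A) (hx : x ∈ PrimeSpectrum.basicOpen f) :
    ∃ W : Set (PrimeSpectrum A), IsOpen W ∧ x ∈ W ∧ ∀ y ∈ W, dRank P p y = dRank P p x := by
  let B := Localization.Away f
  have hflatB : Module.Flat A B := IsLocalization.flat B (Submonoid.powers f)
  have hnoeth : IsNoetherianRing B := IsLocalization.isNoetherianRing (Submonoid.powers f) B
    inferInstance
  have hfp : ∀ n, Module.FinitePresentation A (P.homology n) := fun n =>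
    have := hfg n
    Module.finitePresentation_of_finite A _
  have hH : ∀ n, i₀ ≤ n → n ≤ N → Module.Flat B (B ⊗[A] P.homology n) := by
    intro n h1 h2
    have hproj := Module.basicOpen_subset_freeLocus_iff.1 (hf n h1 h2)
    have hpr : Module.Projective B (B ⊗[A] P.homology n) :=
      Module.Projective.of_equiv
        (LocalizedModule.equivTensorProduct (Submonoid.powers f) (P.homology n))
    exact @Module.Flat.of_projective _ _ _ _ _ hpr
  have hex := exact_bcCx_of_flat (B := B) P hP i₀ hb N hH p hp
  have hfinB : Module.Finite B ((bcCx (algebraMap A B) P).homology p) := by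
    have := hfg p
    have h1 : Module.Finite B ((ModuleCat.extendScalars.{u,u,u} (algebraMap A B)).obj
        (P.homology p)) := finite_extendScalars_obj _
    exact Module.Finite.equiv
      (homologyBcIso (algebraMap A B) (RingHom.flat_algebraMap_iff.2 hflatB) P p).toLinearEquiv.symm
  have hfpB : Module.FinitePresentation B
      (T (bcCx (algebraMap A B) P) p (ModuleCat.of B B)) := by
    have : Module.Finite B (T (bcCx (algebraMap A B) P) p (ModuleCat.of B B)) :=
      Module.Finite.equiv (TUnitIso (bcCx (algebraMap A B) P) p).toLinearEquiv.symm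
    exact Module.finitePresentation_of_finite B _
  have hlc := isLocallyConstant_dRank_of_exact (bcCx (algebraMap A B) P) (flat_bcCx_X' P hP) p
    hex hfpB
  have hrange := PrimeSpectrum.localization_away_comap_range B f
  have hx' : x ∈ Set.range (PrimeSpectrum.comap (algebraMap A B)) := by
    rw [hrange]; exact hx
  obtain ⟨x', rfl⟩ := hx'
  obtain ⟨W', hW'o, hxW', hW'⟩ := (IsLocallyConstant.iff_exists_open _).1 hlc x'
  refine ⟨PrimeSpectrum.comap (algebraMap A B) '' W',
    (PrimeSpectrum.localization_away_isOpenEmbedding B f).isOpenMap _ hW'o,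
    ⟨x', hxW', rfl⟩, ?_⟩
  rintro _ ⟨y', hy', rfl⟩
  rw [← dRank_bcCx, ← dRank_bcCx]
  exact hW' y' hy'

end Basic

section Reduced

variable {A : Type u} [CommRing A] [IsNoetherianRing A] [IsReduced A]
  (P : ChainComplex (ModuleCat.{u} A) ℤ) (hP : ∀ i, Module.Flat A (P.X i))

include hP in
theorem exists_dense_open_reduced (i₀ : ℤ) (hb : ∀ i < i₀, IsZero (P.X i))
    (hfg : ∀ n : ℤ, Module.Finite A (P.homology n)) (N : ℤ) :
    ∃ U : Set (PrimeSpectrum A), IsOpen U ∧ Dense U ∧ ∀ p ≤ N, ∀ x ∈ U,
      ∃ W : Set (PrimeSpectrum A), IsOpen W ∧ x ∈ W ∧ ∀ y ∈ W, dRank P p y = dRank P p x := by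
  have hfp : ∀ n, Module.FinitePresentation A (P.homology n) := fun n =>
    have := hfg n
    Module.finitePresentation_of_finite A _
  let U : Set (PrimeSpectrum A) := ⋂ n ∈ Finset.Icc i₀ N, Module.freeLocus A (P.homology n)
  have hU : IsOpen U := isOpen_biInter_finset (fun n _ => Module.isOpen_freeLocus)
  refine ⟨U, hU, ?_, ?_⟩
  · apply dense_of_minimal_mem
    intro q hq
    simp only [U, Set.mem_iInter]
    intro n _
    exact minimal_mem_freeLocus _ q hq
  · intro p hp x hx
    obtain ⟨v, ⟨f, rfl⟩, hfv, hvU⟩ :=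
      PrimeSpectrum.isTopologicalBasis_basic_opens.exists_subset_of_mem_open hx hU
    apply eventually_dRank_eq_of_basicOpen P hP i₀ hb hfg N f ?_ p hp x hfv
    intro n h1 h2 y hy
    have := hvU hy
    simp only [U, Set.mem_iInter] at this
    exact this n (Finset.mem_Icc.2 ⟨h1, h2⟩)

end Reduced

section ResC

variable {A κ : Type u} [CommRing A] [CommRing κ] [Algebra A κ] {ι : Type} {c : ComplexShape ι}
  (P : HomologicalComplex (ModuleCat.{u} A) c) (p : ι)

/-- `κ` with its two `A`-module structures -/
noncomputable def resUnitEquivC : (resUnit (algebraMap A κ)) ≃ₗ[A] κ where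
  toFun := fun x => x
  invFun := fun x => x
  map_add' := fun _ _ => rfl
  map_smul' := fun a x => by
    have h1 : (a • x : resUnit (algebraMap A κ)) = (algebraMap A κ a) • (show κ from x) :=
      ModuleCat.restrictScalars.smul_def (M := ModuleCat.of κ κ) (algebraMap A κ) a x
    simp only [RingHom.id_apply]
    rw [h1]
    exact algebraMap_smul κ a (show κ from x)
  left_inv := fun _ => rfl
  right_inv := fun _ => rfl

/-- the `A`-module `T_p(κ)` is the restriction of scalars of `H_p(κ ⊗ P)` -/
noncomputable def resHomologyIsoC :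
    (ModuleCat.restrictScalars (algebraMap A κ)).obj ((bcCx (algebraMap A κ) P).homology p) ≅
      T P p (ModuleCat.of A κ) :=
  resHomologyIso (algebraMap A κ) P p ≪≫ (TFun P p).mapIso (LinearEquiv.toModuleIso resUnitEquivC)

theorem finite_of_finite_restrictScalars (V : ModuleCat.{u} κ)
    (h : Module.Finite A ((ModuleCat.restrictScalars (algebraMap A κ)).obj V)) :
    Module.Finite κ V := by
  let _ : Module A V := Module.compHom V (algebraMap A κ)
  have hst : IsScalarTower A κ V := by
    refine ⟨fun a c v => ?_⟩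
    change (a • c) • v = (algebraMap A κ a) • (c • v)
    rw [Algebra.smul_def, mul_smul]
  have h' : Module.Finite A V := h
  exact Module.Finite.of_restrictScalars_finite A κ V

theorem finite_homology_bcCx_of_finite_T
    (h : Module.Finite A (T P p (ModuleCat.of A κ))) :
    Module.Finite κ ((bcCx (algebraMap A κ) P).homology p) := by
  apply finite_of_finite_restrictScalars (A := A)
  exact Module.Finite.equiv (resHomologyIsoC (κ := κ) P p).toLinearEquiv.symm

end ResC

section General

variable {A : Type u} [CommRing A] [IsNoetherianRing A]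
  (P : ChainComplex (ModuleCat.{u} A) ℤ) (hP : ∀ i, Module.Flat A (P.X i))

include hP in
theorem exists_dense_open (i₀ : ℤ) (hb : ∀ i < i₀, IsZero (P.X i))
    (hfg : ∀ n : ℤ, Module.Finite A (T P n (ModuleCat.of A A))) (N : ℤ) :
    ∃ U : Set (PrimeSpectrum A), IsOpen U ∧ Dense U ∧ ∀ p ≤ N, ∀ x ∈ U,
      ∃ W : Set (PrimeSpectrum A), IsOpen W ∧ x ∈ W ∧ ∀ y ∈ W, dRank P p y = dRank P p x := by
  let A' := A ⧸ nilradical A
  have hred : IsReduced A' :=
    (Ideal.isRadical_iff_quotient_reduced (nilradical A)).1 (Ideal.radical_isRadical ⊥)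
  have hfinA' : Module.Finite A (ModuleCat.of A A') :=
    Module.Finite.of_surjective (Algebra.linearMap A A') Ideal.Quotient.mk_surjective
  have hfg' : ∀ n : ℤ, Module.Finite A' ((bcCx (algebraMap A A') P).homology n) := fun n =>
    finite_homology_bcCx_of_finite_T P n
      (finite_T_of_finite P hP i₀ hb hfg n (ModuleCat.of A A') hfinA')
  obtain ⟨U', hU'o, hU'd, hU'⟩ := exists_dense_open_reduced (bcCx (algebraMap A A') P)
    (flat_bcCx_X' P hP) i₀
    (fun i hi => (ModuleCat.extendScalars.{u,u,u} (algebraMap A A')).map_isZero (hb i hi)) hfg' N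
  have hsurjA' : Function.Surjective (algebraMap A A') := Ideal.Quotient.mk_surjective
  have hemb := PrimeSpectrum.isClosedEmbedding_comap_of_surjective A' (algebraMap A A') hsurjA'
  have hbij : Function.Bijective (PrimeSpectrum.comap (algebraMap A A')) :=
    PrimeSpectrum.comap_quotientMk_bijective_of_le_nilradical le_rfl
  have hhomeo : IsHomeomorph (PrimeSpectrum.comap (algebraMap A A')) :=
    ⟨hemb.continuous, (hemb.isOpenEmbedding_of_surjective hbij.2).isOpenMap, hbij⟩
  refine ⟨PrimeSpectrum.comap (algebraMap A A') '' U', hhomeo.isOpenMap _ hU'o, ?_, ?_⟩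
  · exact hbij.2.denseRange.dense_image hhomeo.continuous hU'd
  · rintro p hp _ ⟨x', hx', rfl⟩
    obtain ⟨W', hW'o, hxW', hW'⟩ := hU' p hp x' hx'
    refine ⟨PrimeSpectrum.comap (algebraMap A A') '' W', hhomeo.isOpenMap _ hW'o,
      ⟨x', hxW', rfl⟩, ?_⟩
    rintro _ ⟨y', hy', rfl⟩
    rw [← dRank_bcCx, ← dRank_bcCx]
    exact hW' y' hy'

include hP in
theorem exists_dense_open_isLocallyConstant (i₀ : ℤ) (hb : ∀ i < i₀, IsZero (P.X i))
    (hfg : ∀ n : ℤ, Module.Finite A (T P n (ModuleCat.of A A))) (N : ℤ) :
    ∃ U : Set (PrimeSpectrum A), IsOpen U ∧ Dense U ∧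
      ∀ p ≤ N, IsLocallyConstant (fun x : U => dRank P p x) := by
  obtain ⟨U, hUo, hUd, hU⟩ := exists_dense_open P hP i₀ hb hfg N
  refine ⟨U, hUo, hUd, fun p hp => ?_⟩
  rw [IsLocallyConstant.iff_exists_open]
  rintro ⟨x, hx⟩
  obtain ⟨W, hWo, hxW, hW⟩ := hU p hp x hx
  exact ⟨Subtype.val ⁻¹' W, hWo.preimage continuous_subtype_val, hxW, fun y hy => hW y.1 hy⟩

end General

end Groth.Agent.H4GenLC
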