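import Mathlib
import Groth.Prelude.Def_MoreMor
import Groth.Agent.Lib.helper4.QAffDescent
import Groth.Agent.S10967

/-! Ind-quasi-affine morphisms: transport lemmas, locality, base change and fpqc descent. -/

open AlgebraicGeometry CategoryTheory Limits TopologicalSpace
universe u

namespace H4IndQAff

theorem qaff_of_iso {P Q : Scheme.{u}} (e : P ≅ Q) (h : P.IsQuasiAffine) : Q.IsQuasiAffine :=
  Scheme.IsQuasiAffine.of_isAffineHom e.inv

/-- Reformulation of ind-quasi-affineness of an open subscheme in terms of opens of the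
ambient scheme. -/
theorem indQA_iff {X : Scheme.{u}} (O : X.Opens) :
    MoreMor.IsIndQuasiAffine (O : Scheme.{u}) ↔
      ∀ UX : X.Opens, UX ≤ O → IsCompact (UX : Set X) → Scheme.IsQuasiAffine (UX : Scheme.{u}) := by
  constructor
  · intro h UX hle hc
    let U : (O : Scheme.{u}).Opens := O.ι ⁻¹ᵁ UX
    have himg : O.ι ''ᵁ U = UX := by
      apply le_antisymm
      · exact O.ι.image_preimage_le _
      · intro x hx
        exact ⟨⟨x, hle hx⟩, hx, rfl⟩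
    have hUc : IsCompact (U : Set (O : Scheme.{u})) := by
      have : (U : Set (O : Scheme.{u})) = O.ι ⁻¹' (UX : Set X) := rfl
      rw [this, O.ι.isOpenEmbedding.isInducing.isCompact_preimage_iff]
      · exact hc
      · intro x hx
        exact ⟨⟨x, hle hx⟩, rfl⟩
    have h1 := h U hUc
    exact qaff_of_iso ((O.ι.isoImage U).trans (X.isoOfEq himg)) h1
  · intro h U hU
    have h1 := h (O.ι ''ᵁ U) (by
      rintro _ ⟨x, -, rfl⟩
      exact x.2) (hU.image O.ι.continuous)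
    exact qaff_of_iso (O.ι.isoImage U).symm h1


/-- the scheme of an open of an open subscheme vs. the open of the ambient scheme -/
theorem qaff_preimage_iff {X : Scheme.{u}} (O W : X.Opens) :
    Scheme.IsQuasiAffine ((O.ι ⁻¹ᵁ W : (O : Scheme.{u}).Opens) : Scheme.{u}) ↔
      Scheme.IsQuasiAffine ((O ⊓ W : X.Opens) : Scheme.{u}) := by
  have himg : O.ι ''ᵁ (O.ι ⁻¹ᵁ W) = O ⊓ W := by
    apply le_antisymm
    · rintro _ ⟨x, hx, rfl⟩
      exact ⟨x.2, hx⟩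
    · rintro x ⟨hxO, hxW⟩
      exact ⟨⟨x, hxO⟩, hxW, rfl⟩
  let e := (O.ι.isoImage (O.ι ⁻¹ᵁ W)).trans (X.isoOfEq himg)
  exact ⟨qaff_of_iso e, qaff_of_iso e.symm⟩

/-- Locality: quasi-affineness of a quasi-compact open lying over an affine open can be checked on
an affine open cover of that affine open. -/
theorem qaff_of_cover {X Y : Scheme.{u}} (f : X ⟶ Y) (V : Y.Opens) (hV : IsAffineOpen V)
    (UX : X.Opens) (hle : UX ≤ f ⁻¹ᵁ V) {ι : Type u} (D : ι → Y.Opens)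
    (hD : ∀ i, IsAffineOpen (D i)) (hDV : ∀ i, D i ≤ V) (hcov : V ≤ ⨆ i, D i)
    (hq : ∀ i, Scheme.IsQuasiAffine ((UX ⊓ f ⁻¹ᵁ D i : X.Opens) : Scheme.{u})) :
    Scheme.IsQuasiAffine (UX : Scheme.{u}) := by
  have : IsAffine (V : Scheme.{u}) := hV
  refine Groth.Agent.S10967.result (f.resLE V UX hle) (fun i => V.ι ⁻¹ᵁ D i) ?_ ?_ ?_
  · rw [eq_top_iff]
    intro v _
    have : V.ι v ∈ ⨆ i, D i := hcov v.2
    obtain ⟨i, hi⟩ := Opens.mem_iSup.mp this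
    exact Opens.mem_iSup.mpr ⟨i, hi⟩
  · intro i
    rw [← Scheme.Hom.isAffineOpen_iff_of_isOpenImmersion V.ι]
    convert hD i using 1
    apply le_antisymm
    · exact V.ι.image_preimage_le _
    · intro y hy
      exact ⟨⟨y, hDV i hy⟩, hy, rfl⟩
  · intro i
    have : (f.resLE V UX hle) ⁻¹ᵁ (V.ι ⁻¹ᵁ D i) = UX.ι ⁻¹ᵁ (f ⁻¹ᵁ D i) := by
      rw [← Scheme.Hom.comp_preimage, Scheme.Hom.resLE_comp_ι, Scheme.Hom.comp_preimage]
    rw [this, qaff_preimage_iff]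
    exact hq i


theorem quasiCompact_resLE {X Y : Scheme.{u}} (f : X ⟶ Y) {U : X.Opens} {V : Y.Opens}
    (h : U ≤ f ⁻¹ᵁ V) (hU : IsCompact (U : Set X)) (hV : IsAffineOpen V) :
    QuasiCompact (f.resLE V U h) := by
  have : IsAffine (V : Scheme.{u}) := hV
  have : CompactSpace (U : Scheme.{u}) := isCompact_iff_compactSpace.mp hU
  exact (quasiCompact_iff_compactSpace _).mpr inferInstance

theorem isCompact_inf_preimage {X Y : Scheme.{u}} (f : X ⟶ Y) {U : X.Opens} {V : Y.Opens}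
    (h : U ≤ f ⁻¹ᵁ V) (hU : IsCompact (U : Set X)) (hV : IsAffineOpen V) (D : Y.Opens)
    (hD : IsCompact (D : Set Y)) (hDV : D ≤ V) : IsCompact ((U ⊓ f ⁻¹ᵁ D : X.Opens) : Set X) := by
  have := quasiCompact_resLE f h hU hV
  let g := f.resLE V U h
  have hgι : ∀ x : (U : Scheme.{u}), V.ι (g x) = f (U.ι x) := by
    intro x
    rw [← Scheme.Hom.comp_apply, ← Scheme.Hom.comp_apply, f.resLE_comp_ι]
  have hD' : IsCompact (V.ι ⁻¹' (D : Set Y)) := by
    rw [V.ι.isOpenEmbedding.isInducing.isCompact_preimage_iff]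
    · exact hD
    · intro y hy
      exact ⟨⟨y, hDV hy⟩, rfl⟩
  have hc := QuasiCompact.isCompact_preimage (f := g) _ (D.2.preimage V.ι.continuous) hD'
  have := hc.image U.ι.continuous
  convert this using 1
  ext x
  simp only [Opens.coe_inf, Set.mem_inter_iff, SetLike.mem_coe, Set.mem_image, Set.mem_preimage]
  constructor
  · rintro ⟨hxU, hxD⟩
    obtain ⟨x', rfl⟩ : ∃ x' : (U : Scheme.{u}), U.ι x' = x := ⟨⟨x, hxU⟩, rfl⟩
    refine ⟨x', ?_, rfl⟩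
    rw [hgι]
    exact hxD
  · rintro ⟨x', hx', rfl⟩
    refine ⟨x'.2, ?_⟩
    rw [hgι] at hx'
    exact hx'

set_option backward.isDefEq.respectTransparency.types false in
/-- fpqc descent of quasi-affineness for quasi-compact opens over an affine open. -/
theorem qaff_of_fpqc {X S X' S' : Scheme.{u}} {f : X ⟶ S} {f' : X' ⟶ S'} {g' : X' ⟶ X}
    {g : S' ⟶ S} [Flat g] [Surjective g] [QuasiCompact g] (hc : IsPullback g' f' f g)
    (V : S.Opens) (hV : IsAffineOpen V) (UX : X.Opens) (hle : UX ≤ f ⁻¹ᵁ V)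
    (hUc : IsCompact (UX : Set X))
    (hq : ∀ V' : S'.Opens, IsAffineOpen V' → V' ≤ g ⁻¹ᵁ V →
      Scheme.IsQuasiAffine ((g' ⁻¹ᵁ UX ⊓ f' ⁻¹ᵁ V' : X'.Opens) : Scheme.{u})) :
    Scheme.IsQuasiAffine (UX : Scheme.{u}) := by
  have : IsAffine (V : Scheme.{u}) := hV
  have : CompactSpace (UX : Scheme.{u}) := isCompact_iff_compactSpace.mp hUc
  obtain ⟨I, hI, e⟩ := isCompact_iff_finite_and_eq_biUnion_affineOpens.mp
    (g.isCompact_preimage hV.isCompact)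
  have : Finite I := hI
  have hIle : ∀ j : I, j.1.1 ≤ g ⁻¹ᵁ V := by
    intro j
    rw [e]
    exact le_iSup₂ (f := fun (i : S'.affineOpens) (_ : i ∈ I) => (i : S'.Opens)) j.1 j.2
  let W : I → Scheme.{u} := fun j => (j.1.1 : Scheme.{u})
  have : ∀ j, IsAffine (W j) := fun j => j.1.2
  let p : ∀ j, W j ⟶ (V : Scheme.{u}) := fun j => g.resLE V j.1.1 (hIle j)
  have : ∀ j, Flat (p j) := fun j => by dsimp only [p]; infer_instance
  have hsurj : ∀ z : (V : Scheme.{u}), ∃ j, z ∈ Set.range (p j) := by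
    intro z
    obtain ⟨s', hs'⟩ := g.surjective (V.ι z)
    have hmem : s' ∈ g ⁻¹ᵁ V := by
      show g s' ∈ V
      rw [hs']; exact z.2
    rw [e] at hmem
    obtain ⟨j, hmem⟩ := Opens.mem_iSup.mp hmem
    obtain ⟨hj, hs'j⟩ := Opens.mem_iSup.mp hmem
    obtain ⟨w, rfl⟩ : ∃ w : ((j.1 : S'.Opens) : Scheme.{u}), (j.1 : S'.Opens).ι w = s' :=
      ⟨⟨s', hs'j⟩, rfl⟩
    refine ⟨⟨j, hj⟩, w, ?_⟩
    apply V.ι.isOpenEmbedding.injective
    rw [← Scheme.Hom.comp_apply, Scheme.Hom.resLE_comp_ι, Scheme.Hom.comp_apply, hs']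
  let QO : I → X'.Opens := fun j => g' ⁻¹ᵁ UX ⊓ f' ⁻¹ᵁ j.1.1
  let Q : I → Scheme.{u} := fun j => (QO j : Scheme.{u})
  let fst : ∀ j, Q j ⟶ W j := fun j => f'.resLE j.1.1 (QO j) inf_le_right
  let snd : ∀ j, Q j ⟶ (UX : Scheme.{u}) := fun j => g'.resLE UX (QO j) inf_le_left
  have H : ∀ j, IsPullback (fst j) (snd j) (p j) (f.resLE V UX hle) := fun j =>
    (Scheme.Hom.isPullback_resLE hc (hIle j) hle rfl).flip
  have hQ : ∀ j, (Q j).IsQuasiAffine := fun j => hq j.1.1 j.1.2 (hIle j)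
  have hqs : QuasiSeparated (f.resLE V UX hle) := by
    have := Groth.Agent.Lib.helper1.quasiSeparated_descendsAlong.{u}
    refine H4FFD.of_finite_family (@QuasiSeparated : MorphismProperty Scheme.{u})
      (f.resLE V UX hle) W p hsurj Q fst snd H ?_
    intro j
    have := hQ j
    have : QuasiSeparatedSpace (Q j) := inferInstance
    exact (quasiSeparated_iff_quasiSeparatedSpace (fst j)).mpr this
  have : QuasiSeparatedSpace (UX : Scheme.{u}) :=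
    (quasiSeparated_iff_quasiSeparatedSpace (f.resLE V UX hle)).mp hqs
  exact H4QAffDesc.isQuasiAffine_of_finite_family (f.resLE V UX hle) W p hsurj Q fst snd H hQ

/-- ind-quasi-affine morphisms in terms of opens of the source. -/
theorem indQAHom_iff {X Y : Scheme.{u}} (f : X ⟶ Y) :
    MoreMor.IsIndQuasiAffineHom f ↔
      ∀ V : Y.Opens, IsAffineOpen V → ∀ UX : X.Opens, UX ≤ f ⁻¹ᵁ V → IsCompact (UX : Set X) →
        Scheme.IsQuasiAffine (UX : Scheme.{u}) := by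
  constructor
  · intro h V hV
    exact (indQA_iff _).mp (h V hV)
  · intro h V hV
    exact (indQA_iff _).mpr (h V hV)

/-- compactness of the base change of a quasi-compact open over an affine open. -/
theorem isCompact_pullback_open {X S X' S' : Scheme.{u}} {f : X ⟶ S} {f' : X' ⟶ S'} {g' : X' ⟶ X}
    {g : S' ⟶ S} (hc : IsPullback g' f' f g)
    (V : S.Opens) (hV : IsAffineOpen V) (UX : X.Opens) (hle : UX ≤ f ⁻¹ᵁ V)
    (hUc : IsCompact (UX : Set X)) (V' : S'.Opens) (hV' : IsCompact (V' : Set S'))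
    (hV'le : V' ≤ g ⁻¹ᵁ V) :
    IsCompact ((g' ⁻¹ᵁ UX ⊓ f' ⁻¹ᵁ V' : X'.Opens) : Set X') := by
  have hqc := quasiCompact_resLE f hle hUc hV
  have H : IsPullback (f'.resLE V' (g' ⁻¹ᵁ UX ⊓ f' ⁻¹ᵁ V') inf_le_right)
      (g'.resLE UX (g' ⁻¹ᵁ UX ⊓ f' ⁻¹ᵁ V') inf_le_left) (g.resLE V V' hV'le)
      (f.resLE V UX hle) := (Scheme.Hom.isPullback_resLE hc hV'le hle rfl).flip
  have hqc' : QuasiCompact (f'.resLE V' (g' ⁻¹ᵁ UX ⊓ f' ⁻¹ᵁ V') inf_le_right) :=
    MorphismProperty.of_isPullback (P := @QuasiCompact) H.flip hqc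
  have : CompactSpace (V' : Scheme.{u}) := isCompact_iff_compactSpace.mp hV'
  have : CompactSpace ((g' ⁻¹ᵁ UX ⊓ f' ⁻¹ᵁ V' : X'.Opens) : Scheme.{u}) :=
    QuasiCompact.compactSpace_of_compactSpace
      (f'.resLE V' (g' ⁻¹ᵁ UX ⊓ f' ⁻¹ᵁ V') inf_le_right)
  exact isCompact_iff_compactSpace.mpr this

/-- fpqc descent of ind-quasi-affine morphisms. -/
theorem indQAHom_of_fpqc {X S X' S' : Scheme.{u}} {f : X ⟶ S} {f' : X' ⟶ S'} {g' : X' ⟶ X}
    {g : S' ⟶ S} [Flat g] [Surjective g] [QuasiCompact g] (hc : IsPullback g' f' f g)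
    (hf' : MoreMor.IsIndQuasiAffineHom f') : MoreMor.IsIndQuasiAffineHom f := by
  rw [indQAHom_iff] at hf' ⊢
  intro V hV UX hle hUc
  refine qaff_of_fpqc hc V hV UX hle hUc ?_
  intro V' hV' hV'le
  exact hf' V' hV' _ inf_le_right
    (isCompact_pullback_open hc V hV UX hle hUc V' hV'.isCompact hV'le)

/-- If `f ≫ g` is ind-quasi-affine then so is `f`. -/
theorem indQAHom_of_comp {X Y Z : Scheme.{u}} (f : X ⟶ Y) (g : Y ⟶ Z)
    (h : MoreMor.IsIndQuasiAffineHom (f ≫ g)) : MoreMor.IsIndQuasiAffineHom f := by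
  rw [indQAHom_iff] at h ⊢
  intro V hV UX hle hUc
  have key : ∀ v : V, ∃ D : Y.Opens, IsAffineOpen D ∧ D ≤ V ∧ v.1 ∈ D ∧
      ∃ W : Z.Opens, IsAffineOpen W ∧ D ≤ g ⁻¹ᵁ W := by
    intro v
    obtain ⟨W, hW, hvW⟩ : ∃ W : Z.Opens, IsAffineOpen W ∧ g v.1 ∈ W := by
      obtain ⟨_, ⟨W, hW, rfl⟩, hvW, -⟩ :=
        (Z.isBasis_affineOpens).exists_subset_of_mem_open (Set.mem_univ (g v.1)) isOpen_univ
      exact ⟨W, hW, hvW⟩
    obtain ⟨_, ⟨D, hD, rfl⟩, hvD, hDle⟩ :=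
      (Y.isBasis_affineOpens).exists_subset_of_mem_open
        (show v.1 ∈ ((V ⊓ g ⁻¹ᵁ W : Y.Opens) : Set Y) from ⟨v.2, hvW⟩) (V ⊓ g ⁻¹ᵁ W).2
    exact ⟨D, hD, fun y hy => (hDle hy).1, hvD, W, hW, fun y hy => (hDle hy).2⟩
  choose D hD hDV hvD W hW hDW using key
  refine qaff_of_cover f V hV UX hle D hD hDV ?_ ?_
  · intro v hv
    exact Opens.mem_iSup.mpr ⟨⟨v, hv⟩, hvD ⟨v, hv⟩⟩
  · intro i
    refine h (W i) (hW i) _ ?_ (isCompact_inf_preimage f hle hUc hV (D i) (hD i).isCompact (hDV i))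
    rintro x ⟨-, hx⟩
    exact hDW i hx

theorem qaff_mono {X : Scheme.{u}} (U U' : X.Opens) (hle : U' ≤ U) (hc : IsCompact (U' : Set X))
    (h : Scheme.IsQuasiAffine (U : Scheme.{u})) : Scheme.IsQuasiAffine (U' : Scheme.{u}) := by
  have : CompactSpace (U' : Scheme.{u}) := isCompact_iff_compactSpace.mp hc
  exact Scheme.IsQuasiAffine.of_isImmersion (X.homOfLE hle)

theorem exists_compact_open_between {X : Scheme.{u}} (O : X.Opens) (K : Set X) (hK : IsCompact K)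
    (hKO : K ⊆ O) : ∃ U : X.Opens, IsCompact (U : Set X) ∧ K ⊆ U ∧ U ≤ O := by
  have key : ∀ x : K, ∃ D : X.Opens, IsAffineOpen D ∧ x.1 ∈ D ∧ D ≤ O := by
    intro x
    obtain ⟨_, ⟨D, hD, rfl⟩, hxD, hDle⟩ :=
      (X.isBasis_affineOpens).exists_subset_of_mem_open (hKO x.2) O.2
    exact ⟨D, hD, hxD, hDle⟩
  choose D hD hxD hDO using key
  obtain ⟨t, ht⟩ := hK.elim_finite_subcover (fun x : K => (D x : Set X)) (fun x => (D x).2)
    (fun x hx => Set.mem_iUnion.mpr ⟨⟨x, hx⟩, hxD ⟨x, hx⟩⟩)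
  refine ⟨⨆ x ∈ t, D x, ?_, ?_, ?_⟩
  · have : ((⨆ x ∈ t, D x : X.Opens) : Set X) = ⋃ x ∈ t, (D x : Set X) := by
      simp
    rw [this]
    exact t.isCompact_biUnion (fun x _ => (hD x).isCompact)
  · intro x hx
    have := ht hx
    simpa using this
  · exact iSup₂_le fun x _ => hDO x

theorem exists_affine_cover_over {Y Z : Scheme.{u}} (g : Y ⟶ Z) (V : Y.Opens) :
    ∃ (D : V → Y.Opens) (W : V → Z.Opens), (∀ v, IsAffineOpen (D v)) ∧ (∀ v, D v ≤ V) ∧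
      (∀ v, IsAffineOpen (W v)) ∧ (∀ v, D v ≤ g ⁻¹ᵁ W v) ∧ V ≤ ⨆ v, D v := by
  have key : ∀ v : V, ∃ D : Y.Opens, IsAffineOpen D ∧ D ≤ V ∧ v.1 ∈ D ∧
      ∃ W : Z.Opens, IsAffineOpen W ∧ D ≤ g ⁻¹ᵁ W := by
    intro v
    obtain ⟨W, hW, hvW⟩ : ∃ W : Z.Opens, IsAffineOpen W ∧ g v.1 ∈ W := by
      obtain ⟨_, ⟨W, hW, rfl⟩, hvW, -⟩ :=
        (Z.isBasis_affineOpens).exists_subset_of_mem_open (Set.mem_univ (g v.1)) isOpen_univ
      exact ⟨W, hW, hvW⟩
    obtain ⟨_, ⟨D, hD, rfl⟩, hvD, hDle⟩ :=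
      (Y.isBasis_affineOpens).exists_subset_of_mem_open
        (show v.1 ∈ ((V ⊓ g ⁻¹ᵁ W : Y.Opens) : Set Y) from ⟨v.2, hvW⟩) (V ⊓ g ⁻¹ᵁ W).2
    exact ⟨D, hD, fun y hy => (hDle hy).1, hvD, W, hW, fun y hy => (hDle hy).2⟩
  choose D hD hDV hvD W hW hDW using key
  exact ⟨D, W, hD, hDV, hW, hDW, fun v hv => Opens.mem_iSup.mpr ⟨⟨v, hv⟩, hvD ⟨v, hv⟩⟩⟩

theorem qaff_base_change_aux {X S X' S' : Scheme.{u}} {f : X ⟶ S} {f' : X' ⟶ S'} {g' : X' ⟶ X}
    {g : S' ⟶ S} (hc : IsPullback g' f' f g)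
    (hf : ∀ V : S.Opens, IsAffineOpen V → ∀ UX : X.Opens, UX ≤ f ⁻¹ᵁ V → IsCompact (UX : Set X) →
        Scheme.IsQuasiAffine (UX : Scheme.{u}))
    (V : S.Opens) (hV : IsAffineOpen V) (V' : S'.Opens) (hV' : IsAffineOpen V')
    (hV'le : V' ≤ g ⁻¹ᵁ V) (UX' : X'.Opens) (hle : UX' ≤ f' ⁻¹ᵁ V')
    (hUc : IsCompact (UX' : Set X')) : Scheme.IsQuasiAffine (UX' : Scheme.{u}) := by
  have hw : ∀ x : X', f (g' x) = g (f' x) := by
    intro x
    rw [← Scheme.Hom.comp_apply, ← Scheme.Hom.comp_apply, hc.w]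
  have hK : IsCompact (g' '' (UX' : Set X')) := hUc.image g'.continuous
  have hKO : g' '' (UX' : Set X') ⊆ (f ⁻¹ᵁ V : X.Opens) := by
    rintro _ ⟨x, hx, rfl⟩
    show f (g' x) ∈ V
    rw [hw]
    exact hV'le (hle hx)
  obtain ⟨UX, hUXc, hKUX, hUXle⟩ := exists_compact_open_between _ _ hK hKO
  have hUXq := hf V hV UX hUXle hUXc
  have H : IsPullback (f'.resLE V' (g' ⁻¹ᵁ UX ⊓ f' ⁻¹ᵁ V') inf_le_right)
      (g'.resLE UX (g' ⁻¹ᵁ UX ⊓ f' ⁻¹ᵁ V') inf_le_left) (g.resLE V V' hV'le)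
      (f.resLE V UX hUXle) := (Scheme.Hom.isPullback_resLE hc hV'le hUXle rfl).flip
  have : IsAffine (V : Scheme.{u}) := hV
  have : IsAffine (V' : Scheme.{u}) := hV'
  have haff : IsAffineHom (g.resLE V V' hV'le) := inferInstance
  have haff' : IsAffineHom (g'.resLE UX (g' ⁻¹ᵁ UX ⊓ f' ⁻¹ᵁ V') inf_le_left) :=
    MorphismProperty.of_isPullback (P := @IsAffineHom) H haff
  have hUY : Scheme.IsQuasiAffine ((g' ⁻¹ᵁ UX ⊓ f' ⁻¹ᵁ V' : X'.Opens) : Scheme.{u}) :=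
    Scheme.IsQuasiAffine.of_isAffineHom (g'.resLE UX (g' ⁻¹ᵁ UX ⊓ f' ⁻¹ᵁ V') inf_le_left)
  refine qaff_mono _ UX' ?_ hUc hUY
  intro x hx
  exact ⟨hKUX ⟨x, hx, rfl⟩, hle hx⟩

/-- Base change of ind-quasi-affine morphisms. -/
theorem indQAHom_base_change {X S X' S' : Scheme.{u}} {f : X ⟶ S} {f' : X' ⟶ S'} {g' : X' ⟶ X}
    {g : S' ⟶ S} (hc : IsPullback g' f' f g) (hf : MoreMor.IsIndQuasiAffineHom f) :
    MoreMor.IsIndQuasiAffineHom f' := by
  rw [indQAHom_iff] at hf ⊢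
  intro V' hV' UX' hle hUc
  obtain ⟨D, W, hD, hDV, hW, hDW, hcov⟩ := exists_affine_cover_over g V'
  refine qaff_of_cover f' V' hV' UX' hle D hD hDV hcov ?_
  intro i
  exact qaff_base_change_aux hc hf (W i) (hW i) (D i) (hD i) (hDW i) _ inf_le_right
    (isCompact_inf_preimage f' hle hUc hV' (D i) (hD i).isCompact (hDV i))

theorem qaff_top_iff (Z : Scheme.{u}) :
    Scheme.IsQuasiAffine ((⊤ : Z.Opens) : Scheme.{u}) ↔ Scheme.IsQuasiAffine Z := by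
  exact ⟨qaff_of_iso Z.topIso, qaff_of_iso Z.topIso.symm⟩

/-- characterisation (1) ⇔ (4) of ind-quasi-affine morphisms. -/
theorem indQAHom_iff_resLE {X Y : Scheme.{u}} (f : X ⟶ Y) :
    MoreMor.IsIndQuasiAffineHom f ↔ ∀ (V : Y.Opens), IsCompact (V : Set ↑Y) →
      IsQuasiSeparated (V : Set ↑Y) →
      ∀ (U : X.Opens) (hUV : U ≤ f ⁻¹ᵁ V), IsCompact (U : Set ↑X) →
        MoreMor.IsQuasiAffineHom (f.resLE V U hUV) := by
  rw [indQAHom_iff]
  constructor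
  · intro hf V hVc hVqs U hUV hUc
    have : CompactSpace (U : Scheme.{u}) := isCompact_iff_compactSpace.mp hUc
    have : QuasiSeparatedSpace (V : Scheme.{u}) :=
      (isQuasiSeparated_iff_quasiSeparatedSpace _ V.2).mp hVqs
    have hqc : QuasiCompact (f.resLE V U hUV) := quasiCompact_of_compactSpace _
    refine ⟨hqc, fun W hW => ?_⟩
    have hWaff : IsAffineOpen (V.ι ''ᵁ W) := hW.image_of_isOpenImmersion V.ι
    have hc : IsCompact (((f.resLE V U hUV) ⁻¹ᵁ W : (U : Scheme.{u}).Opens) : Set (U : Scheme.{u})) :=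
      (f.resLE V U hUV).isCompact_preimage hW.isCompact
    have h1 := hf (V.ι ''ᵁ W) hWaff (U.ι ''ᵁ ((f.resLE V U hUV) ⁻¹ᵁ W)) ?_
      (hc.image U.ι.continuous)
    · exact qaff_of_iso (U.ι.isoImage _).symm h1
    · rintro _ ⟨x, hx, rfl⟩
      refine ⟨(f.resLE V U hUV) x, hx, ?_⟩
      show V.ι ((f.resLE V U hUV) x) = f (U.ι x)
      rw [← Scheme.Hom.comp_apply, ← Scheme.Hom.comp_apply, f.resLE_comp_ι]
  · intro h V hV UX hle hUc
    have : IsAffine (V : Scheme.{u}) := hV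
    have h1 := (h V hV.isCompact hV.isQuasiSeparated UX hle hUc).2 ⊤ (isAffineOpen_top _)
    exact (qaff_top_iff _).mp h1

/-- A scheme with a "quasi-affine morphism" to a quasi-affine scheme is quasi-affine. -/
theorem qaff_of_qaffHom_of_qaff {X Y : Scheme.{u}} (h : X ⟶ Y) [Y.IsQuasiAffine] [CompactSpace X]
    [QuasiSeparatedSpace X]
    (H : ∀ V : Y.Opens, IsAffineOpen V → Scheme.IsQuasiAffine (h ⁻¹ᵁ V : Scheme.{u})) :
    X.IsQuasiAffine := by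
  refine .of_forall_exists_mem_basicOpen _ fun x ↦ ?_
  obtain ⟨_, ⟨_, ⟨s, hs, rfl⟩, rfl⟩, hxs, -⟩ := (Scheme.IsQuasiAffine.isBasis_basicOpen
    Y).exists_subset_of_mem_open (Set.mem_univ (h x)) isOpen_univ
  have hq := H _ hs
  rw [Scheme.preimage_basicOpen_top] at hq
  set r := h.appTop s with hr
  have hxr : x ∈ X.basicOpen r := by
    rw [hr, ← Scheme.preimage_basicOpen_top]; exact hxs
  obtain ⟨_, ⟨_, ⟨t', ht', rfl⟩, rfl⟩, hxt', -⟩ := (Scheme.IsQuasiAffine.isBasis_basicOpen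
    (X.basicOpen r : Scheme.{u})).exists_subset_of_mem_open
      (Set.mem_univ (⟨x, hxr⟩ : (X.basicOpen r : Scheme.{u}))) isOpen_univ
  obtain ⟨t'', rfl⟩ : ∃ t'' : Γ(X, X.basicOpen r), (X.basicOpen r).topIso.inv t'' = t' :=
    ⟨(X.basicOpen r).topIso.hom t', by
      rw [← CommRingCat.comp_apply, Iso.hom_inv_id]; rfl⟩
  have haff : IsAffineOpen ((X.basicOpen r).ι ''ᵁ ((X.basicOpen r : Scheme.{u}).basicOpen
      ((X.basicOpen r).topIso.inv t''))) :=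
    ht'.image_of_isOpenImmersion _
  have hxt'' : x ∈ (X.basicOpen r).ι ''ᵁ ((X.basicOpen r : Scheme.{u}).basicOpen
      ((X.basicOpen r).topIso.inv t'')) := ⟨⟨x, hxr⟩, hxt', rfl⟩
  rw [Scheme.Opens.ι_image_basicOpen_topIso_inv] at haff hxt''
  obtain ⟨n, y, hy⟩ := exists_eq_pow_mul_of_isCompact_of_isQuasiSeparated X ⊤
    isCompact_univ isQuasiSeparated_univ r t''
  dsimp only [TopCat.Presheaf.restrictOpenCommRingCat_apply] at hy
  have hunit : IsUnit (X.presheaf.map (homOfLE (X.basicOpen_le r)).op r) :=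
    RingedSpace.isUnit_res_basicOpen _ r
  have e : X.basicOpen (y * r) = X.basicOpen t'' := by
    have h1 := congrArg X.basicOpen hy
    rw [Scheme.basicOpen_res, Scheme.basicOpen_mul, Scheme.basicOpen_of_isUnit _ (hunit.pow n),
      inf_eq_right.mpr (X.basicOpen_le t'')] at h1
    rw [Scheme.basicOpen_mul, inf_comm]
    exact h1
  refine ⟨y * r, ?_, ?_⟩
  · rw [e]; exact haff
  · rw [e]; exact hxt''

/-- Composition of ind-quasi-affine morphisms. -/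
theorem indQAHom_comp {X Y Z : Scheme.{u}} (f : X ⟶ Y) (g : Y ⟶ Z)
    (hf : MoreMor.IsIndQuasiAffineHom f) (hg : MoreMor.IsIndQuasiAffineHom g) :
    MoreMor.IsIndQuasiAffineHom (f ≫ g) := by
  have hf4 := (indQAHom_iff_resLE f).mp hf
  rw [indQAHom_iff] at hg ⊢
  intro W hW UX hle hUc
  obtain ⟨UY, hUYc, hKUY, hUYle⟩ := exists_compact_open_between (g ⁻¹ᵁ W) (f '' (UX : Set X))
    (hUc.image f.continuous) (by
      rintro _ ⟨x, hx, rfl⟩
      exact hle hx)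
  have hUYq := hg W hW UY hUYle hUYc
  have hUXle : UX ≤ f ⁻¹ᵁ UY := fun x hx => hKUY ⟨x, hx, rfl⟩
  have hUYqs : IsQuasiSeparated (UY : Set Y) :=
    (isQuasiSeparated_iff_quasiSeparatedSpace _ UY.2).mpr
      (inferInstanceAs (QuasiSeparatedSpace (UY : Scheme.{u})))
  have h4 := hf4 UY hUYc hUYqs UX hUXle hUc
  have : CompactSpace (UX : Scheme.{u}) := isCompact_iff_compactSpace.mp hUc
  have hqs : QuasiSeparated (f.resLE UY UX hUXle) :=
    H4QAffDesc.quasiSeparated_of_forall_isQuasiAffine _ h4.2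
  have : QuasiSeparatedSpace (UX : Scheme.{u}) :=
    quasiSeparatedSpace_of_quasiSeparated (f.resLE UY UX hUXle)
  exact qaff_of_qaffHom_of_qaff (f.resLE UY UX hUXle) h4.2

end H4IndQAff
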