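import Mathlib

/-!
# Projectivity of a cokernel from injectivity modulo all maximal ideals

If `M → N → P → 0` is exact over a Noetherian ring `A`, with `M` finite and `N` finite projective,
and `A/m ⊗ M → A/m ⊗ N` is injective for all maximal ideals `m`, then `P` is projective.
-/

set_option autoImplicit false
universe u

namespace Groth.Agent.H4LocFree

open TensorProduct IsLocalRing

section Local

variable {A : Type u} [CommRing A] (m : Ideal A) [m.IsMaximal]
  (B : Type u) [CommRing B] [Algebra A B] [IsLocalization.AtPrime B m] [IsLocalRing B]

/-- `A/m ≃ₗ[A] k(B)` for `B = A_m`. -/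
noncomputable def quotEquivResidue : (A ⧸ m) ≃ₗ[A] ResidueField B :=
  { (IsLocalization.AtPrime.equivQuotMaximalIdeal m B).toAddEquiv with
    map_smul' := by
      intro a x
      obtain ⟨x, rfl⟩ := Ideal.Quotient.mk_surjective x
      change (IsLocalization.AtPrime.equivQuotMaximalIdeal m B) (a • Ideal.Quotient.mk m x) =
        a • (IsLocalization.AtPrime.equivQuotMaximalIdeal m B) (Ideal.Quotient.mk m x)
      rw [Algebra.smul_def, Ideal.Quotient.algebraMap_eq, ← map_mul,
        IsLocalization.AtPrime.equivQuotMaximalIdeal_apply_mk,
        IsLocalization.AtPrime.equivQuotMaximalIdeal_apply_mk, map_mul, map_mul, Algebra.smul_def]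
      rfl }

variable {M N : Type u} [AddCommGroup M] [AddCommGroup N] [Module A M] [Module A N]
  (f : M →ₗ[A] N)

theorem cancel_sq (x : ResidueField B ⊗[B] (B ⊗[A] M)) :
    AlgebraTensorModule.cancelBaseChange A B B (ResidueField B) N
      ((f.baseChange B).lTensor (ResidueField B) x) =
    f.lTensor (ResidueField B)
      (AlgebraTensorModule.cancelBaseChange A B B (ResidueField B) M x) := by
  induction x using TensorProduct.induction_on with
  | zero => simp
  | tmul a y =>
    induction y using TensorProduct.induction_on with
    | zero => simp
    | tmul b z => simp [AlgebraTensorModule.cancelBaseChange_tmul]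
    | add y z hy hz => simp only [tmul_add, map_add, hy, hz]
  | add x y hx hy => simp only [map_add, hx, hy]

theorem lTensor_residue_injective
    (hinj : Function.Injective (f.lTensor (A ⧸ m))) :
    Function.Injective ((f.baseChange B).lTensor (ResidueField B)) := by
  have h1 : Function.Injective (f.lTensor (ResidueField B)) := by
    let e := quotEquivResidue m B
    have hsq : ∀ x, (e.rTensor N) (f.lTensor (A ⧸ m) x) = f.lTensor (ResidueField B) (e.rTensor M x) := by
      intro x
      induction x using TensorProduct.induction_on with
      | zero => simp
      | tmul a y => simp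
      | add x y hx hy => simp only [map_add, hx, hy]
    intro x y hxy
    obtain ⟨x, rfl⟩ := (e.rTensor M).surjective x
    obtain ⟨y, rfl⟩ := (e.rTensor M).surjective y
    rw [← hsq, ← hsq] at hxy
    rw [hinj ((e.rTensor N).injective hxy)]
  intro x y hxy
  have := congrArg (AlgebraTensorModule.cancelBaseChange A B B (ResidueField B) N) hxy
  rw [cancel_sq, cancel_sq] at this
  exact (AlgebraTensorModule.cancelBaseChange A B B (ResidueField B) M).injective (h1 this)

end Local

variable {A : Type u} [CommRing A] [IsNoetherianRing A]
  {M N P : Type u} [AddCommGroup M] [AddCommGroup N] [AddCommGroup P]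
  [Module A M] [Module A N] [Module A P]

/-- If `M → N → P → 0` is exact with `M` finite, `N` finite projective over a Noetherian ring,
and `A/m ⊗ M → A/m ⊗ N` is injective for all maximal `m`, then `P` is projective. -/
theorem projective_of_lTensor_quotient_injective [Module.Finite A M] [Module.Finite A N]
    [Module.Projective A N] (f : M →ₗ[A] N) (g : N →ₗ[A] P) (hg : Function.Surjective g)
    (hex : Function.Exact f g)
    (hinj : ∀ (m : Ideal A) [m.IsMaximal], Function.Injective (f.lTensor (A ⧸ m))) :
    Module.Projective A P := by
  have hPfin : Module.Finite A P := Module.Finite.of_surjective g hg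
  have hPfp : Module.FinitePresentation A P := Module.finitePresentation_of_finite A P
  refine Module.projective_of_localization_maximal' (fun m _ => Localization.AtPrime m)
    (fun m _ => Localization.AtPrime m ⊗[A] P)
    (fun m _ => TensorProduct.mk A (Localization.AtPrime m) P 1) ?_
  intro m hm
  let B := Localization.AtPrime m
  have hfree : Module.Free B (B ⊗[A] N) := Module.free_of_flat_of_isLocalRing
  have hgB : Function.Surjective (g.baseChange B) := by
    rw [LinearMap.baseChange_eq_ltensor]
    exact LinearMap.lTensor_surjective _ hg
  have hexB : Function.Exact (f.baseChange B) (g.baseChange B) := by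
    rw [LinearMap.baseChange_eq_ltensor, LinearMap.baseChange_eq_ltensor]
    exact lTensor_exact B hex hg
  have := Module.free_of_lTensor_residueField_injective (f.baseChange B) (g.baseChange B) hgB hexB
    (lTensor_residue_injective m B f (hinj m))
  infer_instance

end Groth.Agent.H4LocFree
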