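import Mathlib

/-!
# Largest open over which a morphism has a property, and flat open base change (helper4)
-/

set_option autoImplicit false
universe u
open CategoryTheory CategoryTheory.Limits AlgebraicGeometry MorphismProperty

namespace H4MaxOpen

/-- The restriction of a base change is a base change of the restriction. -/
lemma isPullback_restrict {X Y Y' : Scheme.{u}} (f : X ⟶ Y) (g : Y' ⟶ Y) (V : Y.Opens)
    (V' : Y'.Opens) (h : V' ≤ g ⁻¹ᵁ V) :
    ∃ k, IsPullback k (pullback.snd f g ∣_ V') (f ∣_ V) (g.resLE V V' h) := by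
  have H := IsPullback.of_hasPullback f g
  have hUY : pullback.snd f g ⁻¹ᵁ V' =
      pullback.fst f g ⁻¹ᵁ (f ⁻¹ᵁ V) ⊓ pullback.snd f g ⁻¹ᵁ V' := by
    rw [right_eq_inf, ← Scheme.Hom.comp_preimage, pullback.condition, Scheme.Hom.comp_preimage]
    exact (pullback.snd f g).preimage_mono h
  have h1 := Scheme.Hom.isPullback_resLE H (US := V) (UT := V') (UX := f ⁻¹ᵁ V) h le_rfl hUY
  rw [Scheme.Hom.resLE_eq_morphismRestrict, Scheme.Hom.resLE_eq_morphismRestrict] at h1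
  exact ⟨_, h1⟩

/-- For a property stable under base change, restriction to a smaller open preserves it. -/
lemma restrict_of_le (P : MorphismProperty Scheme.{u}) [P.IsStableUnderBaseChange]
    {X Y : Scheme.{u}} (f : X ⟶ Y) {V V' : Y.Opens} (h : V' ≤ V) (hP : P (f ∣_ V)) :
    P (f ∣_ V') := by
  have H : IsPullback (𝟙 X) f f (𝟙 Y) := IsPullback.of_id_fst
  have hUY : f ⁻¹ᵁ V' = (𝟙 X) ⁻¹ᵁ (f ⁻¹ᵁ V) ⊓ f ⁻¹ᵁ V' := by
    rw [right_eq_inf]
    exact f.preimage_mono h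
  have h1 := Scheme.Hom.isPullback_resLE H (US := V) (UT := V') (UX := f ⁻¹ᵁ V) h le_rfl hUY
  rw [Scheme.Hom.resLE_eq_morphismRestrict, Scheme.Hom.resLE_eq_morphismRestrict] at h1
  exact P.of_isPullback h1 hP

theorem main (P : MorphismProperty Scheme.{u}) [P.IsStableUnderBaseChange] [IsZariskiLocalAtTarget P]
    [P.DescendsAlong (@Flat ⊓ @Surjective ⊓ @QuasiCompact)]
    (X Y Y' : Scheme.{u}) (f : X ⟶ Y) (g : Y' ⟶ Y) [Flat g] (hg : IsOpenMap g.base)
    (W : Y.Opens) (hW : P (f ∣_ W)) (hmax : ∀ W₀ : Y.Opens, P (f ∣_ W₀) → W₀ ≤ W)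
    (W₁ : Y'.Opens) (hW₁ : P (pullback.snd f g ∣_ W₁))
    (hmax₁ : ∀ W₀ : Y'.Opens, P (pullback.snd f g ∣_ W₀) → W₀ ≤ W₁) :
    W₁ = g ⁻¹ᵁ W := by
  apply le_antisymm
  · intro y' hy'
    obtain ⟨V₀, hV₀, hyV₀, -⟩ :=
      exists_isAffineOpen_mem_and_subset (x := g y') (U := ⊤) trivial
    obtain ⟨W₃, hW₃, hyW₃, hW₃le⟩ :=
      exists_isAffineOpen_mem_and_subset (x := y') (U := W₁ ⊓ g ⁻¹ᵁ V₀) ⟨hy', hyV₀⟩
    let V : Y.Opens := ⟨g '' W₃, hg _ W₃.isOpen⟩
    have hVV₀ : V ≤ V₀ := by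
      rintro _ ⟨w, hw, rfl⟩
      exact (hW₃le hw).2
    have hle : W₃ ≤ g ⁻¹ᵁ V := fun w hw => ⟨w, hw, rfl⟩
    have hP3 : P (pullback.snd f g ∣_ W₃) :=
      restrict_of_le P _ (fun w hw => (hW₃le hw).1) hW₁
    obtain ⟨k, hk⟩ := isPullback_restrict f g V W₃ hle
    have hQ : (@Flat ⊓ @Surjective ⊓ @QuasiCompact : MorphismProperty Scheme.{u})
        (g.resLE V W₃ hle) := by
      refine ⟨⟨inferInstance, ?_⟩, ?_⟩
      · refine ⟨fun v => ?_⟩
        obtain ⟨w, hw, hv⟩ := v.2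
        refine ⟨⟨w, hw⟩, Subtype.ext ?_⟩
        rw [Scheme.Hom.coe_resLE_apply]
        exact hv
      · have : CompactSpace W₃ := isCompact_iff_compactSpace.mp hW₃.isCompact
        have : IsAffine V₀ := hV₀
        have : QuasiSeparatedSpace V := by
          have : QuasiSeparatedSpace V₀ := inferInstance
          exact quasiSeparatedSpace_of_quasiSeparated (Y.homOfLE hVV₀)
        infer_instance
    have hPV : P (f ∣_ V) := MorphismProperty.of_isPullback_of_descendsAlong hk.flip hQ hP3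
    exact hmax V hPV ⟨y', hyW₃, rfl⟩
  · apply hmax₁
    obtain ⟨k, hk⟩ := isPullback_restrict f g W (g ⁻¹ᵁ W) le_rfl
    exact P.of_isPullback hk hW

end H4MaxOpen
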