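import Mathlib
import Groth.Agent.Lib.helper4.MaxOpen

/-!
# Largest open over which a homomorphism of group schemes has a property (helper4)
-/

set_option autoImplicit false
universe u
set_option linter.unusedSectionVars false
universe v
open CategoryTheory CategoryTheory.Limits AlgebraicGeometry MorphismProperty
open MonoidalCategory CartesianMonoidalCategory MonObj GrpObj

namespace H4MaxOpenGrp

/-- The restriction of a base change is a base change of the restriction (general square). -/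
lemma isPullback_restrict {X Y T X' : Scheme.{u}} {f : X ⟶ Y} {a : T ⟶ Y} {k : X' ⟶ X}
    {f' : X' ⟶ T} (H : IsPullback k f' f a) (V : Y.Opens) (V' : T.Opens) (h : V' ≤ a ⁻¹ᵁ V) :
    ∃ k', IsPullback k' (f' ∣_ V') (f ∣_ V) (a.resLE V V' h) := by
  have hUY : f' ⁻¹ᵁ V' = k ⁻¹ᵁ (f ⁻¹ᵁ V) ⊓ f' ⁻¹ᵁ V' := by
    rw [right_eq_inf, ← Scheme.Hom.comp_preimage, H.w, Scheme.Hom.comp_preimage]
    exact f'.preimage_mono h
  have h1 := Scheme.Hom.isPullback_resLE H (US := V) (UT := V') (UX := f ⁻¹ᵁ V) h le_rfl hUY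
  rw [Scheme.Hom.resLE_eq_morphismRestrict, Scheme.Hom.resLE_eq_morphismRestrict] at h1
  exact ⟨_, h1⟩

/-- If `f` has `P` over `W`, a base change `f'` along `a` has `P` over `a⁻¹(W)`. -/
theorem restrict_preimage (P : MorphismProperty Scheme.{u}) [P.IsStableUnderBaseChange]
    {X Y T X' : Scheme.{u}} {f : X ⟶ Y} {a : T ⟶ Y} {k : X' ⟶ X}
    {f' : X' ⟶ T} (H : IsPullback k f' f a) (W : Y.Opens) (hW : P (f ∣_ W)) :
    P (f' ∣_ a ⁻¹ᵁ W) := by
  obtain ⟨k', hk⟩ := isPullback_restrict H W (a ⁻¹ᵁ W) le_rfl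
  exact P.of_isPullback hk hW

/-- If a base change `f'` of `f` along a flat open map `a` has `P` over `W₁`, then `W₁` lies
over the largest open `W` over which `f` has `P`. -/
theorem le_preimage (P : MorphismProperty Scheme.{u}) [P.IsStableUnderBaseChange]
    [IsZariskiLocalAtTarget P]
    [P.DescendsAlong (@Flat ⊓ @Surjective ⊓ @QuasiCompact)]
    {X Y T X' : Scheme.{u}} {f : X ⟶ Y} {a : T ⟶ Y} [Flat a] (ha : IsOpenMap a.base)
    {k : X' ⟶ X} {f' : X' ⟶ T} (H : IsPullback k f' f a)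
    (W : Y.Opens) (hmax : ∀ W₀ : Y.Opens, P (f ∣_ W₀) → W₀ ≤ W)
    (W₁ : T.Opens) (hW₁ : P (f' ∣_ W₁)) : W₁ ≤ a ⁻¹ᵁ W := by
  intro y' hy'
  obtain ⟨V₀, hV₀, hyV₀, -⟩ :=
    exists_isAffineOpen_mem_and_subset (x := a y') (U := ⊤) trivial
  obtain ⟨W₃, hW₃, hyW₃, hW₃le⟩ :=
    exists_isAffineOpen_mem_and_subset (x := y') (U := W₁ ⊓ a ⁻¹ᵁ V₀) ⟨hy', hyV₀⟩
  let V : Y.Opens := ⟨a '' W₃, ha _ W₃.isOpen⟩
  have hVV₀ : V ≤ V₀ := by
    rintro _ ⟨w, hw, rfl⟩
    exact (hW₃le hw).2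
  have hle : W₃ ≤ a ⁻¹ᵁ V := fun w hw => ⟨w, hw, rfl⟩
  have hP3 : P (f' ∣_ W₃) :=
    H4MaxOpen.restrict_of_le P _ (fun w hw => (hW₃le hw).1) hW₁
  obtain ⟨k', hk⟩ := isPullback_restrict H V W₃ hle
  have hQ : (@Flat ⊓ @Surjective ⊓ @QuasiCompact : MorphismProperty Scheme.{u})
      (a.resLE V W₃ hle) := by
    refine ⟨⟨inferInstance, ?_⟩, ?_⟩
    · refine ⟨fun v => ?_⟩
      obtain ⟨w, hw, hv⟩ := v.2
      refine ⟨⟨w, hw⟩, Subtype.ext ?_⟩
      rw [Scheme.Hom.coe_resLE_apply]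
      exact hv
    · have : CompactSpace W₃ := isCompact_iff_compactSpace.mp hW₃.isCompact
      have : IsAffine V₀ := hV₀
      have : QuasiSeparatedSpace V := by
        have : QuasiSeparatedSpace V₀ := inferInstance
        exact quasiSeparatedSpace_of_quasiSeparated (Y.homOfLE hVV₀)
      infer_instance
  have hPV : P (f ∣_ V) := MorphismProperty.of_isPullback_of_descendsAlong hk.flip hQ hP3
  exact hmax V hPV ⟨y', hyW₃, rfl⟩


section Abstract

variable {C : Type*} [Category C] [CartesianMonoidalCategory C] {G H : C} [GrpObj G] [GrpObj H]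
  (u : G ⟶ H) [IsMonHom u]

/-- `(h, g) ↦ u(g) * h`. -/
def act : H ⊗ G ⟶ H := (snd H G ≫ u) * fst H G

/-- `(g', g) ↦ g * g'`. -/
def mulSwap (G : C) [GrpObj G] : G ⊗ G ⟶ G := snd G G * fst G G

/-- `(g', g) ↦ (u g', g)`. -/
def uG : G ⊗ G ⟶ H ⊗ G := lift (fst G G ≫ u) (snd G G)

lemma uG_fst : uG u ≫ fst H G = fst G G ≫ u := lift_fst _ _
lemma uG_snd : uG u ≫ snd H G = snd G G := lift_snd _ _

lemma uG_act : uG u ≫ act u = mulSwap G ≫ u := by
  rw [act, mulSwap, MonObj.comp_mul, MonObj.mul_comp, ← Category.assoc, uG_snd, uG_fst]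

theorem squareA : IsPullback (fst G G) (uG u) u (fst H G) := by
  refine ⟨⟨(uG_fst u).symm⟩, ⟨PullbackCone.IsLimit.mk _
    (fun s => lift s.fst (s.snd ≫ snd H G)) ?_ ?_ ?_⟩⟩
  · intro s; simp
  · intro s
    apply CartesianMonoidalCategory.hom_ext
    · rw [Category.assoc, uG_fst, lift_fst_assoc, s.condition]
    · rw [Category.assoc, uG_snd, lift_snd]
  · intro s m h1 h2
    apply CartesianMonoidalCategory.hom_ext
    · rw [lift_fst, h1]
    · rw [lift_snd, ← h2, Category.assoc, uG_snd]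

theorem squareB : IsPullback (mulSwap G) (uG u) u (act u) := by
  refine ⟨⟨(uG_act u).symm⟩, ⟨PullbackCone.IsLimit.mk _
    (fun s => lift ((s.snd ≫ snd H G)⁻¹ * s.fst) (s.snd ≫ snd H G)) ?_ ?_ ?_⟩⟩
  · intro s
    rw [mulSwap, MonObj.comp_mul, lift_snd, lift_fst, mul_inv_cancel_left]
  · intro s
    have hc : s.fst ≫ u = (s.snd ≫ snd H G ≫ u) * (s.snd ≫ fst H G) :=
      s.condition.trans (MonObj.comp_mul _ _ _)
    apply CartesianMonoidalCategory.hom_ext
    · rw [Category.assoc, uG_fst, lift_fst_assoc, MonObj.mul_comp, GrpObj.inv_comp, hc,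
        Category.assoc, inv_mul_cancel_left]
    · rw [Category.assoc, uG_snd, lift_snd]
  · intro s m h1 h2
    have h3 : m ≫ snd G G = s.snd ≫ snd H G := by
      rw [← h2, Category.assoc, uG_snd]
    apply CartesianMonoidalCategory.hom_ext
    · rw [lift_fst, ← h1, mulSwap, MonObj.comp_mul, h3, inv_mul_cancel_left]
    · rw [lift_snd, h3]

theorem squareC : IsPullback (act u) (snd H G) (toUnit H) (toUnit G) := by
  refine ⟨⟨toUnit_unique _ _⟩, ⟨PullbackCone.IsLimit.mk _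
    (fun s => lift ((s.snd ≫ u)⁻¹ * s.fst) s.snd) ?_ ?_ ?_⟩⟩
  · intro s
    rw [act, MonObj.comp_mul, ← Category.assoc, lift_snd, lift_fst, mul_inv_cancel_left]
  · intro s; simp
  · intro s m h1 h2
    apply CartesianMonoidalCategory.hom_ext
    · rw [lift_fst, ← h1, ← h2, act, MonObj.comp_mul, Category.assoc, inv_mul_cancel_left]
    · rw [lift_snd, h2]

/-- `(g₁, g₂) ↦ (u g₂, g₁)`. -/
def c₄ : G ⊗ G ⟶ H ⊗ G := lift (snd G G ≫ u) (fst G G)

lemma c₄_fst : c₄ u ≫ fst H G = snd G G ≫ u := lift_fst _ _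

lemma c₄_act : c₄ u ≫ act u = μ[G] ≫ u := by
  rw [act, MonObj.comp_mul, ← Category.assoc, c₄, lift_snd, lift_fst, MonObj.mul_eq_mul,
    MonObj.mul_comp]

/-- `g ↦ (1, g)`. -/
def c₂ : G ⟶ H ⊗ G := lift 1 (𝟙 G)

lemma c₂_fst : c₂ (G := G) (H := H) ≫ fst H G = toUnit G ≫ η[H] := lift_fst _ _

lemma c₂_act : c₂ ≫ act u = u := by
  rw [act, MonObj.comp_mul, ← Category.assoc, c₂, lift_snd, lift_fst, Category.id_comp, _root_.mul_one]

/-- `g ↦ (u g⁻¹, g)`. -/
def c₃ : G ⟶ H ⊗ G := lift (ι[G] ≫ u) (𝟙 G)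

lemma c₃_fst : c₃ u ≫ fst H G = ι[G] ≫ u := lift_fst _ _

lemma c₃_act : c₃ u ≫ act u = toUnit G ≫ η[H] := by
  rw [act, MonObj.comp_mul, ← Category.assoc, c₃, lift_snd, lift_fst, Category.id_comp,
    GrpObj.inv_eq_inv, GrpObj.inv_comp, Category.id_comp, mul_inv_cancel]
  rfl

end Abstract

section Sch

variable (P : MorphismProperty Scheme.{u}) [P.IsStableUnderBaseChange] [IsZariskiLocalAtTarget P]
  [P.DescendsAlong (@Flat ⊓ @Surjective ⊓ @QuasiCompact)]
  {S : Scheme.{u}} {G H : Over S} [GrpObj G] [GrpObj H] (u : G ⟶ H) [IsMonHom u]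
  [Flat G.hom] [UniversallyOpen G.hom]

/-- The translation invariance of the largest open over which `u` has `P`. -/
theorem mem_iff (W : H.left.Opens) (hW : P (u.left ∣_ W))
    (hmax : ∀ W' : H.left.Opens, P (u.left ∣_ W') → W' ≤ W) (z : (H ⊗ G).left) :
    (fst H G).left z ∈ W ↔ (act u).left z ∈ W := by
  have hA := (squareA u).map (Over.forget S)
  have hB := (squareB u).map (Over.forget S)
  have hC := (squareC u).map (Over.forget S)
  simp only [Over.forget_map] at hA hB hC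
  have hfa : Flat (fst H G).left := inferInstanceAs (Flat (pullback.fst H.hom G.hom))
  have huoa : UniversallyOpen (fst H G).left :=
    inferInstanceAs (UniversallyOpen (pullback.fst H.hom G.hom))
  have hoa : IsOpenMap (fst H G).left.base := (fst H G).left.isOpenMap
  have hGf : Flat (toUnit G).left := inferInstanceAs (Flat G.hom)
  have hGo : UniversallyOpen (toUnit G).left := inferInstanceAs (UniversallyOpen G.hom)
  have hfa' : Flat (act u).left :=
    MorphismProperty.of_isPullback (P := @Flat) hC.flip hGf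
  have huoa' : UniversallyOpen (act u).left :=
    MorphismProperty.of_isPullback (P := @UniversallyOpen) hC.flip hGo
  have hoa' : IsOpenMap (act u).left.base := (act u).left.isOpenMap
  have h1 : (fst H G).left ⁻¹ᵁ W ≤ (act u).left ⁻¹ᵁ W :=
    le_preimage P hoa' hB W hmax _ (restrict_preimage P hA W hW)
  have h2 : (act u).left ⁻¹ᵁ W ≤ (fst H G).left ⁻¹ᵁ W :=
    le_preimage P hoa hA W hmax _ (restrict_preimage P hB W hW)
  exact ⟨fun h => h1 h, fun h => h2 h⟩

variable (W : H.left.Opens) (hW : P (u.left ∣_ W))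
    (hmax : ∀ W' : H.left.Opens, P (u.left ∣_ W') → W' ≤ W)

include hW hmax

theorem unit_mem (g : G.left) (hg : u.left g ∈ W) : η[H].left (G.hom g) ∈ W := by
  have h := (mem_iff P u W hW hmax ((c₂ (G := G) (H := H)).left g)).mpr (by
    rw [← Scheme.Hom.comp_apply, ← Over.comp_left, c₂_act]
    exact hg)
  rw [← Scheme.Hom.comp_apply, ← Over.comp_left, c₂_fst] at h
  exact h

theorem inv_mem (g : G.left) (hg : u.left g ∈ W) : u.left (ι[G].left g) ∈ W := by
  have h := (mem_iff P u W hW hmax ((c₃ u).left g)).mpr (by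
    rw [← Scheme.Hom.comp_apply, ← Over.comp_left, c₃_act]
    exact unit_mem P u W hW hmax g hg)
  rw [← Scheme.Hom.comp_apply, ← Over.comp_left, c₃_fst] at h
  exact h

theorem mul_mem (z : (G ⊗ G).left)
    (h2 : u.left ((snd G G).left z) ∈ W) : u.left (μ[G].left z) ∈ W := by
  have h := (mem_iff P u W hW hmax ((c₄ u).left z)).mp (by
    rw [← Scheme.Hom.comp_apply, ← Over.comp_left, c₄_fst]
    exact h2)
  rw [← Scheme.Hom.comp_apply, ← Over.comp_left, c₄_act] at h
  exact h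

end Sch

end H4MaxOpenGrp
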