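import Mathlib

/-! Noetherian induction and constructible sets in Noetherian spaces (helper4). -/

namespace Groth.Agent.H4Top
open Topology TopologicalSpace Set
universe u
variable {X : Type u} [TopologicalSpace X]

/-- Noetherian induction on closed subsets. -/
theorem noetherian_induction [NoetherianSpace X] (P : Set X → Prop) (h0 : P ∅)
    (hU : ∀ F₁ F₂, IsClosed F₁ → IsClosed F₂ → P F₁ → P F₂ → P (F₁ ∪ F₂))
    (hI : ∀ F, IsClosed F → IsIrreducible F → (∀ F', IsClosed F' → F' ⊂ F → P F') → P F) :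
    ∀ F, IsClosed F → P F := by
  intro F hF
  suffices ∀ C : Closeds X, P C from this ⟨F, hF⟩
  intro s
  apply wellFounded_lt.induction s; clear s
  intro s H
  rcases eq_or_ne s ⊥ with rfl | h₀
  · simpa using h0
  · by_cases h₁ : IsPreirreducible (s : Set X)
    · replace h₁ : IsIrreducible (s : Set X) := ⟨Closeds.coe_nonempty.2 h₀, h₁⟩
      refine hI s s.isClosed h₁ fun F' hF' hlt => ?_
      exact H ⟨F', hF'⟩ (by rw [← SetLike.coe_ssubset_coe]; exact hlt)
    · simp only [isPreirreducible_iff_isClosed_union_isClosed, not_forall, not_or] at h₁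
      obtain ⟨z₁, z₂, hz₁, hz₂, h, hz₁', hz₂'⟩ := h₁
      lift z₁ to Closeds X using hz₁
      lift z₂ to Closeds X using hz₂
      have H₁ := H (s ⊓ z₁) (inf_lt_left.2 hz₁')
      have H₂ := H (s ⊓ z₂) (inf_lt_left.2 hz₂')
      have := hU _ _ (s ⊓ z₁).isClosed (s ⊓ z₂).isClosed H₁ H₂
      have e : ((s ⊓ z₁ : Closeds X) : Set X) ∪ ((s ⊓ z₂ : Closeds X) : Set X) = (s : Set X) := by
        simp only [Closeds.coe_inf]
        rw [← Set.inter_union_distrib_left]
        exact Set.inter_eq_left.2 h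
      rwa [e] at this

/-- In a Noetherian space every set is retrocompact. -/
theorem isRetrocompact_of_noetherian [NoetherianSpace X] (s : Set X) : IsRetrocompact s :=
  fun _ _ _ => NoetherianSpace.isCompact _

theorem isConstructible_of_isOpen [NoetherianSpace X] {U : Set X} (hU : IsOpen U) :
    IsConstructible U := (isRetrocompact_of_noetherian U).isConstructible hU

theorem isConstructible_of_isClosed [NoetherianSpace X] {F : Set X} (hF : IsClosed F) :
    IsConstructible F := by
  rw [← compl_compl F]; exact (isConstructible_of_isOpen hF.isOpen_compl).compl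

/-- A constructible set, or its complement, contains a nonempty open subset of a given
irreducible set. -/
theorem dichotomy_on {E Y : Set X} (hE : IsConstructible E) (hY : IsIrreducible Y) :
    (∃ U, IsOpen U ∧ (U ∩ Y).Nonempty ∧ U ∩ Y ⊆ E) ∨
      (∃ U, IsOpen U ∧ (U ∩ Y).Nonempty ∧ U ∩ Y ⊆ Eᶜ) := by
  induction hE using IsConstructible.empty_union_induction with
  | open_retrocompact U hU _ =>
    by_cases h : (U ∩ Y).Nonempty
    · exact Or.inl ⟨U, hU, h, inter_subset_left⟩
    · refine Or.inr ⟨univ, isOpen_univ, by simpa using hY.1, ?_⟩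
      rintro y ⟨-, hy⟩ hyU
      exact h ⟨y, hyU, hy⟩
  | union s hs t ht ihs iht =>
    rcases ihs with ⟨U, hU, hne, hsub⟩ | ⟨U, hU, hne, hsub⟩
    · exact Or.inl ⟨U, hU, hne, hsub.trans subset_union_left⟩
    · rcases iht with ⟨V, hV, hne', hsub'⟩ | ⟨V, hV, hne', hsub'⟩
      · exact Or.inl ⟨V, hV, hne', hsub'.trans subset_union_right⟩
      · refine Or.inr ⟨U ∩ V, hU.inter hV, ?_, ?_⟩
        · have := hY.2 U V hU hV (by rwa [inter_comm]) (by rwa [inter_comm])
          rwa [inter_comm]
        · rintro y ⟨⟨hyU, hyV⟩, hyY⟩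
          rw [compl_union]
          exact ⟨hsub ⟨hyU, hyY⟩, hsub' ⟨hyV, hyY⟩⟩
  | compl s hs ih =>
    rcases ih with h | h
    · exact Or.inr (by rwa [compl_compl])
    · exact Or.inl h

/-- If `E ∩ Y` is dense in the irreducible set `Y` and `E` is constructible, then `E` contains a
nonempty open subset of `Y`. -/
theorem exists_open_of_dense_on {E Y : Set X} (hE : IsConstructible E) (hY : IsIrreducible Y)
    (hd : Y ⊆ closure (E ∩ Y)) : ∃ U, IsOpen U ∧ (U ∩ Y).Nonempty ∧ U ∩ Y ⊆ E := by
  rcases dichotomy_on hE hY with h | ⟨U, hU, ⟨y, hyU, hyY⟩, hsub⟩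
  · exact h
  · exfalso
    obtain ⟨z, hzU, hzE, hzY⟩ := mem_closure_iff.1 (hd hyY) U hU hyU
    exact hsub ⟨hzU, hzY⟩ hzE

/-- A nonempty relatively open subset of an irreducible set is dense in it. -/
theorem dense_on_of_open {E Y U : Set X} (hY : IsIrreducible Y) (hU : IsOpen U)
    (hne : (U ∩ Y).Nonempty) (hsub : U ∩ Y ⊆ E) : Y ⊆ closure (E ∩ Y) := by
  intro y hy
  rw [mem_closure_iff]
  intro W hW hyW
  obtain ⟨z, hzY, hzW, hzU⟩ := hY.2 W U hW hU ⟨y, hy, hyW⟩ (by rwa [inter_comm])
  exact ⟨z, hzW, hsub ⟨hzU, hzY⟩, hzY⟩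

theorem dense_subtype_iff {E Y : Set X} :
    Dense (Subtype.val ⁻¹' E : Set Y) ↔ Y ⊆ closure (E ∩ Y) := by
  rw [Subtype.dense_iff, Subtype.image_preimage_coe, inter_comm]

end Groth.Agent.H4Top

namespace Groth.Agent.H4Top
open Topology TopologicalSpace Set
universe v
variable {X : Type v} [TopologicalSpace X]

/-- In a Noetherian space the connected components are open. -/
theorem isOpen_connectedComponent_of_noetherian [NoetherianSpace X] (x : X) :
    IsOpen (connectedComponent x) := by
  have hfin := NoetherianSpace.finite_irreducibleComponents (α := X)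
  have e : (connectedComponent x)ᶜ =
      ⋃₀ {Z ∈ irreducibleComponents X | Disjoint Z (connectedComponent x)} := by
    ext y
    constructor
    · intro hy
      have hyU : y ∈ ⋃₀ irreducibleComponents X := by
        rw [sUnion_irreducibleComponents]; exact mem_univ y
      obtain ⟨Z, hZ, hyZ⟩ := hyU
      refine ⟨Z, ⟨hZ, ?_⟩, hyZ⟩
      rw [Set.disjoint_iff_inter_eq_empty]
      by_contra hne
      obtain ⟨w, hwZ, hwC⟩ := Set.nonempty_iff_ne_empty.2 hne
      have hZc : IsPreconnected Z := hZ.1.isConnected.isPreconnected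
      have := hZc.subset_connectedComponent hwZ
      rw [← connectedComponent_eq hwC] at this
      exact hy (this hyZ)
    · rintro ⟨Z, ⟨_, hd⟩, hyZ⟩ hyC
      exact Set.disjoint_left.1 hd hyZ hyC
  rw [← isClosed_compl_iff, e, Set.sUnion_eq_biUnion]
  apply Set.Finite.isClosed_biUnion (hfin.subset fun Z hZ => hZ.1)
  intro Z hZ
  exact isClosed_of_mem_irreducibleComponents Z hZ.1

end Groth.Agent.H4Top

namespace Groth.Agent.H4Top
open Topology TopologicalSpace Set
universe w
variable {X : Type w} [TopologicalSpace X]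

/-- Every irreducible set lies in an irreducible component. -/
theorem exists_irreducibleComponent_superset {s : Set X} (hs : IsIrreducible s) :
    ∃ Z ∈ irreducibleComponents X, s ⊆ Z := by
  obtain ⟨t, ht, hst, hmax⟩ := exists_preirreducible s hs.2
  exact ⟨t, ⟨⟨hs.1.mono hst, ht⟩, fun u hu htu => (hmax u hu.2 htu).le⟩, hst⟩

/-- If `x` has a Noetherian neighbourhood and lies on a unique irreducible component, then `x`
has an irreducible open neighbourhood. -/
theorem exists_irreducible_open_nhd {x : X} (hN : ∃ V ∈ nhds x, NoetherianSpace V)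
    (huniq : ∀ Z₁ ∈ irreducibleComponents X, ∀ Z₂ ∈ irreducibleComponents X,
      x ∈ Z₁ → x ∈ Z₂ → Z₁ = Z₂) :
    ∃ U : Set X, IsOpen U ∧ x ∈ U ∧ IsIrreducible U := by
  obtain ⟨V₀, hV₀, hV₀N⟩ := hN
  have hVopen : IsOpen (interior V₀) := isOpen_interior
  have hxV : x ∈ interior V₀ := mem_interior_iff_mem_nhds.2 hV₀
  set Z := irreducibleComponent x with hZdef
  have hZ : Z ∈ irreducibleComponents X := irreducibleComponent_mem_irreducibleComponents x
  have hxZ : x ∈ Z := mem_irreducibleComponent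
  have hN' : NoetherianSpace (interior V₀ \ Z : Set X) :=
    NoetherianSpace.of_subset (sdiff_subset.trans interior_subset)
  obtain ⟨S, hSfin, -, hSirr, hSU⟩ :=
    NoetherianSpace.exists_finite_set_isClosed_irreducible
      (isClosed_univ : IsClosed (univ : Set (interior V₀ \ Z : Set X)))
  have hcover : (interior V₀ \ Z : Set X) = ⋃ T ∈ S, Subtype.val '' T := by
    ext y
    constructor
    · intro hy
      have : (⟨y, hy⟩ : (interior V₀ \ Z : Set X)) ∈ ⋃₀ S := hSU ▸ mem_univ _
      obtain ⟨T, hT, hyT⟩ := this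
      exact mem_biUnion hT ⟨⟨y, hy⟩, hyT, rfl⟩
    · intro hy
      obtain ⟨T, _, ⟨z, _, rfl⟩⟩ := mem_iUnion₂.1 hy
      exact z.2
  have hxC : x ∉ closure (interior V₀ \ Z : Set X) := by
    rw [hcover, hSfin.closure_biUnion]
    intro hx
    obtain ⟨T, hT, hxT⟩ := mem_iUnion₂.1 hx
    have hirr : IsIrreducible (closure (Subtype.val '' T : Set X)) :=
      ((hSirr T hT).image _ continuous_subtype_val.continuousOn).closure
    obtain ⟨Z', hZ', hsub⟩ := exists_irreducibleComponent_superset hirr
    have hZZ' : Z' = Z := huniq Z' hZ' Z hZ (hsub hxT) hxZ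
    obtain ⟨t, ht⟩ := (hSirr T hT).1
    have h1 : (t : X) ∈ Z' := hsub (subset_closure ⟨t, ht, rfl⟩)
    exact t.2.2 (hZZ'.subset h1)
  refine ⟨interior V₀ ∩ (closure (interior V₀ \ Z : Set X))ᶜ,
    hVopen.inter isClosed_closure.isOpen_compl, ⟨hxV, hxC⟩, ⟨x, hxV, hxC⟩, ?_⟩
  apply hZ.1.2.open_subset (hVopen.inter isClosed_closure.isOpen_compl)
  rintro y ⟨hyV, hyC⟩
  by_contra hyZ
  exact hyC (subset_closure ⟨hyV, hyZ⟩)

end Groth.Agent.H4Top
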