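import Mathlib
import Groth.Agent.Lib.helper4.Normal1

/-!
# Sections of integral morphisms over normal schemes: the affine case
-/

set_option autoImplicit false
universe u

namespace Groth.Agent.H4Normal

open AlgebraicGeometry CategoryTheory TopologicalSpace Opposite

/-- factor a ring hom through an injective one -/
theorem exists_factor_of_range_le {A B C : Type*} [CommRing A] [CommRing B] [CommRing C]
    (ρ : A →+* C) (hρ : Function.Injective ρ) (σ : B →+* C) (h : ∀ b, ∃ a, ρ a = σ b) :
    ∃ τ : B →+* A, ρ.comp τ = σ := by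
  choose t ht using h
  have h1 : t 1 = 1 := hρ (by rw [ht, map_one, map_one])
  have hmul : ∀ x y, t (x * y) = t x * t y := fun x y =>
    hρ (by rw [ht, map_mul, map_mul, ht, ht])
  have h0 : t 0 = 0 := hρ (by rw [ht, map_zero, map_zero])
  have hadd : ∀ x y, t (x + y) = t x + t y := fun x y =>
    hρ (by rw [ht, map_add, map_add, ht, ht])
  refine ⟨{ toFun := t, map_one' := h1, map_mul' := hmul, map_zero' := h0, map_add' := hadd }, ?_⟩
  ext b
  exact ht b

variable {X X' : Scheme.{u}} [IsIntegral X]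

theorem affine_case [IsAffine X] (hX : Pi1.IsNormalScheme X) (g : X' ⟶ X) [IsIntegralHom g]
    (U : X.Opens) (hU : Dense (U : Set X)) (s : (U : Scheme.{u}) ⟶ X') (hs : s ≫ g = U.ι) :
    ∃ s' : X ⟶ X', s' ≫ g = 𝟙 X ∧ U.ι ≫ s' = s := by
  have hX' : IsAffine X' := isAffine_of_isAffineHom g
  have hξ : genericPoint X ∈ U := by
    obtain ⟨z, hz⟩ := hU.nonempty_iff.2 inferInstance
    exact genericPoint_mem' X hz
  let A := (Γ(X, ⊤) : Type u)
  let B := (Γ(X', ⊤) : Type u)
  let φ : A →+* B := g.appTop.hom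
  have hφ : φ.IsIntegral := IsIntegralHom.isIntegral_app g ⊤ (isAffineOpen_top X)
  let ρ : A →+* Γ((U : Scheme.{u}), ⊤) := U.ι.appTop.hom
  let σ : B →+* Γ((U : Scheme.{u}), ⊤) := s.appTop.hom
  have hσφ : σ.comp φ = ρ := by
    have h1 : g.appTop ≫ s.appTop = U.ι.appTop := by
      rw [← Scheme.Hom.comp_appTop, hs]
    exact congrArg CommRingCat.Hom.hom h1
  -- germ at the generic point for global sections of `U`
  have hξ' : genericPoint X ∈ U.ι ''ᵁ ⊤ := by
    rw [U.ι_image_top]; exact hξ
  let γ : Γ((U : Scheme.{u}), ⊤) →+* X.functionField :=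
    (X.presheaf.germ (U.ι ''ᵁ ⊤) (genericPoint X) hξ').hom
  have hγ : Function.Injective γ := germ_injective_of_isIntegral X (genericPoint X) hξ'
  have hγρ : γ.comp ρ = (X.presheaf.germ ⊤ (genericPoint X) trivial).hom := by
    have : U.ι.appTop ≫ X.presheaf.germ (U.ι ''ᵁ ⊤) (genericPoint X) hξ' =
        X.presheaf.germ ⊤ (genericPoint X) trivial :=
      X.presheaf.germ_res (homOfLE (le_top : U.ι ''ᵁ ⊤ ≤ ⊤)) (genericPoint X) hξ'
    exact congrArg CommRingCat.Hom.hom this
  have hρ : Function.Injective ρ := by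
    intro a b hab
    apply germ_injective_of_isIntegral X (U := ⊤) (genericPoint X) trivial
    have := congrArg γ hab
    rw [← RingHom.comp_apply, ← RingHom.comp_apply, hγρ] at this
    exact this
  have hrange : ∀ b : B, ∃ a : A, ρ a = σ b := by
    intro b
    obtain ⟨p, hp, hpb⟩ := hφ b
    have hpa : Polynomial.eval₂ (X.presheaf.germ ⊤ (genericPoint X) trivial).hom (γ (σ b)) p = 0 := by
      have h1 := congrArg (fun t => γ (σ t)) hpb
      simp only [map_zero] at h1
      rw [← RingHom.comp_apply, Polynomial.hom_eval₂, RingHom.comp_assoc, hσφ, hγρ] at h1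
      exact h1
    obtain ⟨y, hy⟩ := exists_section_of_isIntegralElem X hX (γ (σ b)) p hp hpa
    refine ⟨y, hγ ?_⟩
    rw [← RingHom.comp_apply, hγρ]
    exact hy
  obtain ⟨τ, hτ⟩ := exists_factor_of_range_le ρ hρ σ hrange
  have hτφ : τ.comp φ = RingHom.id A := by
    ext a
    apply hρ
    have h1 := congrArg (fun F => F (φ a)) hτ
    have h2 := congrArg (fun F => F a) hσφ
    simp only [RingHom.comp_apply] at h1 h2
    simp only [RingHom.comp_apply, RingHom.id_apply]
    rw [h1, h2]
  let s' : X ⟶ X' := X.toSpecΓ ≫ Spec.map (CommRingCat.ofHom τ) ≫ X'.isoSpec.inv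
  have hs' : s'.appTop = CommRingCat.ofHom τ := by
    simp only [s', Scheme.Hom.comp_appTop, Scheme.toSpecΓ_appTop]
    simp [Scheme.isoSpec]
    congr 1
    exact (Scheme.toSpecΓ_appTop X').symm
  refine ⟨s', ?_, ?_⟩
  · apply ext_of_isAffine
    rw [Scheme.Hom.comp_appTop, hs']
    ext a
    exact congrArg (fun F => F a) hτφ
  · apply ext_of_isAffine
    rw [Scheme.Hom.comp_appTop, hs']
    ext b
    exact congrArg (fun F => F b) hτ

end Groth.Agent.H4Normal
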