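import Mathlib
import Groth.Agent.Lib.helper4.Normal2

/-!
# Sections of integral morphisms over normal integral schemes extend from dense opens
-/

set_option autoImplicit false
universe u

namespace Groth.Agent.H4Normal

open AlgebraicGeometry CategoryTheory TopologicalSpace Opposite Limits

variable {X X' : Scheme.{u}} [IsIntegral X]

omit [IsIntegral X] in
theorem isNormalScheme_opens (hX : Pi1.IsNormalScheme X) (V : X.Opens) :
    Pi1.IsNormalScheme (V : Scheme.{u}) := by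
  intro x
  obtain ⟨hd, hc⟩ := hX x.1
  let e : (V : Scheme.{u}).presheaf.stalk x ≃+* X.presheaf.stalk x.1 :=
    (V.stalkIso x).commRingCatIsoToRingEquiv
  have hd' : IsDomain ((V : Scheme.{u}).presheaf.stalk x) := e.injective.isDomain e.toRingHom
  exact ⟨hd', IsIntegrallyClosed.of_equiv e.symm⟩

/-- The local extension over an affine open. -/
theorem local_section (hX : Pi1.IsNormalScheme X) (g : X' ⟶ X) [IsIntegralHom g]
    (U : X.Opens) (hU : Dense (U : Set X)) (s : (U : Scheme.{u}) ⟶ X') (hs : s ≫ g = U.ι)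
    (V : X.Opens) (hV : IsAffineOpen V) [Nonempty V] :
    ∃ f : (V : Scheme.{u}) ⟶ X', f ≫ g = V.ι ∧
      ∀ (T : Scheme.{u}) (a : T ⟶ (V : Scheme.{u})) (b : T ⟶ (U : Scheme.{u})),
        a ≫ V.ι = b ≫ U.ι → a ≫ f = b ≫ s := by
  have hVaff : IsAffine (V : Scheme.{u}) := hV
  have hnorm := isNormalScheme_opens hX V
  let gV := g ∣_ V
  have hgV : IsIntegralHom gV :=
    IsZariskiLocalAtTarget.restrict (P := @IsIntegralHom) (inferInstance : IsIntegralHom g) V
  let UV : (V : Scheme.{u}).Opens := V.ι ⁻¹ᵁ U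
  have hUV : Dense (UV : Set (V : Scheme.{u})) :=
    hU.preimage V.ι.isOpenEmbedding.isOpenMap
  have hrange : Set.range (UV.ι ≫ V.ι) ⊆ Set.range U.ι := by
    rintro _ ⟨z, rfl⟩
    rw [Scheme.Opens.range_ι]
    exact z.2
  let t : (UV : Scheme.{u}) ⟶ (U : Scheme.{u}) := IsOpenImmersion.lift U.ι (UV.ι ≫ V.ι) hrange
  have ht : t ≫ U.ι = UV.ι ≫ V.ι := IsOpenImmersion.lift_fac _ _ _
  have hrange2 : Set.range (t ≫ s) ⊆ Set.range (g ⁻¹ᵁ V).ι := by
    rintro _ ⟨z, rfl⟩
    rw [Scheme.Opens.range_ι]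
    change g ((t ≫ s) z) ∈ V
    have : g ((t ≫ s) z) = (UV.ι ≫ V.ι) z := by
      rw [← ht, ← hs]
      rfl
    rw [this]
    exact (UV.ι z).2
  let sV : (UV : Scheme.{u}) ⟶ ((g ⁻¹ᵁ V : X'.Opens) : Scheme.{u}) :=
    IsOpenImmersion.lift (g ⁻¹ᵁ V).ι (t ≫ s) hrange2
  have hsV : sV ≫ (g ⁻¹ᵁ V).ι = t ≫ s := IsOpenImmersion.lift_fac _ _ _
  have hsVg : sV ≫ gV = UV.ι := by
    rw [← cancel_mono V.ι, Category.assoc, morphismRestrict_ι, ← Category.assoc, hsV,
      Category.assoc, hs, ht]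
  obtain ⟨s'', h1, h2⟩ := affine_case hnorm gV UV hUV sV hsVg
  refine ⟨s'' ≫ (g ⁻¹ᵁ V).ι, ?_, ?_⟩
  · rw [Category.assoc, ← morphismRestrict_ι, ← Category.assoc, h1, Category.id_comp]
  · intro T a b hab
    have hra : Set.range a ⊆ Set.range UV.ι := by
      rintro _ ⟨z, rfl⟩
      rw [Scheme.Opens.range_ι]
      change V.ι (a z) ∈ U
      have : V.ι (a z) = (a ≫ V.ι) z := rfl
      rw [this, hab]
      exact (b z).2
    let k : T ⟶ (UV : Scheme.{u}) := IsOpenImmersion.lift UV.ι a hra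
    have hk : k ≫ UV.ι = a := IsOpenImmersion.lift_fac _ _ _
    have hkb : k ≫ t = b := by
      rw [← cancel_mono U.ι, Category.assoc, ht, ← Category.assoc, hk, hab]
    rw [← hk, Category.assoc, ← Category.assoc UV.ι, h2, hsV, ← Category.assoc, hkb]

theorem isDominant_opens_ι {Z : Scheme.{u}} (W : Z.Opens) (hW : Dense (W : Set Z)) :
    IsDominant W.ι := by
  constructor
  rw [DenseRange, Scheme.Opens.range_ι]
  exact hW

/-- **Extension of sections** of an integral morphism over a normal integral scheme. -/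
theorem exists_section_extension (hX : Pi1.IsNormalScheme X) (g : X' ⟶ X) [IsIntegralHom g]
    (U : X.Opens) (hU : Dense (U : Set X)) (s : (U : Scheme.{u}) ⟶ X') (hs : s ≫ g = U.ι) :
    ∃ s' : X ⟶ X', s' ≫ g = 𝟙 X ∧ U.ι ≫ s' = s := by
  -- affine neighbourhoods
  have hV : ∀ x : X, ∃ V : X.Opens, IsAffineOpen V ∧ x ∈ V := fun x => by
    obtain ⟨V, hV, hxV, -⟩ := exists_isAffineOpen_mem_and_subset (x := x) (U := ⊤) trivial
    exact ⟨V, hV, hxV⟩
  choose V hVaff hxV using hV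
  have hne : ∀ x, Nonempty (V x) := fun x => ⟨⟨x, hxV x⟩⟩
  have hloc := fun x => local_section hX g U hU s hs (V x) (hVaff x)
  choose f hf1 hf2 using hloc
  let 𝒰 : X.OpenCover :=
    { I₀ := X, X := fun i => (V i : Scheme.{u}), f := fun i => (V i).ι,
      mem₀ := by
        rw [Scheme.presieve₀_mem_precoverage_iff]
        refine ⟨fun x ↦ ⟨x, by simpa using hxV x⟩, inferInstance⟩ }
  have hcompat : ∀ x y : X, pullback.fst (𝒰.f x) (𝒰.f y) ≫ f x = pullback.snd (𝒰.f x) (𝒰.f y) ≫ f y := by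
    intro x y
    let P := pullback (V x).ι (V y).ι
    let q : P ⟶ X := pullback.fst (V x).ι (V y).ι ≫ (V x).ι
    have hq : pullback.snd (V x).ι (V y).ι ≫ (V y).ι = q := pullback.condition.symm
    have hPred : IsReduced P := isReduced_of_isOpenImmersion q
    let PU : P.Opens := q ⁻¹ᵁ U
    have hPU : Dense (PU : Set P) := hU.preimage q.isOpenEmbedding.isOpenMap
    have hdom : IsDominant PU.ι := isDominant_opens_ι PU hPU
    have hrange : Set.range (PU.ι ≫ q) ⊆ Set.range U.ι := by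
      rintro _ ⟨z, rfl⟩
      rw [Scheme.Opens.range_ι]
      exact z.2
    let b : (PU : Scheme.{u}) ⟶ (U : Scheme.{u}) := IsOpenImmersion.lift U.ι (PU.ι ≫ q) hrange
    have hb : b ≫ U.ι = PU.ι ≫ q := IsOpenImmersion.lift_fac _ _ _
    change pullback.fst (V x).ι (V y).ι ≫ f x = pullback.snd (V x).ι (V y).ι ≫ f y
    apply ext_of_isDominant_of_isSeparated g ?_ PU.ι
    · rw [← Category.assoc, ← Category.assoc,
        hf2 x _ (PU.ι ≫ pullback.fst (V x).ι (V y).ι) b (by rw [Category.assoc, hb]),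
        hf2 y _ (PU.ι ≫ pullback.snd (V x).ι (V y).ι) b (by rw [Category.assoc, hq, hb])]
    · rw [Category.assoc, Category.assoc, hf1, hf1, hq]
  let s' : X ⟶ X' := 𝒰.glueMorphisms f hcompat
  have hs' : ∀ x, (V x).ι ≫ s' = f x := fun x => 𝒰.ι_glueMorphisms f hcompat x
  refine ⟨s', ?_, ?_⟩
  · apply 𝒰.hom_ext
    intro x
    change (V x).ι ≫ s' ≫ g = (V x).ι ≫ 𝟙 X
    rw [← Category.assoc, hs', hf1, Category.comp_id]
  · apply Scheme.hom_ext_of_forall
    intro u
    let W : (U : Scheme.{u}).Opens := U.ι ⁻¹ᵁ (V u.1)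
    refine ⟨W, hxV u.1, ?_⟩
    have hrange : Set.range (W.ι ≫ U.ι) ⊆ Set.range (V u.1).ι := by
      rintro _ ⟨z, rfl⟩
      rw [Scheme.Opens.range_ι]
      exact z.2
    let a : (W : Scheme.{u}) ⟶ (V u.1 : Scheme.{u}) :=
      IsOpenImmersion.lift (V u.1).ι (W.ι ≫ U.ι) hrange
    have ha : a ≫ (V u.1).ι = W.ι ≫ U.ι := IsOpenImmersion.lift_fac _ _ _
    rw [← Category.assoc, ← ha, Category.assoc, hs']
    exact hf2 u.1 _ a W.ι ha

end Groth.Agent.H4Normal
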