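import Mathlib

/-!
# Quasi-affine morphisms (helper lemmas)
-/
set_option autoImplicit false
universe u
namespace Groth.Agent.H4QAff
open AlgebraicGeometry CategoryTheory TopologicalSpace

/-- a section over `U` restricted to a global section of the open subscheme `U` -/
theorem exists_top_section {X : Scheme.{u}} (U : X.Opens) (t : Γ(X, U)) :
    ∃ r : Γ((U : Scheme.{u}), ⊤), (U : Scheme.{u}).basicOpen r = U.ι ⁻¹ᵁ (X.basicOpen t) := by
  refine ⟨(U.ι.appLE U ⊤ (by simp)).hom t, ?_⟩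
  rw [Scheme.basicOpen_appLE]
  simp

theorem isQuasiAffine_of_basicOpens {X : Scheme.{u}} (U : X.Opens) (hc : IsCompact (U : Set X))
    (H : ∀ x ∈ U, ∃ t : Γ(X, U), IsAffineOpen (X.basicOpen t) ∧ x ∈ X.basicOpen t) :
    Scheme.IsQuasiAffine (U : Scheme.{u}) := by
  have : CompactSpace (U : Scheme.{u}) := isCompact_iff_compactSpace.1 hc
  apply Scheme.IsQuasiAffine.of_forall_exists_mem_basicOpen
  intro x
  obtain ⟨t, ht, hxt⟩ := H x.1 x.2
  obtain ⟨r, hr⟩ := exists_top_section U t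
  refine ⟨r, ?_, ?_⟩
  · rw [hr, ← U.ι.isAffineOpen_iff_of_isOpenImmersion, Scheme.Hom.image_preimage_eq_opensRange_inf]
    have hle : X.basicOpen t ≤ U.ι.opensRange := by
      rw [Scheme.Opens.opensRange_ι]
      exact X.basicOpen_le t
    rw [inf_eq_right.2 hle]
    exact ht
  · rw [hr]
    exact hxt

theorem isQuasiAffine_preimage_of_isEmbedding {X Y : Scheme.{u}} (f : X ⟶ Y) [QuasiCompact f]
    (hf : Topology.IsEmbedding f.base) (V : Y.Opens) (hV : IsAffineOpen V) :
    Scheme.IsQuasiAffine (f ⁻¹ᵁ V : Scheme.{u}) := by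
  apply isQuasiAffine_of_basicOpens _ (f.isCompact_preimage hV.isCompact)
  intro x hx
  obtain ⟨U₀, hU₀, hxU₀, hU₀V⟩ := exists_isAffineOpen_mem_and_subset (x := x) (U := f ⁻¹ᵁ V) hx
  obtain ⟨W, hW, hWU⟩ := hf.isOpen_iff.1 U₀.isOpen
  let W' : Y.Opens := ⟨W, hW⟩
  have hxW : f x ∈ W' := by
    change x ∈ f.base ⁻¹' W
    rw [hWU]; exact hxU₀
  obtain ⟨s, hs1, hs2⟩ := hV.exists_basicOpen_le (V := W') ⟨f x, hxW⟩ hx
  refine ⟨(f.app V).hom s, ?_, ?_⟩
  · have hle : X.basicOpen ((f.app V).hom s) ≤ U₀ := by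
      rw [← Scheme.preimage_basicOpen]
      intro z hz
      have : f z ∈ W' := hs1 hz
      change z ∈ (U₀ : Set X)
      rw [← hWU]
      exact this
    have h1 : X.basicOpen (X.presheaf.map (homOfLE hU₀V).op ((f.app V).hom s)) =
        X.basicOpen ((f.app V).hom s) := by
      rw [Scheme.basicOpen_res]
      exact inf_eq_right.2 hle
    rw [← h1]
    exact hU₀.basicOpen _
  · rw [← Scheme.preimage_basicOpen]
    exact hs2

end Groth.Agent.H4QAff
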