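import Mathlib
import Groth.Agent.Lib.helper4.SchLocLemmas

/-! A locally-of-finite-type morphism from a quasi-affine scheme factors through an immersion into
an affine space over the base. -/

open AlgebraicGeometry CategoryTheory Limits TopologicalSpace
universe u

namespace H4QAffImm

theorem isClosedImmersion_restrict_of_surjective {X P : Scheme.{u}} (i : X ⟶ P) (V : P.Opens)
    (hV : IsAffineOpen V) (U : X.Opens) (hU : IsAffineOpen U) (e : i ⁻¹ᵁ V = U)
    (hs : Function.Surjective (i.appLE V U e.ge).hom) : IsClosedImmersion (i ∣_ V) := by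
  subst e
  have : IsAffine (V : Scheme.{u}) := hV
  have : IsAffine ((i ⁻¹ᵁ V : X.Opens) : Scheme.{u}) := hU
  apply IsClosedImmersion.of_surjective_of_isAffine
  rw [morphismRestrict_appTop]
  have h1 : ∀ W : P.Opens, W = V → Function.Surjective (i.app W).hom := by
    rintro W rfl
    rw [Scheme.Hom.appLE_eq_app] at hs
    exact hs
  have h2 := h1 (V.ι ''ᵁ ⊤) V.ι_image_top
  have h3 : Function.Surjective
      (X.presheaf.map (eqToHom (image_morphismRestrict_preimage i V ⊤)).op).hom :=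
    ((ConcreteCategory.isIso_iff_bijective _).mp inferInstance).2
  exact h3.comp h2

theorem appLE_congr_hom {X S : Scheme.{u}} (π q : X ⟶ S) (hq : q = π) (W : S.Opens) (U : X.Opens)
    (h : U ≤ π ⁻¹ᵁ W) (h' : U ≤ q ⁻¹ᵁ W) : q.appLE W U h' = π.appLE W U h := by
  subst hq; rfl

theorem isImmersion_homOfVector {X S : Scheme.{u}} (π : X ⟶ S) {ι : Type u} (v : ι → Γ(X, ⊤))
    (key : ∀ x : X, ∃ (W : S.Opens) (k : ι) (hle : X.basicOpen (v k) ≤ π ⁻¹ᵁ W), IsAffineOpen W ∧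
      IsAffineOpen (X.basicOpen (v k)) ∧ x ∈ X.basicOpen (v k) ∧
      ∀ T : Subring Γ(X, X.basicOpen (v k)),
        (∀ a : Γ(S, W), (π.appLE W (X.basicOpen (v k)) hle).hom a ∈ T) →
        (∀ j, (X.presheaf.map (homOfLE le_top).op).hom (v j) ∈ T) →
        (∀ w, w * (X.presheaf.map (homOfLE le_top).op).hom (v k) = 1 → w ∈ T) → T = ⊤) :
    IsImmersion (AffineSpace.homOfVector π v) := by
  refine Groth.Agent.H4SchLoc.isImmersion_of_forall_exists_restrict _ fun x => ?_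
  obtain ⟨W, k, hle, hW, hU, hx, hT⟩ := key x
  set i := AffineSpace.homOfVector π v with hi
  let p : 𝔸(ι; S) ⟶ S := 𝔸(ι; S) ↘ S
  have hip : i ≫ p = π := AffineSpace.homOfVector_over π v
  have hcoord : ∀ j, i.appTop (AffineSpace.coord S j) = v j :=
    AffineSpace.homOfVector_appTop_coord π v
  let V : 𝔸(ι; S).Opens := p ⁻¹ᵁ W ⊓ 𝔸(ι; S).basicOpen (AffineSpace.coord S k)
  have hVaff : IsAffineOpen V := by
    have h1 : IsAffineOpen (p ⁻¹ᵁ W) := hW.preimage p
    have := h1.basicOpen (𝔸(ι; S).presheaf.map (homOfLE le_top).op (AffineSpace.coord S k))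
    rwa [Scheme.basicOpen_res] at this
  have e : i ⁻¹ᵁ V = X.basicOpen (v k) := by
    show i ⁻¹ᵁ (p ⁻¹ᵁ W) ⊓ i ⁻¹ᵁ (𝔸(ι; S).basicOpen (AffineSpace.coord S k)) = _
    rw [← Scheme.Hom.comp_preimage, hip, Scheme.preimage_basicOpen_top, hcoord]
    exact inf_eq_right.mpr hle
  refine ⟨V, ?_, isClosedImmersion_restrict_of_surjective i V hVaff _ hU e ?_⟩
  · have : x ∈ i ⁻¹ᵁ V := e ▸ hx
    exact this
  · set φ := (i.appLE V (X.basicOpen (v k)) e.ge).hom with hφ
    have hVle : V ≤ p ⁻¹ᵁ W := inf_le_left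
    have hii : ∀ c : Γ(𝔸(ι; S), ⊤), φ ((𝔸(ι; S).presheaf.map (homOfLE (le_top : V ≤ ⊤)).op).hom c) =
        (X.presheaf.map (homOfLE le_top).op).hom (i.appTop.hom c) := by
      intro c
      rw [hφ, ← CommRingCat.comp_apply, Scheme.Hom.map_appLE]
      rfl
    have hT' := hT φ.range ?_ ?_ ?_
    · intro y
      have : y ∈ φ.range := hT' ▸ Subring.mem_top y
      exact this
    · intro a
      have h1 := Scheme.Hom.appLE_comp_appLE i p W V (X.basicOpen (v k)) hVle e.ge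
      rw [appLE_congr_hom π (i ≫ p) hip W _ hle] at h1
      rw [← h1]
      exact ⟨(p.appLE W V hVle).hom a, rfl⟩
    · intro j
      refine ⟨(𝔸(ι; S).presheaf.map (homOfLE (le_top : V ≤ ⊤)).op).hom (AffineSpace.coord S j), ?_⟩
      rw [hii]
      exact congrArg _ (hcoord j)
    · intro w hw
      have hunit : IsUnit ((𝔸(ι; S).presheaf.map (homOfLE (le_top : V ≤ ⊤)).op).hom
          (AffineSpace.coord S k)) := by
        have h1 : IsUnit ((𝔸(ι; S).presheaf.map
            (homOfLE (𝔸(ι; S).basicOpen_le (AffineSpace.coord S k))).op).hom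
              (AffineSpace.coord S k)) := RingedSpace.isUnit_res_basicOpen _ _
        have h2 := h1.map (𝔸(ι; S).presheaf.map
          (homOfLE (inf_le_right : V ≤ 𝔸(ι; S).basicOpen (AffineSpace.coord S k))).op).hom
        rw [← RingHom.comp_apply, ← CommRingCat.hom_comp, ← Functor.map_comp] at h2
        exact h2
      obtain ⟨d, hd⟩ := hunit.exists_left_inv
      have h4 : (X.presheaf.map (homOfLE le_top).op).hom (v k) =
          φ ((𝔸(ι; S).presheaf.map (homOfLE (le_top : V ≤ ⊤)).op).hom (AffineSpace.coord S k)) := by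
        rw [hii]
        exact congrArg _ (hcoord k).symm
      have h3 : φ d * (X.presheaf.map (homOfLE le_top).op).hom (v k) = 1 := by
        rw [h4, ← map_mul, hd, map_one]
      refine ⟨d, ?_⟩
      calc φ d = φ d * (w * (X.presheaf.map (homOfLE le_top).op).hom (v k)) := by rw [hw, mul_one]
        _ = w * (φ d * (X.presheaf.map (homOfLE le_top).op).hom (v k)) := by ring
        _ = w := by rw [h3, mul_one]

theorem exists_immersion {X S : Scheme.{u}} (π : X ⟶ S) [LocallyOfFiniteType π] [X.IsQuasiAffine] :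
    ∃ (n : ℕ) (i : X ⟶ 𝔸(ULift.{u} (Fin n); S)), IsImmersion i ∧
      i ≫ (𝔸(ULift.{u} (Fin n); S) ↘ S) = π := by
  classical
  have loc : ∀ x : X, ∃ (W : S.Opens) (r : Γ(X, ⊤)) (_ : X.basicOpen r ≤ π ⁻¹ᵁ W),
      IsAffineOpen W ∧ IsAffineOpen (X.basicOpen r) ∧ x ∈ X.basicOpen r := by
    intro x
    obtain ⟨_, ⟨W, hW, rfl⟩, hxW, -⟩ := (S.isBasis_affineOpens).exists_subset_of_mem_open
      (Set.mem_univ (π x)) isOpen_univ
    obtain ⟨_, ⟨_, ⟨r, hr, rfl⟩, rfl⟩, hxr, hrW⟩ :=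
      (Scheme.IsQuasiAffine.isBasis_basicOpen X).exists_subset_of_mem_open
        (show x ∈ ((π ⁻¹ᵁ W : X.Opens) : Set X) from hxW) (π ⁻¹ᵁ W).2
    exact ⟨W, r, hrW, hW, hr, hxr⟩
  choose W r hle hW hU hxU using loc
  obtain ⟨t, ht⟩ : ∃ t : Finset X, ∀ y : X, ∃ x ∈ t, y ∈ X.basicOpen (r x) := by
    obtain ⟨t, ht⟩ := isCompact_univ.elim_finite_subcover
      (fun x : X => ((X.basicOpen (r x) : X.Opens) : Set X)) (fun x => (X.basicOpen (r x)).2)
      (fun y _ => Set.mem_iUnion.mpr ⟨y, hxU y⟩)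
    exact ⟨t, fun y => by simpa using ht (Set.mem_univ y)⟩
  have gen : ∀ x : X, ∃ s : Finset Γ(X, X.basicOpen (r x)),
      @Algebra.adjoin Γ(S, W x) Γ(X, X.basicOpen (r x)) _ _
        (π.appLE (W x) (X.basicOpen (r x)) (hle x)).hom.toAlgebra
        (s : Set Γ(X, X.basicOpen (r x))) = ⊤ := by
    intro x
    have := π.finiteType_appLE (hW x) (hU x) (hle x)
    exact this.out
  choose s hs using gen
  have lift : ∀ (x : X) (g : Γ(X, X.basicOpen (r x))), ∃ (n : ℕ) (a : Γ(X, ⊤)),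
      (X.presheaf.map (homOfLE le_top).op).hom a =
        ((X.presheaf.map (homOfLE le_top).op).hom (r x)) ^ n * g := by
    intro x g
    obtain ⟨n, a, ha⟩ := exists_eq_pow_mul_of_isCompact_of_isQuasiSeparated X ⊤
      isCompact_univ isQuasiSeparated_univ (r x) g
    exact ⟨n, a, ha⟩
  choose N a ha using lift
  let J := (t : Type u) ⊕ (Σ x : t, (s x.1 : Type u))
  let vJ : J → Γ(X, ⊤) := Sum.elim (fun x => r x.1) (fun q => a q.1.1 q.2.1)
  let n := Fintype.card J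
  let eJ : J ≃ Fin n := Fintype.equivFin J
  let v : ULift.{u} (Fin n) → Γ(X, ⊤) := fun j => vJ (eJ.symm j.down)
  refine ⟨n, AffineSpace.homOfVector π v, ?_, AffineSpace.homOfVector_over π v⟩
  apply isImmersion_homOfVector
  intro y
  obtain ⟨x, hxt, hy⟩ := ht y
  have hvk : v ⟨eJ (Sum.inl ⟨x, hxt⟩)⟩ = r x := by simp [v, vJ]
  have main : ∀ (r' : Γ(X, ⊤)), r' = r x → ∃ (hle' : X.basicOpen r' ≤ π ⁻¹ᵁ W x),
      IsAffineOpen (W x) ∧ IsAffineOpen (X.basicOpen r') ∧ y ∈ X.basicOpen r' ∧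
      ∀ T : Subring Γ(X, X.basicOpen r'),
        (∀ a : Γ(S, W x), (π.appLE (W x) (X.basicOpen r') hle').hom a ∈ T) →
        (∀ j, (X.presheaf.map (homOfLE le_top).op).hom (v j) ∈ T) →
        (∀ w, w * (X.presheaf.map (homOfLE le_top).op).hom r' = 1 → w ∈ T) → T = ⊤ := by
    rintro r' rfl
    refine ⟨hle x, hW x, hU x, hy, fun T h1 h2 h3 => ?_⟩
    let alg := (π.appLE (W x) (X.basicOpen (r x)) (hle x)).hom.toAlgebra
    let T' : Subalgebra Γ(S, W x) Γ(X, X.basicOpen (r x)) :=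
      { T.toSubsemiring with algebraMap_mem' := h1 }
    have hunit : IsUnit ((X.presheaf.map (homOfLE (le_top : X.basicOpen (r x) ≤ ⊤)).op).hom (r x)) :=
      RingedSpace.isUnit_res_basicOpen _ _
    obtain ⟨w, hw⟩ := hunit.exists_left_inv
    have hwT : w ∈ T := h3 w hw
    have hle2 : Algebra.adjoin Γ(S, W x) (s x : Set Γ(X, X.basicOpen (r x))) ≤ T' := by
      refine Algebra.adjoin_le fun g hg => ?_
      have h4 := h2 ⟨eJ (Sum.inr ⟨⟨x, hxt⟩, ⟨g, hg⟩⟩)⟩
      have h5 : v ⟨eJ (Sum.inr ⟨⟨x, hxt⟩, ⟨g, hg⟩⟩)⟩ = a x g := by simp [v, vJ]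
      rw [h5, ha x g] at h4
      have h6 : g = w ^ (N x g) *
          (((X.presheaf.map (homOfLE le_top).op).hom (r x)) ^ (N x g) * g) := by
        rw [← mul_assoc, ← mul_pow, hw, one_pow, one_mul]
      show g ∈ T
      rw [h6]
      exact T.mul_mem (T.pow_mem hwT _) h4
    rw [hs x] at hle2
    rw [eq_top_iff]
    intro z _
    exact hle2 (Algebra.mem_top : z ∈ (⊤ : Subalgebra Γ(S, W x) Γ(X, X.basicOpen (r x))))
  obtain ⟨hle', h1, h2, h3, h4⟩ := main _ hvk
  exact ⟨W x, ⟨eJ (Sum.inl ⟨x, hxt⟩)⟩, hle', h1, h2, h3, h4⟩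

end H4QAffImm
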