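import Mathlib
import Groth.Agent.Lib.helper4.FlatUnram1

/-!
# Irreducible components under flat locally quasi-finite morphisms
-/

set_option autoImplicit false
universe u

namespace Groth.Agent.H4QFC

open AlgebraicGeometry CategoryTheory Limits TopologicalSpace

theorem eq_of_specializes_of_isDiscrete {α : Type*} [TopologicalSpace α] {s : Set α}
    (hs : IsDiscrete s) {x x' : α} (hx : x ∈ s) (hx' : x' ∈ s) (h : x' ⤳ x) : x' = x := by
  obtain ⟨u, hu, hus⟩ := (isDiscrete_iff_forall_mem_exists_isOpen.1 hs) x hx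
  have hxu : x ∈ u := (hus.ge rfl).1
  have hx'u : x' ∈ u := h.mem_open hu hxu
  have h2 : x' ∈ u ∩ s := ⟨hx'u, hx'⟩
  rw [hus] at h2
  exact h2

/-- The closure of a point without proper generizations is an irreducible component. -/
theorem closure_mem_irreducibleComponents {α : Type*} [TopologicalSpace α] [QuasiSober α]
    {x : α} (hx : ∀ x' : α, x' ⤳ x → x' = x) : closure {x} ∈ irreducibleComponents α := by
  refine ⟨isIrreducible_singleton.closure, fun Z hZ hle => ?_⟩
  obtain ⟨z, hz⟩ := QuasiSober.sober hZ.closure isClosed_closure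
  have hxZ : x ∈ closure Z := subset_closure (hle (subset_closure rfl))
  have hzx : z ⤳ x := by
    rw [specializes_iff_mem_closure, hz.def]
    exact hxZ
  have := hx z hzx
  subst this
  rw [hz.def]
  exact subset_closure

variable {X Y : Scheme.{u}} (f : X ⟶ Y)

/-- For a flat locally quasi-finite morphism, the points over maximal points are exactly the
maximal points. -/
theorem closure_mem_irreducibleComponents_iff [Flat f] [LocallyQuasiFinite f] (x : X) :
    closure ({x} : Set X) ∈ irreducibleComponents X ↔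
      closure ({f x} : Set Y) ∈ irreducibleComponents Y := by
  constructor
  · intro hx
    apply closure_mem_irreducibleComponents
    intro y hy
    obtain ⟨x', hx', rfl⟩ := Flat.generalizingMap f hy
    rw [Groth.Agent.H4FU.eq_of_specializes_of_closure_mem_irreducibleComponents hx hx']
  · intro hy
    apply closure_mem_irreducibleComponents
    intro x' hx'
    have h1 : f x' ⤳ f x := hx'.map f.continuous
    have h2 : f x' = f x :=
      Groth.Agent.H4FU.eq_of_specializes_of_closure_mem_irreducibleComponents hy h1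
    exact eq_of_specializes_of_isDiscrete (f.isDiscrete_preimage_singleton (f x)) rfl h2 hx'


/-- Flat locally quasi-finite morphisms preserve local finiteness of the family of irreducible
components. -/
theorem locallyFinite_irreducibleComponents [Flat f] [LocallyQuasiFinite f]
    (hY : LocallyFinite (fun Z : ↥(irreducibleComponents Y) => (Z : Set Y))) :
    LocallyFinite (fun Z : ↥(irreducibleComponents X) => (Z : Set X)) := by
  intro x
  obtain ⟨t, ht, hfin⟩ := hY (f x)
  obtain ⟨W, hWt, hWo, hxW⟩ := mem_nhds_iff.1 ht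
  obtain ⟨V₀, hV, hxV, hVW⟩ := Opens.isBasis_iff_nbhd.mp Y.isBasis_affineOpens
    (show f x ∈ (⟨W, hWo⟩ : Y.Opens) from hxW)
  let V : Y.Opens := V₀
  obtain ⟨U₀, hU, hxU, hUV⟩ := Opens.isBasis_iff_nbhd.mp X.isBasis_affineOpens
    (show x ∈ f ⁻¹ᵁ V from hxV)
  let U : X.Opens := U₀
  have hV' : IsAffineOpen V := hV
  have hU' : IsAffineOpen U := hU
  refine ⟨U, U.isOpen.mem_nhds hxU, ?_⟩
  have : IsAffine V.toScheme := hV'
  have : IsAffine U.toScheme := hU'
  let φ : U.toScheme ⟶ V.toScheme := f.resLE V U hUV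
  have hφ : ∀ u : U, (φ u).1 = f u.1 := by
    intro u
    change V.ι (φ u) = f (U.ι u)
    rw [← Scheme.Hom.comp_apply, ← Scheme.Hom.comp_apply, Scheme.Hom.resLE_comp_ι]
  -- the finite set of maximal points of `Y` in `t`
  set G : Set Y := {η : Y | closure {η} ∈ irreducibleComponents Y ∧ η ∈ t} with hG
  have hGfin : G.Finite := by
    have hinj : Set.InjOn (fun η : Y => closure {η}) G := by
      intro η _ η' _ h
      have hg : IsGenericPoint η (closure {η'}) := h
      exact hg.eq (rfl : IsGenericPoint η' (closure {η'}))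
    refine Set.Finite.of_finite_image ((hfin.image Subtype.val).subset ?_) hinj
    rintro _ ⟨η, ⟨hη, hηt⟩, rfl⟩
    exact ⟨⟨_, hη⟩, ⟨η, subset_closure rfl, hηt⟩, rfl⟩
  have hG'fin : (Subtype.val ⁻¹' G : Set V).Finite :=
    hGfin.preimage Subtype.val_injective.injOn
  have hPfin : (φ ⁻¹' (Subtype.val ⁻¹' G : Set V)).Finite :=
    hG'fin.preimage' fun b _ => φ.finite_preimage_singleton b
  -- generic points of components
  have hex : ∀ Z : irreducibleComponents X, ∃ ξ : X, IsGenericPoint ξ Z.1 := fun Z =>
    QuasiSober.sober Z.2.1 (isClosed_of_mem_irreducibleComponents Z.1 Z.2)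
  choose g hg using hex
  refine Set.Finite.of_injOn (f := g) (t := Subtype.val '' (φ ⁻¹' (Subtype.val ⁻¹' G : Set V)))
    ?_ ?_ (hPfin.image _)
  · intro Z hZ
    have hgU : g Z ∈ U := ((hg Z).mem_open_set_iff U.isOpen).2 hZ
    refine ⟨⟨g Z, hgU⟩, ?_, rfl⟩
    change (φ ⟨g Z, hgU⟩).1 ∈ G
    rw [hφ]
    refine ⟨?_, ?_⟩
    · rw [← closure_mem_irreducibleComponents_iff f (g Z), (hg Z).def]
      exact Z.2
    · exact hWt (hVW (hUV hgU))
  · intro Z _ Z' _ h
    apply Subtype.ext
    rw [← (hg Z).def, ← (hg Z').def, h]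

end Groth.Agent.H4QFC
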