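import Mathlib

/-!
# Dimension one criterion (helper4)

`H4QFCurve.eq_maximalIdeal_of_forall_mem`: in a Noetherian local domain in which a nonzero element
`π` lies in every nonzero prime, every nonzero prime is the maximal ideal.
`H4QFCurve.eq_of_forall_le`: global version: `q ≤ m` primes of a Noetherian ring, `𝔞 ⊄ q`, every
prime strictly between... contains `𝔞`; then no prime lies strictly between `q` and `m`.
-/

set_option autoImplicit false
universe u

namespace H4QFCurve

open IsLocalRing

theorem eq_maximalIdeal_of_forall_mem {O : Type u} [CommRing O] [IsDomain O] [IsNoetherianRing O]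
    [IsLocalRing O] (π : O) (hπ : π ≠ 0)
    (h : ∀ P : Ideal O, P.IsPrime → P ≠ ⊥ → π ∈ P) (P : Ideal O) (hP : P.IsPrime) (hP0 : P ≠ ⊥) :
    P = maximalIdeal O := by
  have hπm : π ∈ maximalIdeal O := by
    by_cases hm : maximalIdeal O = ⊥
    · exact absurd (le_bot_iff.mp (hm ▸ le_maximalIdeal hP.ne_top)) hP0
    · exact h _ inferInstance hm
  -- the finite set of minimal primes over `π`
  have hfin : (Ideal.span {π}).minimalPrimes.Finite :=
    Ideal.finite_minimalPrimes_of_isNoetherianRing O _
  have hle : ∀ a ∈ maximalIdeal O, ∃ Q ∈ (Ideal.span {π}).minimalPrimes, a ∈ Q := by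
    intro a ha
    by_cases ha0 : a = 0
    · obtain ⟨Q, hQ, -⟩ := Ideal.exists_minimalPrimes_le
        (show Ideal.span {π} ≤ maximalIdeal O from (Ideal.span_singleton_le_iff_mem _).mpr hπm)
      exact ⟨Q, hQ, ha0 ▸ Q.zero_mem⟩
    · obtain ⟨Q, hQ, -⟩ := Ideal.exists_minimalPrimes_le
        (show Ideal.span {a} ≤ maximalIdeal O from (Ideal.span_singleton_le_iff_mem _).mpr ha)
      have hQp : Q.IsPrime := hQ.1.1
      have haQ : a ∈ Q := hQ.1.2 (Ideal.mem_span_singleton_self a)
      have hQ0 : Q ≠ ⊥ := fun e => ha0 (by simpa [e] using haQ)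
      have hQh : Q.height ≤ 1 :=
        Ideal.height_le_one_of_isPrincipal_of_mem_minimalPrimes (Ideal.span {a}) Q hQ
      have hπQ : π ∈ Q := h Q hQp hQ0
      obtain ⟨P', hP', hP'Q⟩ := Ideal.exists_minimalPrimes_le
        (show Ideal.span {π} ≤ Q from (Ideal.span_singleton_le_iff_mem _).mpr hπQ)
      have hP'p : P'.IsPrime := hP'.1.1
      have hP'0 : P' ≠ ⊥ := fun e => hπ (by
        have : π ∈ P' := hP'.1.2 (Ideal.mem_span_singleton_self π)
        simpa [e] using this)
      have : P' = Q := by
        by_contra hne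
        have hlt : P' < Q := lt_of_le_of_ne hP'Q hne
        have hQfin : Q.FiniteHeight := Ideal.finiteHeight_iff_lt.mpr
          (Or.inr (lt_of_le_of_lt hQh (by exact ENat.one_lt_top)))
        have := Ideal.height_strict_mono_of_isPrime_of_isPrime hlt
        have h0 : P'.height = 0 := by
          have : P'.height < 1 := lt_of_lt_of_le this hQh
          exact ENat.lt_one_iff_eq_zero.mp this
        exact hP'0 (Ideal.height_eq_zero_iff_eq_bot.mp h0)
      exact ⟨P', hP', this ▸ haQ⟩
  -- prime avoidance
  have hsub : ((maximalIdeal O : Ideal O) : Set O) ⊆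
      ⋃ Q ∈ hfin.toFinset, ((Q : Ideal O) : Set O) := by
    intro a ha
    obtain ⟨Q, hQ, haQ⟩ := hle a ha
    exact Set.mem_biUnion (by simpa using hQ) haQ
  obtain ⟨Q, hQ, hmQ⟩ := (Ideal.subset_union_prime (R := O) (s := hfin.toFinset) (f := fun Q => Q)
    ⊥ ⊥ (fun Q hQ _ _ => ((hfin.mem_toFinset.mp hQ).1.1))).mp hsub
  have hQ' : Q ∈ (Ideal.span {π}).minimalPrimes := hfin.mem_toFinset.mp hQ
  have hQp : Q.IsPrime := hQ'.1.1
  have hQm : Q = maximalIdeal O := le_antisymm (le_maximalIdeal hQp.ne_top) hmQ
  have hmh : (maximalIdeal O).height ≤ 1 :=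
    hQm ▸ Ideal.height_le_one_of_isPrincipal_of_mem_minimalPrimes (Ideal.span {π}) Q hQ'
  by_contra hne
  have hlt : P < maximalIdeal O := lt_of_le_of_ne (le_maximalIdeal hP.ne_top) hne
  have hmfin : (maximalIdeal O).FiniteHeight := Ideal.finiteHeight_iff_lt.mpr
    (Or.inr (lt_of_le_of_lt hmh (by exact ENat.one_lt_top)))
  have := Ideal.height_strict_mono_of_isPrime_of_isPrime hlt
  have h0 : P.height = 0 := ENat.lt_one_iff_eq_zero.mp (lt_of_lt_of_le this hmh)
  exact hP0 (Ideal.height_eq_zero_iff_eq_bot.mp h0)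

/-- Global version: `q ≤ m` primes of a Noetherian ring `B`, `𝔞` an ideal not contained in `q` but
contained in every prime `y` with `q < y ≤ m`. Then the only such prime is `m`. -/
theorem eq_of_forall_le {B : Type u} [CommRing B] [IsNoetherianRing B] (q m 𝔞 : Ideal B)
    [hq : q.IsPrime] [hm : m.IsPrime] (hqm : q ≤ m) (h𝔞q : ¬ 𝔞 ≤ q)
    (h : ∀ y : Ideal B, y.IsPrime → q < y → y ≤ m → 𝔞 ≤ y)
    (y : Ideal B) (hy : y.IsPrime) (hqy : q < y) (hym : y ≤ m) : y = m := by
  obtain ⟨a, ha𝔞, haq⟩ := SetLike.not_le_iff_exists.mp h𝔞q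
  let D := B ⧸ q
  let mk : B →+* D := Ideal.Quotient.mk q
  have hmk : Function.Surjective mk := Ideal.Quotient.mk_surjective
  have hker : RingHom.ker mk = q := Ideal.mk_ker
  -- correspondence for the quotient
  have hcm : ∀ J : Ideal B, q ≤ J → (J.map mk).comap mk = J := fun J hJ => by
    rw [Ideal.comap_map_of_surjective mk hmk, ← RingHom.ker_eq_comap_bot, hker, sup_eq_left.mpr hJ]
  let mbar : Ideal D := m.map mk
  have hmbar : mbar.IsPrime := Ideal.map_isPrime_of_surjective hmk (hker.trans_le hqm)
  let O := Localization.AtPrime mbar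
  have hinj : Function.Injective (algebraMap D O) :=
    IsLocalization.injective O (M := mbar.primeCompl) mbar.primeCompl_le_nonZeroDivisors
  let φ : B →+* O := (algebraMap D O).comp mk
  have hφ0 : ∀ b : B, φ b = 0 ↔ b ∈ q := fun b => by
    show algebraMap D O (mk b) = 0 ↔ _
    rw [map_eq_zero_iff _ hinj, Ideal.Quotient.eq_zero_iff_mem]
  have hπ : φ a ≠ 0 := fun e => haq ((hφ0 a).mp e)
  -- every nonzero prime of `O` contains `φ a`
  have key : ∀ P : Ideal O, P.IsPrime → P ≠ ⊥ → φ a ∈ P := by
    intro P hP hP0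
    let PD : Ideal D := P.comap (algebraMap D O)
    let y' : Ideal B := PD.comap mk
    have hy'p : y'.IsPrime := inferInstance
    have hqy' : q ≤ y' := fun b hb => by
      show φ b ∈ P
      rw [(hφ0 b).mpr hb]; exact P.zero_mem
    have hy'm : y' ≤ m := by
      have h1 : PD ≤ mbar := by
        have := IsLocalization.AtPrime.under_maximalIdeal O mbar
        rw [← this]
        exact Ideal.comap_mono (IsLocalRing.le_maximalIdeal hP.ne_top)
      calc y' ≤ mbar.comap mk := Ideal.comap_mono h1
        _ = m := hcm m hqm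
    have hne : q ≠ y' := by
      intro e
      apply hP0
      have h1 : PD = ⊥ := by
        have : PD = (PD.comap mk).map mk := (Ideal.map_comap_of_surjective mk hmk PD).symm
        rw [this]
        show y'.map mk = ⊥
        rw [← e]
        exact Ideal.map_quotient_self q
      have h2 : P = PD.map (algebraMap D O) := (IsLocalization.map_under mbar.primeCompl O P).symm
      rw [h2, h1, Ideal.map_bot]
    exact h y' hy'p (lt_of_le_of_ne hqy' hne) hy'm ha𝔞
  have hdom : IsDomain O := IsLocalization.isDomain_localization mbar.primeCompl_le_nonZeroDivisors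
  -- apply the local statement to the image of `y`
  let ybar : Ideal D := y.map mk
  have hybar : ybar.IsPrime := Ideal.map_isPrime_of_surjective hmk (hker.trans_le hqy.le)
  have hybm : ybar ≤ mbar := Ideal.map_mono hym
  have hdisj : Disjoint (mbar.primeCompl : Set D) (ybar : Set D) := by
    rw [Set.disjoint_left]
    intro d hd hd'
    exact hd (hybm hd')
  let P : Ideal O := ybar.map (algebraMap D O)
  have hPp : P.IsPrime := IsLocalization.isPrime_of_isPrime_disjoint mbar.primeCompl O ybar hybar hdisj
  have hPc : P.comap (algebraMap D O) = ybar :=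
    IsLocalization.under_map_of_isPrime_disjoint mbar.primeCompl O hybar hdisj
  have hP0 : P ≠ ⊥ := by
    intro e
    have h1 : ybar = ⊥ := by
      rw [← hPc, e]
      exact (RingHom.ker_eq_comap_bot _).symm.trans ((RingHom.injective_iff_ker_eq_bot _).mp hinj)
    have h2 : y = q := by
      rw [← hcm y hqy.le]
      show ybar.comap mk = q
      rw [h1, ← RingHom.ker_eq_comap_bot, hker]
    exact hqy.ne h2.symm
  have hPm := eq_maximalIdeal_of_forall_mem (φ a) hπ key P hPp hP0
  have h3 : ybar = mbar := by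
    rw [← hPc, hPm]
    exact IsLocalization.AtPrime.under_maximalIdeal O mbar
  rw [← hcm y hqy.le, ← hcm m hqm]
  show ybar.comap mk = mbar.comap mk
  rw [h3]

end H4QFCurve
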