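import Mathlib
import Groth.Agent.Lib.helper4.QFComp

/-!
# Quasi-finiteness at points of a fibre and specializations inside the fibre
-/

set_option autoImplicit false
universe u

namespace Groth.Agent.H4QFG

open AlgebraicGeometry CategoryTheory Limits TopologicalSpace

/-- In a locally Noetherian Jacobson scheme, a closed point without proper generizations is
open. -/
theorem isOpen_singleton_of_isClosed_of_stableUnderGeneralization {Z : Scheme.{u}}
    [IsLocallyNoetherian Z] [JacobsonSpace Z] (z : Z) (hcl : IsClosed ({z} : Set Z))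
    (hgen : StableUnderGeneralization ({z} : Set Z)) : IsOpen ({z} : Set Z) := by
  obtain ⟨W₀, hW, hzW, -⟩ := Opens.isBasis_iff_nbhd.mp Z.isBasis_affineOpens (Opens.mem_top z)
  let W : Z.Opens := W₀
  have hW' : IsAffineOpen W := hW
  have hemb : Topology.IsOpenEmbedding hW'.fromSpec := hW'.fromSpec.isOpenEmbedding
  have : IsNoetherianRing Γ(Z, W) := IsLocallyNoetherian.component_noetherian ⟨W, hW'⟩
  have : JacobsonSpace (Spec Γ(Z, W)) := JacobsonSpace.of_isOpenEmbedding hemb
  have : IsJacobsonRing Γ(Z, W) := PrimeSpectrum.isJacobsonRing_iff_jacobsonSpace.2 this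
  have hzr : z ∈ Set.range hW'.fromSpec := by
    rw [hW'.range_fromSpec]
    exact hzW
  obtain ⟨p, hp⟩ := hzr
  have hpre : hW'.fromSpec ⁻¹' {z} = {p} := by
    ext q
    simp only [Set.mem_preimage, Set.mem_singleton_iff]
    constructor
    · intro h
      exact hemb.injective (h.trans hp.symm)
    · rintro rfl
      exact hp
  have h1 : IsClosed ({p} : Set (Spec Γ(Z, W))) := by
    have := hcl.preimage hW'.fromSpec.continuous
    rwa [hpre] at this
  have h2 : StableUnderGeneralization ({p} : Set (Spec Γ(Z, W))) := by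
    intro a b hba ha
    have ha' : a = p := ha
    subst ha'
    have h3 : hW'.fromSpec b ⤳ hW'.fromSpec a := hba.map hW'.fromSpec.continuous
    have h4 : hW'.fromSpec b ∈ ({z} : Set Z) := hgen h3 (by rw [hp]; rfl)
    exact hemb.injective (h4.trans hp.symm)
  let p' : PrimeSpectrum Γ(Z, W) := p
  have htfae := PrimeSpectrum.isOpen_singleton_tfae_of_isNoetherian_of_isJacobsonRing p'
  have h3 : IsOpen ({p'} : Set (PrimeSpectrum Γ(Z, W))) := (htfae.out 2 0 rfl rfl).1 ⟨h1, h2⟩
  have h3' : IsOpen ({p} : Set (Spec Γ(Z, W))) := h3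
  have h4 := hemb.isOpenMap _ h3'
  rwa [Set.image_singleton, hp] at h4

variable {X Y : Scheme.{u}} (f : X ⟶ Y) [LocallyOfFiniteType f]

theorem quasiFiniteAt_iff_isOpen_singleton {x : X} {y : Y} (hx : f x = y) :
    f.QuasiFiniteAt x ↔ IsOpen ({⟨x, hx⟩} : Set (f ⁻¹' {y})) := by
  subst hx
  rw [Scheme.Hom.quasiFiniteAt_iff_isOpen_singleton_asFiber, ← (f.fiberHomeo (f x)).isOpen_image]
  simp only [Set.image_singleton, Scheme.Hom.asFiber, Homeomorph.apply_symm_apply]

theorem isClosed_singleton_of_quasiFiniteAt {x : X} {y : Y} (hx : f x = y)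
    (h : f.QuasiFiniteAt x) : IsClosed ({⟨x, hx⟩} : Set (f ⁻¹' {y})) := by
  subst hx
  have := h.isClopen_singleton_asFiber.1
  rw [← (f.fiberHomeo (f x)).isClosed_image] at this
  simpa only [Set.image_singleton, Scheme.Hom.asFiber, Homeomorph.apply_symm_apply] using this

/-- Two points of a fibre, one specializing to the other, at one of which `f` is quasi-finite,
are equal. -/
theorem eq_of_specializes_of_quasiFiniteAt {x x' : X} (hxx' : f x' = f x) (hs : x' ⤳ x)
    (h : f.QuasiFiniteAt x ∨ f.QuasiFiniteAt x') : x' = x := by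
  let a : f ⁻¹' {f x} := ⟨x, rfl⟩
  let a' : f ⁻¹' {f x} := ⟨x', hxx'⟩
  have hs' : a' ⤳ a := (subtype_specializes_iff a' a).2 hs
  rcases h with h | h
  · have ho := (quasiFiniteAt_iff_isOpen_singleton f (rfl : f x = f x)).1 h
    have := hs'.mem_open ho rfl
    exact congrArg Subtype.val this
  · have hc := isClosed_singleton_of_quasiFiniteAt f hxx' h
    have := hs'.mem_closed hc rfl
    exact (congrArg Subtype.val this).symm

/-- A point which neither specializes nor generizes nontrivially inside its fibre is a point at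
which `f` is quasi-finite. -/
theorem quasiFiniteAt_of_forall_specializes (x : X)
    (h1 : ∀ x' : X, f x' = f x → x' ⤳ x → x' = x)
    (h2 : ∀ x' : X, f x' = f x → x ⤳ x' → x' = x) : f.QuasiFiniteAt x := by
  rw [Scheme.Hom.quasiFiniteAt_iff_isOpen_singleton_asFiber]
  have : LocallyOfFiniteType (f.fiberToSpecResidueField (f x)) :=
    MorphismProperty.pullback_snd _ _ inferInstance
  have : IsLocallyNoetherian (f.fiber (f x)) :=
    LocallyOfFiniteType.isLocallyNoetherian (f.fiberToSpecResidueField (f x))
  have : JacobsonSpace (f.fiber (f x)) :=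
    LocallyOfFiniteType.jacobsonSpace (f.fiberToSpecResidueField (f x))
  have hinj : Function.Injective (f.fiberι (f x)) := (f.fiberι (f x)).isEmbedding.injective
  have hmem : ∀ z : f.fiber (f x), f (f.fiberι (f x) z) = f x := by
    intro z
    have : f.fiberι (f x) z ∈ Set.range (f.fiberι (f x)) := ⟨z, rfl⟩
    rw [f.range_fiberι] at this
    exact this
  apply isOpen_singleton_of_isClosed_of_stableUnderGeneralization
  · rw [← closure_subset_iff_isClosed]
    intro z' hz'
    have hs : f.asFiber x ⤳ z' := specializes_iff_mem_closure.2 hz'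
    have hs' := hs.map (f.fiberι (f x)).continuous
    rw [f.fiberι_asFiber] at hs'
    have := h2 _ (hmem z') hs'
    exact hinj (this.trans (f.fiberι_asFiber x).symm)
  · intro a b hba ha
    rw [Set.mem_singleton_iff] at ha ⊢
    subst ha
    have hs' := hba.map (f.fiberι (f x)).continuous
    rw [f.fiberι_asFiber] at hs'
    have := h1 _ (hmem b) hs'
    exact hinj (this.trans (f.fiberι_asFiber x).symm)

end Groth.Agent.H4QFG
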