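import Mathlib
import Groth.Agent.Lib.helper4.QFCurve1
import Groth.Agent.Lib.helper4.QFGeneric

/-!
# Quasi-finite curves through a point (helper4)

`H4QFCurve.exists_generization`: `f : X ⟶ S` l.f.t., `S` locally Noetherian, `x' ⤳ x`, `x' ∈ U`,
`f x' ≠ f x`. Then there is `z ∈ U`, `z ⤳ x`, `f z ≠ f x` such that the only point `y` of the
fibre through `x` with `z ⤳ y ⤳ x` is `x`.

`H4QFCurve.quasiFiniteAt_closure`: for such `z`, if `x` is closed in its fibre, the reduced closed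
subscheme `closure {z}` is quasi-finite over `S` at `x`.
-/

set_option autoImplicit false
universe u

namespace H4QFCurve

open AlgebraicGeometry CategoryTheory Limits TopologicalSpace

theorem exists_generization {X S : Scheme.{u}} (f : X ⟶ S) [LocallyOfFiniteType f]
    [IsLocallyNoetherian S] (x : X) (U : X.Opens)
    (hx' : ∃ x' : X, x' ∈ U ∧ x' ⤳ x ∧ f x' ≠ f x) :
    ∃ z : X, z ∈ U ∧ z ⤳ x ∧ f z ≠ f x ∧
      ∀ y : X, z ⤳ y → y ⤳ x → f y = f x → y = x := by
  obtain ⟨x', hx'U, hx'x, hfx'⟩ := hx'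
  have : IsLocallyNoetherian X := LocallyOfFiniteType.isLocallyNoetherian f
  obtain ⟨_, ⟨W, hW, rfl⟩, hxW, -⟩ := X.isBasis_affineOpens.exists_subset_of_mem_open
    (Set.mem_univ x) isOpen_univ
  replace hW : IsAffineOpen W := hW
  have hN : IsNoetherianRing Γ(X, W) := IsLocallyNoetherian.component_noetherian ⟨W, hW⟩
  have hemb : Topology.IsOpenEmbedding hW.fromSpec := hW.fromSpec.isOpenEmbedding
  -- points specializing to `x` come from `Spec Γ(X, W)`
  have hlift : ∀ y : X, y ⤳ x → ∃ p : PrimeSpectrum Γ(X, W), hW.fromSpec p = y := by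
    intro y hy
    have hyW : y ∈ W := hy.mem_open W.2 hxW
    have : y ∈ Set.range hW.fromSpec := by rw [hW.range_fromSpec]; exact hyW
    exact this
  have hsp : ∀ p p' : PrimeSpectrum Γ(X, W), hW.fromSpec p ⤳ hW.fromSpec p' ↔ p ≤ p' := by
    intro p p'
    refine Iff.trans (hemb.isInducing.specializes_iff) ?_
    exact (PrimeSpectrum.le_iff_specializes p p').symm
  obtain ⟨m, hm⟩ := hlift x specializes_rfl
  -- the bad closed set
  let C : Set (PrimeSpectrum Γ(X, W)) :=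
    hW.fromSpec ⁻¹' ((U : Set X)ᶜ ∪ f ⁻¹' (closure {f x}))
  have hC : IsClosed C :=
    ((U.2.isClosed_compl).union (isClosed_closure.preimage f.continuous)).preimage
      hW.fromSpec.continuous
  let 𝔞 : Ideal Γ(X, W) := PrimeSpectrum.vanishingIdeal C
  have h𝔞 : ∀ p : PrimeSpectrum Γ(X, W), p ∈ C ↔ 𝔞 ≤ p.asIdeal := by
    intro p
    rw [← SetLike.coe_subset_coe, ← PrimeSpectrum.mem_zeroLocus,
      PrimeSpectrum.zeroLocus_vanishingIdeal_eq_closure, hC.closure_eq]
  have hCiff : ∀ p : PrimeSpectrum Γ(X, W), p ≤ m →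
      (p ∉ C ↔ hW.fromSpec p ∈ U ∧ f (hW.fromSpec p) ≠ f x) := by
    intro p hpm
    have hsx : hW.fromSpec p ⤳ x := hm ▸ (hsp p m).mpr hpm
    have hfs : f (hW.fromSpec p) ⤳ f x := hsx.map f.continuous
    have hiff : p ∈ C ↔ (hW.fromSpec p ∉ U ∨ f x ⤳ f (hW.fromSpec p)) := by
      show (hW.fromSpec p ∈ (U : Set X)ᶜ ∪ f ⁻¹' (closure {f x})) ↔ _
      rw [Set.mem_union, Set.mem_compl_iff, Set.mem_preimage, ← specializes_iff_mem_closure]
      rfl
    rw [hiff, not_or, not_not]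
    refine and_congr Iff.rfl ?_
    constructor
    · intro h e; exact h (e ▸ specializes_rfl)
    · intro h h'; exact h (hfs.antisymm h').eq
  -- a maximal good prime
  let Sg : Set (Ideal Γ(X, W)) := {I | ∃ p : PrimeSpectrum Γ(X, W), p.asIdeal = I ∧ p ≤ m ∧ p ∉ C}
  have hSgne : Sg.Nonempty := by
    obtain ⟨p', hp'⟩ := hlift x' hx'x
    have hp'm : p' ≤ m := (hsp p' m).mp (by rw [hp', hm]; exact hx'x)
    refine ⟨p'.asIdeal, p', rfl, hp'm, (hCiff p' hp'm).mpr ?_⟩
    rw [hp']; exact ⟨hx'U, hfx'⟩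
  obtain ⟨I, ⟨q, rfl, hqm, hqC⟩, hmax⟩ :=
    (wellFounded_gt (α := Ideal Γ(X, W))).has_min Sg hSgne
  have hqgood := (hCiff q hqm).mp hqC
  refine ⟨hW.fromSpec q, hqgood.1, hm ▸ (hsp q m).mpr hqm, hqgood.2, ?_⟩
  intro y hzy hyx hfy
  obtain ⟨py, rfl⟩ := hlift y hyx
  have hqy : q ≤ py := (hsp q py).mp hzy
  have hym : py ≤ m := (hsp py m).mp (hm ▸ hyx)
  have hne : q ≠ py := by
    intro e
    exact hqgood.2 (e ▸ hfy)
  have hlt : q.asIdeal < py.asIdeal := lt_of_le_of_ne hqy (fun e => hne (PrimeSpectrum.ext e))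
  have := eq_of_forall_le q.asIdeal m.asIdeal 𝔞 hqm (fun h => hqC ((h𝔞 q).mpr h))
    (fun y' hy'p hqy' hy'm => by
      by_contra hcon
      have hy'C : (⟨y', hy'p⟩ : PrimeSpectrum Γ(X, W)) ∉ C := fun h => hcon ((h𝔞 _).mp h)
      exact hmax y' ⟨⟨y', hy'p⟩, rfl, hy'm, hy'C⟩ hqy')
    py.asIdeal py.2 hlt hym
  rw [← hm]
  exact congrArg _ (PrimeSpectrum.ext this)

theorem quasiFiniteAt_closure {X S : Scheme.{u}} (f : X ⟶ S) [LocallyOfFiniteType f] (x z : X)
    (hcl : IsClosed (Subtype.val ⁻¹' {x} : Set ↑(f ⁻¹' {f x})))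
    (hzx : z ⤳ x) (hz : ∀ y : X, z ⤳ y → y ⤳ x → f y = f x → y = x)
    (I : X.IdealSheafData) (hI : (I.support : Set X) = closure {z}) :
    ∃ (x₀ z₀ : I.subscheme), I.subschemeι x₀ = x ∧ I.subschemeι z₀ = z ∧
      (I.subschemeι ≫ f).QuasiFiniteAt x₀ ∧ ∀ w : I.subscheme, z₀ ⤳ w := by
  have hrange : Set.range I.subschemeι = closure {z} := by rw [I.range_subschemeι, hI]
  have hemb : Topology.IsClosedEmbedding I.subschemeι := I.subschemeι.isClosedEmbedding
  have hmem : ∀ w : I.subscheme, z ⤳ I.subschemeι w := fun w => by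
    rw [specializes_iff_mem_closure, ← hrange]; exact ⟨w, rfl⟩
  obtain ⟨x₀, hx₀⟩ : x ∈ Set.range I.subschemeι := by
    rw [hrange, ← specializes_iff_mem_closure]; exact hzx
  obtain ⟨z₀, hz₀⟩ : z ∈ Set.range I.subschemeι := by
    rw [hrange]; exact subset_closure rfl
  refine ⟨x₀, z₀, hx₀, hz₀, ?_, fun w => ?_⟩
  · refine Groth.Agent.H4QFG.quasiFiniteAt_of_forall_specializes (I.subschemeι ≫ f) x₀ ?_ ?_
    · intro w hw hwx
      apply hemb.injective
      rw [hx₀]
      refine hz _ (hmem w) (hx₀ ▸ hwx.map I.subschemeι.continuous) ?_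
      have := hw
      simp only [Scheme.Hom.comp_apply] at this
      rw [this, hx₀]
    · intro w hw hxw
      apply hemb.injective
      rw [hx₀]
      have hfw : f (I.subschemeι w) = f x := by
        have := hw
        simp only [Scheme.Hom.comp_apply] at this
        rw [this, hx₀]
      have hsp : x ⤳ I.subschemeι w := hx₀ ▸ hxw.map I.subschemeι.continuous
      let a : f ⁻¹' {f x} := ⟨x, rfl⟩
      let b : f ⁻¹' {f x} := ⟨I.subschemeι w, hfw⟩
      have hab : a ⤳ b := (subtype_specializes_iff a b).2 hsp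
      have := hab.mem_closed hcl (show a ∈ Subtype.val ⁻¹' {x} from rfl)
      exact this
  · rw [← hemb.isInducing.specializes_iff, hz₀]
    exact hmem w

end H4QFCurve
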