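import Mathlib
import Groth.Agent.Lib.helper4.QFGeneric

/-!
# Points closed in their fibre
-/

set_option autoImplicit false
universe u

namespace Groth.Agent.H4QFP

open AlgebraicGeometry CategoryTheory Limits TopologicalSpace

variable {X S : Scheme.{u}} (f : X ⟶ S)

/-- A point whose residue field is integral over the residue field of its image is closed in its
fibre. -/
theorem isClosed_singleton_asFiber_of_isIntegral (x : X)
    (hint : (f.residueFieldMap x).hom.IsIntegral) :
    IsClosed ({f.asFiber x} : Set (f.fiber (f x))) := by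
  let a := f.asFiberHom x
  let b := f.fiberToSpecResidueField (f x)
  have hab : a ≫ b = Spec.map (f.residueFieldMap x) := f.asFiberHom_fiberToSpecResidueField x
  have hint' : IsIntegralHom (Spec.map (f.residueFieldMap x)) := IsIntegralHom.SpecMap_iff.2 hint
  rw [← closure_subset_iff_isClosed]
  intro z' hz'
  obtain ⟨W₀, hW, hz'W, -⟩ := Opens.isBasis_iff_nbhd.mp (f.fiber (f x)).isBasis_affineOpens
    (Opens.mem_top z')
  let W : (f.fiber (f x)).Opens := W₀
  have hW' : IsAffineOpen W := hW
  have hzW : f.asFiber x ∈ W := (specializes_iff_mem_closure.2 hz').mem_open W.isOpen hz'W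
  have hr : Set.range a ⊆ Set.range W.ι := by
    rw [f.range_asFiberHom, Scheme.Opens.range_ι]
    exact Set.singleton_subset_iff.2 hzW
  let a' := IsOpenImmersion.lift W.ι a hr
  have ha' : a' ≫ W.ι = a := IsOpenImmersion.lift_fac _ _ _
  have : IsAffine W.toScheme := hW'
  have h1 : IsIntegralHom (a' ≫ (W.ι ≫ b)) := by
    rw [← Category.assoc, ha', hab]
    exact hint'
  have h2 : IsIntegralHom a' := IsIntegralHom.of_comp a' (W.ι ≫ b)
  have hcl' : IsClosed (Set.range a') := a'.isClosedMap.isClosed_range
  have hrange : Set.range a' = {⟨f.asFiber x, hzW⟩} := by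
    ext t
    simp only [Set.mem_range, Set.mem_singleton_iff]
    constructor
    · rintro ⟨u, rfl⟩
      apply Subtype.ext
      change W.ι (a' u) = _
      rw [← Scheme.Hom.comp_apply, ha']
      exact f.asFiberHom_apply x u
    · rintro rfl
      refine ⟨IsLocalRing.closedPoint _, ?_⟩
      apply Subtype.ext
      change W.ι (a' _) = _
      rw [← Scheme.Hom.comp_apply, ha']
      exact f.asFiberHom_apply x _
  rw [hrange] at hcl'
  have h3 : (⟨z', hz'W⟩ : {y // y ∈ W}) ∈
      closure ({⟨f.asFiber x, hzW⟩} : Set {y // y ∈ W}) := by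
    rw [closure_subtype, Set.image_singleton]
    exact hz'
  have hcl'' : IsClosed ({⟨f.asFiber x, hzW⟩} : Set {y // y ∈ W}) := hcl'
  rw [hcl''.closure_eq] at h3
  exact congrArg Subtype.val h3

/-- A point closed in its fibre over a closed point is closed. -/
theorem isClosed_singleton_of_isClosed_asFiber (x : X)
    (h : IsClosed ({f.asFiber x} : Set (f.fiber (f x)))) (hs : IsClosed ({f x} : Set S)) :
    IsClosed ({x} : Set X) := by
  have hemb : Topology.IsClosedEmbedding (f.fiberι (f x)) := by
    refine ⟨(f.fiberι (f x)).isEmbedding, ?_⟩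
    rw [f.range_fiberι]
    exact hs.preimage f.continuous
  have := hemb.isClosedMap _ h
  rwa [Set.image_singleton, f.fiberι_asFiber] at this


/-- A point of a morphism locally of finite type is closed in its fibre iff the residue field
extension is finite. -/
theorem isClosed_singleton_asFiber_iff [LocallyOfFiniteType f] (x : X) :
    IsClosed ({f.asFiber x} : Set (f.fiber (f x))) ↔ (f.residueFieldMap x).hom.Finite := by
  have hlft : LocallyOfFiniteType (f.fiberToSpecResidueField (f x)) :=
    MorphismProperty.pullback_snd _ _ inferInstance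
  have hJ : JacobsonSpace (f.fiber (f x)) :=
    LocallyOfFiniteType.jacobsonSpace (f.fiberToSpecResidueField (f x))
  rw [← f.range_asFiberHom x]
  constructor
  · intro hcl
    have : IsClosedImmersion (f.asFiberHom x) := .of_isPreimmersion _ hcl
    have h1 : LocallyOfFiniteType (f.asFiberHom x ≫ f.fiberToSpecResidueField (f x)) :=
      inferInstance
    rw [f.asFiberHom_fiberToSpecResidueField] at h1
    have h2 : IsFinite (Spec.map (f.residueFieldMap x)) :=
      isFinite_iff_locallyOfFiniteType_of_jacobsonSpace.2 h1
    exact (IsFinite.SpecMap_iff _).1 h2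
  · intro hfin
    have h2 : IsFinite (Spec.map (f.residueFieldMap x)) := (IsFinite.SpecMap_iff _).2 hfin
    have h1 : LocallyOfFiniteType (f.asFiberHom x ≫ f.fiberToSpecResidueField (f x)) := by
      rw [f.asFiberHom_fiberToSpecResidueField]
      infer_instance
    have h3 : LocallyOfFiniteType (f.asFiberHom x) :=
      locallyOfFiniteType_of_comp _ (f.fiberToSpecResidueField _)
    have := (f.asFiberHom x).closePoints_subset_preimage_closedPoints
      (IsLocalRing.isClosed_singleton_closedPoint _)
    rw [f.range_asFiberHom]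
    rw [Set.mem_preimage, f.asFiberHom_apply] at this
    exact this

/-- Residue field extensions of a locally quasi-finite morphism are finite. -/
theorem finite_residueFieldMap_of_locallyQuasiFinite [LocallyOfFiniteType f]
    [LocallyQuasiFinite f] (x : X) : (f.residueFieldMap x).hom.Finite := by
  rw [← isClosed_singleton_asFiber_iff]
  exact isClosed_discrete _

/-- If all residue field extensions of `g` are integral and `g` is locally of finite type, then
`g` is locally quasi-finite. -/
theorem locallyQuasiFinite_of_isIntegral_residueFieldMap {Y : Scheme.{u}} (g : Y ⟶ S)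
    [LocallyOfFiniteType g] (h : ∀ y : Y, (g.residueFieldMap y).hom.IsIntegral) :
    LocallyQuasiFinite g := by
  have hcl : ∀ y : Y, IsClosed ({g.asFiber y} : Set (g.fiber (g y))) := fun y =>
    isClosed_singleton_asFiber_of_isIntegral g y (h y)
  -- no nontrivial specializations inside fibres
  have hsp : ∀ y y' : Y, g y' = g y → y' ⤳ y → y' = y := by
    intro y y' hyy' hs
    let b : g ⁻¹' {g y'} := ⟨y, hyy'.symm⟩
    let b' : g ⁻¹' {g y'} := ⟨y', rfl⟩
    have hs' : b' ⤳ b := (subtype_specializes_iff b' b).2 hs
    have hc : IsClosed ({b'} : Set (g ⁻¹' {g y'})) := by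
      have := hcl y'
      rw [← (g.fiberHomeo (g y')).isClosed_image] at this
      simpa only [Set.image_singleton, Scheme.Hom.asFiber, Homeomorph.apply_symm_apply] using this
    have := hs'.mem_closed hc rfl
    exact (congrArg Subtype.val this).symm
  have hqf : ∀ y : Y, g.QuasiFiniteAt y := fun y =>
    Groth.Agent.H4QFG.quasiFiniteAt_of_forall_specializes g y
      (fun y' hy' hs => hsp y y' hy' hs) (fun y' hy' hs => (hsp y' y hy'.symm hs).symm)
  rw [locallyQuasiFinite_iff_isDiscrete_preimage_singleton]
  intro s
  rw [isDiscrete_iff_forall_mem_exists_isOpen]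
  intro y hy
  have hy' : g y = s := hy
  have ho := (Groth.Agent.H4QFG.quasiFiniteAt_iff_isOpen_singleton g hy').1 (hqf y)
  obtain ⟨u, hu, hu'⟩ := isOpen_induced_iff.1 ho
  refine ⟨u, hu, ?_⟩
  ext w
  simp only [Set.mem_inter_iff, Set.mem_singleton_iff]
  constructor
  · rintro ⟨hwu, hws⟩
    have : (⟨w, hws⟩ : g ⁻¹' {s}) ∈ Subtype.val ⁻¹' u := hwu
    rw [hu'] at this
    exact congrArg Subtype.val this
  · rintro rfl
    refine ⟨?_, hy⟩
    have : (⟨w, hy⟩ : g ⁻¹' {s}) ∈ Subtype.val ⁻¹' u := by
      rw [hu']
      rfl
    exact this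

end Groth.Agent.H4QFP
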