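import Mathlib
import Groth.Agent.Lib.helper4.Rat10

/-!
# A separated birational morphism with a local section is an isomorphism near the point
-/

set_option autoImplicit false
universe u

namespace Groth.Agent.H4Rat

open AlgebraicGeometry CategoryTheory Limits TopologicalSpace IsLocalRing Groth.Agent.H4FF
open Groth.Agent.H4FunField

/-- A section of a separated morphism from an integral scheme whose image contains the generic
point is inverse to the restriction of the morphism. -/
theorem isIso_restrict_of_section {X Y : Scheme.{u}} [IsIntegral X] (f : X ⟶ Y) [IsSeparated f]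
    (V₁ : Y.Opens) (g₁ : V₁.toScheme ⟶ X) (hg₁ : g₁ ≫ f = V₁.ι)
    (hgen : genericPoint X ∈ Set.range g₁) : IsIso (f ∣_ V₁) := by
  have hr : Set.range g₁ ⊆ Set.range (f ⁻¹ᵁ V₁).ι := by
    rintro _ ⟨v, rfl⟩
    rw [Scheme.Opens.range_ι]
    change f (g₁ v) ∈ V₁
    rw [← Scheme.Hom.comp_apply, hg₁]
    exact v.2
  let g₁' : V₁.toScheme ⟶ (f ⁻¹ᵁ V₁).toScheme := IsOpenImmersion.lift (f ⁻¹ᵁ V₁).ι g₁ hr
  have hg₁' : g₁' ≫ (f ⁻¹ᵁ V₁).ι = g₁ := IsOpenImmersion.lift_fac _ _ _
  have hsec : g₁' ≫ (f ∣_ V₁) = 𝟙 _ := by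
    rw [← cancel_mono V₁.ι, Category.assoc, morphismRestrict_ι, ← Category.assoc, hg₁', hg₁,
      Category.id_comp]
  have hci : IsClosedImmersion g₁' := by
    have : IsClosedImmersion (g₁' ≫ (f ∣_ V₁)) := by rw [hsec]; infer_instance
    exact IsClosedImmersion.of_comp g₁' (f ∣_ V₁)
  obtain ⟨v₀, hv₀⟩ := hgen
  have hsurj : Function.Surjective g₁' := by
    have hcl : IsClosed (Set.range g₁') := g₁'.isClosedEmbedding.isClosed_range
    have hmem : g₁' v₀ ∈ Set.range g₁' := ⟨v₀, rfl⟩
    have hval : (f ⁻¹ᵁ V₁).ι (g₁' v₀) = genericPoint X := by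
      rw [← Scheme.Hom.comp_apply, hg₁', hv₀]
    have h1 := hcl.closure_subset_iff.2 (Set.singleton_subset_iff.2 hmem)
    have h2 : closure {g₁' v₀} = Set.univ := by
      rw [(f ⁻¹ᵁ V₁).ι.isOpenEmbedding.isInducing.closure_eq_preimage_closure_image,
        Set.image_singleton, hval, (genericPoint_spec X).def]
      rfl
    rw [h2] at h1
    intro z
    exact h1 (Set.mem_univ z)
  have hsurj' : Surjective g₁' := ⟨hsurj⟩
  have hiso : IsIso g₁' := isIso_of_isClosedImmersion_of_surjective g₁'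
  have : f ∣_ V₁ = inv g₁' := IsIso.eq_inv_of_hom_inv_id hsec
  rw [this]
  infer_instance

/-- A point which is the only point of its fibre in some open neighbourhood is a point at which
the morphism is quasi-finite. -/
theorem quasiFiniteAt_of_isolated {X Y : Scheme.{u}} (f : X ⟶ Y) [LocallyOfFiniteType f] (x : X)
    (O : X.Opens) (hxO : x ∈ O) (hiso : ∀ t : X, t ∈ O → f t = f x → t = x) :
    f.QuasiFiniteAt x := by
  rw [Scheme.Hom.quasiFiniteAt_iff_isOpen_singleton_asFiber,
    ← (f.fiberHomeo (f x)).isOpen_image]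
  simp only [Set.image_singleton, Scheme.Hom.asFiber, Homeomorph.apply_symm_apply]
  refine isOpen_induced_iff.2 ⟨O, O.isOpen, ?_⟩
  ext ⟨t, ht⟩
  constructor
  · intro htO
    exact Subtype.ext (hiso t htO ht)
  · intro h
    have h4 : t = x := congrArg Subtype.val h
    subst h4
    exact hxO

/-- Points isolated in the scheme-theoretic fibre. -/
theorem quasiFiniteAt_of_isOpen_singleton_fiber {X Y : Scheme.{u}} (f : X ⟶ Y)
    [LocallyOfFiniteType f] (y : Y) (x : f.fiber y) (hx : IsOpen ({x} : Set (f.fiber y))) :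
    f (f.fiberι y x) = y ∧ f.QuasiFiniteAt (f.fiberι y x) := by
  have hfx : f (f.fiberι y x) = y := by
    have : f.fiberι y x ∈ Set.range (f.fiberι y) := ⟨x, rfl⟩
    rw [f.range_fiberι] at this
    exact this
  refine ⟨hfx, ?_⟩
  obtain ⟨O, hO, hOx⟩ := (f.fiberι y).isEmbedding.isInducing.isOpen_iff.1 hx
  refine quasiFiniteAt_of_isolated f _ ⟨O, hO⟩ ?_ ?_
  · have : x ∈ (f.fiberι y) ⁻¹' O := by rw [hOx]; rfl
    exact this
  · intro t htO hft
    have htr : t ∈ Set.range (f.fiberι y) := by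
      rw [f.range_fiberι]
      exact hft.trans hfx
    obtain ⟨t₀, rfl⟩ := htr
    have : t₀ ∈ (f.fiberι y) ⁻¹' O := htO
    rw [hOx] at this
    rw [Set.mem_singleton_iff.1 this]

/-- A separated birational morphism of integral schemes, locally of finite type, is an
isomorphism over a neighbourhood of a normal point over which it is quasi-finite at some point.-/
theorem exists_isIso_restrict {X Y : Scheme.{u}} [IsIntegral X] [IsIntegral Y] (f : X ⟶ Y)
    [IsSeparated f] [LocallyOfFiniteType f] (hgen : f (genericPoint X) = genericPoint Y)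
    (hbir : IsIso (f.stalkMap (genericPoint X))) (x : X)
    (hn : IsIntegrallyClosed (Y.presheaf.stalk (f x))) (hqf : f.QuasiFiniteAt x) :
    ∃ U : Y.Opens, f x ∈ U ∧ IsIso (f ∣_ U) := by
  obtain ⟨hK, hKf, hKpt⟩ := exists_generic_lift f hgen hbir
  have hsp : hK (closedPoint Y.functionField) ⤳ x := by
    rw [hKpt]
    exact Groth.Agent.H4FF.genericPoint_specializes x
  obtain ⟨V₁, hV₁, g₁, h1, h2, h3⟩ := exists_section_of_quasiFiniteAt f hK hKf x hsp hqf
  refine ⟨V₁, hV₁, isIso_restrict_of_section f V₁ g₁ h1 ?_⟩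
  have hξ : genericPoint Y ∈ V₁ :=
    (Groth.Agent.H4FF.genericPoint_specializes (f x)).mem_open V₁.isOpen hV₁
  refine ⟨V₁.fromSpecStalkOfMem (genericPoint Y) hξ (closedPoint Y.functionField), ?_⟩
  rw [← Scheme.Hom.comp_apply, h3 hξ, hKpt]

end Groth.Agent.H4Rat
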