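import Mathlib
import Groth.Agent.Lib.helper4.Rat12

/-!
# Birational morphisms onto schemes whose local rings are valuation rings (Dedekind schemes)
-/

set_option autoImplicit false
universe u

namespace Groth.Agent.H4Rat

open AlgebraicGeometry CategoryTheory Limits TopologicalSpace IsLocalRing Groth.Agent.H4FF
open Groth.Agent.H4FunField Topology

/-- The Krull dimension of the space of a scheme is that of its generization order. -/
theorem topologicalKrullDim_eq_krullDim (X : Scheme.{u}) :
    topologicalKrullDim X = Order.krullDim X := by
  let _ := specializationOrder X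
  exact Order.krullDim_eq_of_orderIso irreducibleSetEquivPoints

/-- The local rings of a normal integral locally Noetherian scheme of dimension `≤ 1` are valuation
rings. -/
theorem valuationRing_stalk_of_dim_le_one (Y : Scheme.{u}) [IsIntegral Y] [IsLocallyNoetherian Y]
    (hdim : topologicalKrullDim Y ≤ 1) (y : Y) (hN : IsIntegrallyClosed (Y.presheaf.stalk y)) :
    ValuationRing (Y.presheaf.stalk y) := by
  have h1 : ringKrullDim (Y.presheaf.stalk y) ≤ 1 := by
    rw [ringKrullDim_stalk_eq_coheight]
    refine le_trans ?_ hdim
    rw [topologicalKrullDim_eq_krullDim]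
    exact Order.coheight_le_krullDim y
  have h2 : Ring.KrullDimLE 1 (Y.presheaf.stalk y) := Ring.krullDimLE_iff.2 (by exact_mod_cast h1)
  have h3 := (tfae_of_isNoetherianRing_of_isLocalRing_of_isDomain
    (R := Y.presheaf.stalk y)).out 3 1
  refine h3.1 ⟨hN, fun P hP hPp => ?_⟩
  exact IsLocalRing.eq_maximalIdeal (hPp.isMaximal_of_ne_bot hP)

section

variable {X Y : Scheme.{u}} [IsIntegral X] [IsIntegral Y] (f : X ⟶ Y)

/-- Local sections through every point lying over a point whose local ring is a valuation ring. -/
theorem exists_local_section_of_valuationRing (β : X.functionField ⟶ Y.functionField) [IsIso β]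
    (hKf : (Spec.map β ≫ X.fromSpecStalk (genericPoint X)) ≫ f =
      Y.fromSpecStalk (genericPoint Y)) (x : X) [ValuationRing (Y.presheaf.stalk (f x))] :
    ∃ φ : Spec (Y.presheaf.stalk (f x)) ⟶ X,
      φ (closedPoint (Y.presheaf.stalk (f x))) = x ∧
      Spec.map (toFF Y (f x)) ≫ φ = Spec.map β ≫ X.fromSpecStalk (genericPoint X) ∧
      φ ≫ f = Y.fromSpecStalk (f x) := by
  set hK : Spec Y.functionField ⟶ X := Spec.map β ≫ X.fromSpecStalk (genericPoint X) with hKdef
  have hsp : hK (closedPoint Y.functionField) ⤳ x := by
    rw [hKdef, closedPoint_generic_lift]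
    exact Groth.Agent.H4FF.genericPoint_specializes x
  refine exists_local_section_of_range' f hK hKf x hsp ?_
  set τ : X.presheaf.stalk x ⟶ Y.functionField :=
    X.presheaf.stalkSpecializes hsp ≫ Scheme.stalkClosedPointTo hK with hτ
  have hτeq : τ = toFF X x ≫ β := tau_eq β x hsp
  have hτinj : Function.Injective τ.hom := by
    rw [hτeq, CommRingCat.hom_comp, RingHom.coe_comp]
    refine Function.Injective.comp ?_ ?_
    · exact ((ConcreteCategory.isIso_iff_bijective β).1 inferInstance).1
    · rw [toFF_hom]
      exact IsFractionRing.injective _ _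
  have hcomp : f.stalkMap x ≫ τ = toFF Y (f x) := by
    apply Spec.map_injective
    rw [← cancel_mono (Y.fromSpecStalk (f x)), Spec.map_comp, Category.assoc,
      Scheme.SpecMap_stalkMap_fromSpecStalk, ← Category.assoc, factor_fromSpecStalk x hK hsp,
      SpecMap_toFF, hKf]
  have hcomp' : ∀ a, τ.hom ((f.stalkMap x).hom a) =
      algebraMap (Y.presheaf.stalk (f x)) Y.functionField a := by
    intro a
    have := congrArg (fun g => g.hom a) hcomp
    rw [toFF_hom] at this
    exact this
  have hloc : IsLocalHom (f.stalkMap x).hom := inferInstance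
  -- the case where `τ b` is in the image
  have key : ∀ (b : X.presheaf.stalk x) (a : Y.presheaf.stalk (f x)),
      algebraMap (Y.presheaf.stalk (f x)) Y.functionField a = τ.hom b →
      ∃ a : Y.presheaf.stalk (f x), τ.hom b =
          algebraMap (Y.presheaf.stalk (f x)) Y.functionField a ∧
        (b ∈ maximalIdeal (X.presheaf.stalk x) →
          a ∈ maximalIdeal (Y.presheaf.stalk (f x))) := by
    intro b a ha
    refine ⟨a, ha.symm, fun hb => ?_⟩
    have hab : (f.stalkMap x).hom a = b := hτinj (by rw [hcomp', ha])
    by_contra hna
    have hau : IsUnit a := by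
      by_contra h
      exact hna h
    exact hb (hab ▸ hau.map (f.stalkMap x).hom)
  intro b
  rcases ValuationRing.isInteger_or_isInteger (Y.presheaf.stalk (f x)) (τ.hom b) with ⟨a, ha⟩ | ⟨a, ha⟩
  · exact key b a ha
  · by_cases hb0 : τ.hom b = 0
    · exact key b 0 (by rw [map_zero, hb0])
    · have h1 : τ.hom ((f.stalkMap x).hom a * b) = 1 := by
        rw [map_mul, hcomp', ha, inv_mul_cancel₀ hb0]
      have h2 : (f.stalkMap x).hom a * b = 1 := hτinj (by rw [h1, map_one])
      have h3 : IsUnit ((f.stalkMap x).hom a) := IsUnit.of_mul_eq_one _ h2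
      have h4 : IsUnit a := hloc.map_nonunit a h3
      obtain ⟨a', ha'⟩ := h4.exists_right_inv
      refine key b a' ?_
      have h5 : algebraMap (Y.presheaf.stalk (f x)) Y.functionField a *
          algebraMap (Y.presheaf.stalk (f x)) Y.functionField a' = 1 := by
        rw [← map_mul, ha', map_one]
      rw [ha] at h5
      have := eq_inv_of_mul_eq_one_right h5
      rw [this, inv_inv]

/-- A separated birational morphism locally of finite type from an integral scheme to an integral
scheme whose local rings are valuation rings is an open immersion. -/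
theorem isOpenImmersion_of_valuationRing_stalks [LocallyOfFiniteType f] [IsSeparated f]
    (hgen : f (genericPoint X) = genericPoint Y)
    (hbir : IsIso (f.stalkMap (genericPoint X)))
    (hV : ∀ y : Y, ValuationRing (Y.presheaf.stalk y)) : IsOpenImmersion f := by
  obtain ⟨β, hβ, hKf⟩ := exists_generic_lift' f hgen hbir
  exact (isLocalIso_of_local_sections f (Spec.map β ≫ X.fromSpecStalk (genericPoint X))
    (closedPoint_generic_lift β) (fun x => by
      have := hV (f x)
      exact exists_local_section_of_valuationRing f β hKf x)).2 inferInstance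

omit [IsIntegral X] in
theorem surjective_of_isClosedMap_of_generic (hcl : IsClosedMap f.base)
    (hgen : genericPoint Y ∈ Set.range f.base) : Function.Surjective f.base := by
  have hr : IsClosed (Set.range f.base) := hcl.isClosed_range
  have : closure {genericPoint Y} ⊆ Set.range f.base :=
    hr.closure_subset_iff.2 (Set.singleton_subset_iff.2 hgen)
  rw [(genericPoint_spec Y).def] at this
  intro y
  exact this (Set.mem_univ y)

/-- A proper birational morphism locally of finite type from an integral scheme to an integral
scheme whose local rings are valuation rings is an isomorphism. -/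
theorem isIso_of_valuationRing_stalks [LocallyOfFiniteType f] [IsSeparated f]
    [UniversallyClosed f]
    (hgen : f (genericPoint X) = genericPoint Y)
    (hbir : IsIso (f.stalkMap (genericPoint X)))
    (hV : ∀ y : Y, ValuationRing (Y.presheaf.stalk y)) : IsIso f := by
  have hoi := isOpenImmersion_of_valuationRing_stalks f hgen hbir hV
  have hsurj := surjective_of_isClosedMap_of_generic f f.isClosedMap ⟨genericPoint X, hgen⟩
  have : Epi f.base := (TopCat.epi_iff_surjective _).2 hsurj
  exact (isIso_iff_isOpenImmersion_and_epi_base f).2 ⟨hoi, this⟩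

end

end Groth.Agent.H4Rat
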