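import Mathlib
import Groth.Agent.Lib.helper4.Rat13
import Groth.Agent.Lib.helper4.Rat11

/-!
# The isomorphism locus of a proper birational morphism onto a normal scheme
-/

set_option autoImplicit false
universe u

namespace Groth.Agent.H4Rat

open AlgebraicGeometry CategoryTheory Limits TopologicalSpace IsLocalRing Groth.Agent.H4FF
open Groth.Agent.H4FunField Topology

theorem withBot_enat_le_one_of_lt_two (d : WithBot ℕ∞) (h : d < 2) : d ≤ 1 := by
  induction d using WithBot.recBotCoe with
  | bot => exact bot_le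
  | coe n =>
    have h1 : n < 2 := by
      have : ((2 : ℕ∞) : WithBot ℕ∞) = 2 := rfl
      rw [← this] at h
      exact WithBot.coe_lt_coe.1 h
    have h2 : n ≤ 1 := by
      have : (2 : ℕ∞) = 1 + 1 := by norm_num
      rw [this] at h1
      exact Order.le_of_lt_add_one h1
    have : ((1 : ℕ∞) : WithBot ℕ∞) = 1 := rfl
    rw [← this]
    exact WithBot.coe_le_coe.2 h2

/-- A Noetherian integrally closed local domain of dimension `≤ 1` is a valuation ring. -/
theorem valuationRing_of_krullDimLE_one (A : Type*) [CommRing A] [IsDomain A] [IsLocalRing A]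
    [IsNoetherianRing A] [IsIntegrallyClosed A] [Ring.KrullDimLE 1 A] : ValuationRing A := by
  have h3 := (tfae_of_isNoetherianRing_of_isLocalRing_of_isDomain (R := A)).out 3 1
  refine h3.1 ⟨inferInstance, fun P hP hPp => ?_⟩
  exact IsLocalRing.eq_maximalIdeal (hPp.isMaximal_of_ne_bot hP)

/-- Isomorphisms over the members of a family of opens glue to an isomorphism over the union. -/
theorem isIso_restrict_iSup {X Y : Scheme.{u}} (f : X ⟶ Y) {ι : Type*} (U : ι → Y.Opens)
    (h : ∀ i, IsIso (f ∣_ U i)) : IsIso (f ∣_ (⨆ i, U i)) := by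
  have : (MorphismProperty.isomorphisms Scheme) (f ∣_ (⨆ i, U i)) := by
    refine IsZariskiLocalAtTarget.of_iSup_eq_top (fun i => (⨆ i, U i).ι ⁻¹ᵁ U i) ?_ (fun i => ?_)
    · apply (⨆ i, U i).ι.image_injective
      dsimp
      rw [Scheme.Hom.image_iSup, Scheme.Hom.image_top_eq_opensRange, Scheme.Opens.opensRange_ι]
      simp [Scheme.Hom.image_preimage_eq_opensRange_inf, le_iSup U]
    · rw [(MorphismProperty.isomorphisms Scheme).arrow_mk_iso_iff
        (morphismRestrictRestrict f (⨆ i, U i) _)]
      have e : (⨆ i, U i).ι ''ᵁ ((⨆ i, U i).ι ⁻¹ᵁ U i) = U i := by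
        simp [Scheme.Hom.image_preimage_eq_opensRange_inf, le_iSup U i]
      rw [e]
      exact h i
  exact this

section

variable {X Y : Scheme.{u}} [IsIntegral X] [IsIntegral Y] (f : X ⟶ Y)

/-- A separated birational morphism locally of finite type is an isomorphism over a neighbourhood
of any point of the image whose local ring is a valuation ring. -/
theorem exists_isIso_restrict_of_valuationRing [IsSeparated f] [LocallyOfFiniteType f]
    (hgen : f (genericPoint X) = genericPoint Y)
    (hbir : IsIso (f.stalkMap (genericPoint X))) (x : X)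
    [ValuationRing (Y.presheaf.stalk (f x))] :
    ∃ U : Y.Opens, f x ∈ U ∧ IsIso (f ∣_ U) := by
  obtain ⟨β, hβ, hKf⟩ := exists_generic_lift' f hgen hbir
  obtain ⟨φ, hφc, hφg, hφq⟩ := exists_local_section_of_valuationRing f β hKf x
  obtain ⟨V₁, hV₁, g₁, h1, h2, h3⟩ := exists_section_of_local_section f _ (f x) φ hφg hφq
  refine ⟨V₁, hV₁, isIso_restrict_of_section f V₁ g₁ h1 ?_⟩
  have hξ : genericPoint Y ∈ V₁ :=
    (Groth.Agent.H4FF.genericPoint_specializes (f x)).mem_open V₁.isOpen hV₁
  refine ⟨V₁.fromSpecStalkOfMem (genericPoint Y) hξ (closedPoint Y.functionField), ?_⟩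
  rw [← Scheme.Hom.comp_apply, h3 hξ, closedPoint_generic_lift]

/-- **Isomorphism locus** of a proper birational morphism onto a normal locally Noetherian integral
scheme: it is open, its complement has codimension `≥ 2`, and the fibres over the complement have
no isolated points. -/
theorem exists_isIso_locus [IsProper f] [IsLocallyNoetherian Y]
    (hN : ∀ y : Y, IsIntegrallyClosed (Y.presheaf.stalk y))
    (hgen : f (genericPoint X) = genericPoint Y)
    (hbir : IsIso (f.stalkMap (genericPoint X))) :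
    ∃ V : Y.Opens, IsIso (f ∣_ V) ∧
      (∀ y : Y, y ∉ (V : Set Y) → ∀ x : ↥(f.fiber y), ¬ IsOpen ({x} : Set ↥(f.fiber y))) ∧
      (∀ y : Y, y ∉ (V : Set Y) → 2 ≤ ringKrullDim (Y.presheaf.stalk y)) := by
  let ι := {W : Y.Opens // IsIso (f ∣_ W)}
  let V : Y.Opens := ⨆ i : ι, i.1
  have hV : IsIso (f ∣_ V) := isIso_restrict_iSup f (fun i : ι => i.1) (fun i => i.2)
  have hmem : ∀ (W : Y.Opens), IsIso (f ∣_ W) → W ≤ V := fun W hW =>
    le_iSup (fun i : ι => i.1) ⟨W, hW⟩
  refine ⟨V, hV, fun y hy x hx => ?_, fun y hy => ?_⟩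
  · obtain ⟨hfx, hqf⟩ := quasiFiniteAt_of_isOpen_singleton_fiber f y x hx
    have hn : IsIntegrallyClosed (Y.presheaf.stalk (f (f.fiberι y x))) := hN _
    obtain ⟨W, hW, hWiso⟩ := exists_isIso_restrict f hgen hbir (f.fiberι y x) hn hqf
    exact hy (hmem W hWiso (hfx ▸ hW))
  · by_contra hlt
    have hsurj := surjective_of_isClosedMap_of_generic f f.isClosedMap ⟨genericPoint X, hgen⟩
    obtain ⟨x, rfl⟩ := hsurj y
    have h2 : Ring.KrullDimLE 1 (Y.presheaf.stalk (f x)) := by
      rw [Ring.krullDimLE_iff]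
      have h3 : ringKrullDim (Y.presheaf.stalk (f x)) < 2 := not_le.1 hlt
      exact withBot_enat_le_one_of_lt_two _ h3
    have _ := hN (f x)
    have hval : ValuationRing (Y.presheaf.stalk (f x)) := valuationRing_of_krullDimLE_one _
    obtain ⟨W, hW, hWiso⟩ := exists_isIso_restrict_of_valuationRing f hgen hbir x
    exact hy (hmem W hWiso hW)

end

end Groth.Agent.H4Rat
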