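import Mathlib
import Groth.Agent.Lib.helper4.Rat14

/-!
# Birationality from an isomorphism over a nonempty open
-/

set_option autoImplicit false
universe u

namespace Groth.Agent.H4Rat

open AlgebraicGeometry CategoryTheory Limits TopologicalSpace IsLocalRing Groth.Agent.H4FF
open Groth.Agent.H4FunField Topology

section

variable {X Y : Scheme.{u}} [IsIntegral X] [IsIntegral Y] (f : X ⟶ Y)

omit [IsIntegral X] [IsIntegral Y] in
theorem subset_range_of_isIso_restrict (V : Y.Opens) [IsIso (f ∣_ V)] :
    (V : Set Y) ⊆ Set.range f.base := by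
  intro v hv
  have hsurj : Function.Surjective (f ∣_ V).base :=
    (TopCat.epi_iff_surjective _).1 inferInstance
  obtain ⟨x, hx⟩ := hsurj ⟨v, hv⟩
  refine ⟨x.1, ?_⟩
  have h1 := congrArg (fun g => g.base x) (morphismRestrict_ι f V)
  simp only [Scheme.Hom.comp_base, TopCat.coe_comp, Function.comp_apply] at h1
  rw [hx] at h1
  exact h1.symm

/-- A morphism of integral schemes whose range contains a nonempty open maps the generic point to
the generic point. -/
theorem map_genericPoint_of_subset_range (V : Y.Opens) (hV : (V : Set Y).Nonempty)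
    (hr : (V : Set Y) ⊆ Set.range f.base) : f (genericPoint X) = genericPoint Y := by
  have hgen : IsGenericPoint (f (genericPoint X)) (⊤ : Set Y) := by
    rw [isGenericPoint_def]
    apply top_unique
    have hVd : Dense (V : Set Y) := V.isOpen.dense hV
    have h1 : (V : Set Y) ⊆ closure {f (genericPoint X)} := by
      refine hr.trans ?_
      rw [← Set.image_univ, ← (genericPoint_spec X).def, ← Set.image_singleton]
      exact image_closure_subset_closure_image f.continuous
    have h2 : closure (V : Set Y) ⊆ closure {f (genericPoint X)} :=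
      isClosed_closure.closure_subset_iff.2 h1
    rw [hVd.closure_eq] at h2
    exact h2
  exact hgen.eq (genericPoint_spec Y)

omit [IsIntegral X] [IsIntegral Y] in
theorem isIso_stalkMap_of_isIso_restrict (V : Y.Opens) [IsIso (f ∣_ V)] (x : X) (hx : f x ∈ V) :
    IsIso (f.stalkMap x) := by
  have h1 : IsIso ((f ∣_ V).stalkMap ⟨x, hx⟩) := inferInstance
  exact ((MorphismProperty.isomorphisms _).arrow_mk_iso_iff
    (morphismRestrictStalkMap f V ⟨x, hx⟩)).1 h1

/-- An isomorphism over a nonempty open gives birationality in the generic-point sense. -/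
theorem birational_of_isIso_restrict (V : Y.Opens) (hV : (V : Set Y).Nonempty)
    [IsIso (f ∣_ V)] :
    f (genericPoint X) = genericPoint Y ∧ IsIso (f.stalkMap (genericPoint X)) := by
  have hgen := map_genericPoint_of_subset_range f V hV (subset_range_of_isIso_restrict f V)
  refine ⟨hgen, isIso_stalkMap_of_isIso_restrict f V _ ?_⟩
  rw [hgen]
  obtain ⟨v, hv⟩ := hV
  exact (Groth.Agent.H4FF.genericPoint_specializes v).mem_open V.isOpen hv

/-- A proper morphism of integral schemes which is an isomorphism over a nonempty open of a locally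
Noetherian normal target is an isomorphism near every point of codimension `≤ 1`. -/
theorem exists_isIso_restrict_of_dim_le_one [IsProper f] [IsLocallyNoetherian Y]
    (V : Y.Opens) (hV : (V : Set Y).Nonempty) [IsIso (f ∣_ V)] (y : Y)
    (hN : IsIntegrallyClosed (Y.presheaf.stalk y))
    (hy : ringKrullDim (Y.presheaf.stalk y) ≤ 1) :
    ∃ W : Y.Opens, y ∈ W ∧ IsIso (f ∣_ W) := by
  obtain ⟨hgen, hbir⟩ := birational_of_isIso_restrict f V hV
  have hsurj := surjective_of_isClosedMap_of_generic f f.isClosedMap ⟨genericPoint X, hgen⟩
  obtain ⟨x, rfl⟩ := hsurj y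
  have h2 : Ring.KrullDimLE 1 (Y.presheaf.stalk (f x)) := Ring.krullDimLE_iff.2 hy
  have hval : ValuationRing (Y.presheaf.stalk (f x)) := valuationRing_of_krullDimLE_one _
  exact exists_isIso_restrict_of_valuationRing f hgen hbir x

end

end Groth.Agent.H4Rat
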