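import Mathlib
import Groth.Agent.Lib.helper4.Rat6
import Groth.Agent.Lib.helper4.Rat7

/-!
# A rational section extends over a normal point over which the closure of its graph has an
isolated point
-/

set_option autoImplicit false
universe u

namespace Groth.Agent.H4Rat

open AlgebraicGeometry CategoryTheory Limits TopologicalSpace IsLocalRing

theorem exists_extension_of_isolated {X P : Scheme.{u}} (q : P ⟶ X) [LocallyOfFiniteType q]
    [IsSeparated q] (U : X.Opens) (hU : Dense (U : Set X)) (s : U.toScheme ⟶ P)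
    (hs : s ≫ q = U.ι) (x : X) (U₀ : X.Opens) (hxU₀ : x ∈ U₀) [IsIntegral U₀.toScheme]
    (hx : IsIntegrallyClosed (X.presheaf.stalk x))
    (z : P) (hz : q z = x) (hzΓ : z ∈ closure (Set.range s))
    (O : P.Opens) (hiso : (O : Set P) ∩ closure (Set.range s) ∩ q ⁻¹' {x} = {z}) :
    ∃ (U' : X.Opens) (hUU' : U ≤ U') (s' : U'.toScheme ⟶ P),
      x ∈ U' ∧ s' ≫ q = U'.ι ∧ X.homOfLE hUU' ≫ s' = s := by
  let YW : P.Opens := q ⁻¹ᵁ U₀
  let qW : YW.toScheme ⟶ U₀.toScheme := q ∣_ U₀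
  let V : U₀.toScheme.Opens := U₀.ι ⁻¹ᵁ U
  have hr : Set.range ((U₀.ι ∣_ U) ≫ s) ⊆ Set.range YW.ι := by
    rintro _ ⟨v, rfl⟩
    rw [Scheme.Opens.range_ι]
    change q (((U₀.ι ∣_ U) ≫ s) v) ∈ U₀
    rw [← Scheme.Hom.comp_apply, Category.assoc, hs, morphismRestrict_ι]
    exact (v.1).2
  let h₀ : V.toScheme ⟶ YW.toScheme := IsOpenImmersion.lift YW.ι ((U₀.ι ∣_ U) ≫ s) hr
  have hh₀ι : h₀ ≫ YW.ι = (U₀.ι ∣_ U) ≫ s := IsOpenImmersion.lift_fac _ _ _
  have hh₀ : h₀ ≫ qW = V.ι := by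
    rw [← cancel_mono U₀.ι, Category.assoc, morphismRestrict_ι, ← Category.assoc, hh₀ι,
      Category.assoc, hs, morphismRestrict_ι]
  have hξ := genericPoint_mem_of_dense U hU U₀
  have hzYW : z ∈ YW := by
    change q z ∈ U₀
    rw [hz]
    exact hxU₀
  let z' : YW.toScheme := ⟨z, hzYW⟩
  have hqW : qW z' = ⟨x, hxU₀⟩ := by
    apply Subtype.ext
    change U₀.ι (qW z') = x
    rw [← Scheme.Hom.comp_apply, morphismRestrict_ι, Scheme.Hom.comp_apply]
    exact hz
  have hic : IsIntegrallyClosed (U₀.toScheme.presheaf.stalk (qW z')) := by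
    rw [hqW]
    exact IsIntegrallyClosed.of_equiv (U₀.stalkIso ⟨x, hxU₀⟩).symm.commRingCatIsoToRingEquiv
  set hK : Spec U₀.toScheme.functionField ⟶ YW.toScheme :=
    V.fromSpecStalkOfMem (genericPoint U₀.toScheme) hξ ≫ h₀ with hKdef
  have hKq : hK ≫ qW = U₀.toScheme.fromSpecStalk (genericPoint U₀.toScheme) := by
    rw [hKdef, Category.assoc, hh₀, Scheme.Opens.fromSpecStalkOfMem_ι]
  -- the image of the generic point
  let ξU : U.toScheme := (U₀.ι ∣_ U) ⟨genericPoint U₀.toScheme, hξ⟩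
  have hKpt : YW.ι (hK (closedPoint U₀.toScheme.functionField)) = s ξU := by
    rw [hKdef, Scheme.Hom.comp_apply, fromSpecStalkOfMem_closedPoint, ← Scheme.Hom.comp_apply,
      hh₀ι, Scheme.Hom.comp_apply]
  have hξUι : U.ι ξU = U₀.ι (genericPoint U₀.toScheme) := by
    change U.ι ((U₀.ι ∣_ U) ⟨genericPoint U₀.toScheme, hξ⟩) = _
    rw [← Scheme.Hom.comp_apply, morphismRestrict_ι, Scheme.Hom.comp_apply]
    rfl
  -- points of the graph over `U₀` are specializations of `s ξU`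
  have hgraph : ∀ t : P, t ∈ Set.range s → q t ∈ U₀ → s ξU ⤳ t := by
    rintro _ ⟨v, rfl⟩ hv
    refine Specializes.map ?_ s.continuous
    rw [← U.ι.isOpenEmbedding.isInducing.specializes_iff, hξUι]
    have hv' : U.ι v ∈ U₀ := by
      rw [← hs, Scheme.Hom.comp_apply]
      exact hv
    have : genericPoint U₀.toScheme ⤳ (⟨U.ι v, hv'⟩ : U₀.toScheme) :=
      Groth.Agent.H4FF.genericPoint_specializes _
    exact this.map U₀.ι.continuous
  have hcl : ∀ t : P, t ∈ closure (Set.range s) → q t ∈ U₀ → s ξU ⤳ t := by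
    intro t ht htU₀
    have h1 : t ∈ (YW : Set P) ∩ closure (Set.range s) := ⟨htU₀, ht⟩
    have h2 := YW.isOpen.inter_closure h1
    rw [specializes_iff_mem_closure]
    refine closure_minimal ?_ isClosed_closure h2
    rintro t' ⟨ht'1, ht'2⟩
    exact specializes_iff_mem_closure.1 (hgraph t' ht'2 ht'1)
  have hsp : hK (closedPoint U₀.toScheme.functionField) ⤳ z' := by
    rw [← YW.ι.isOpenEmbedding.isInducing.specializes_iff, hKpt]
    exact hcl z hzΓ hzYW
  have hzO : z ∈ O := by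
    have : z ∈ (O : Set P) ∩ closure (Set.range s) ∩ q ⁻¹' {x} := by
      rw [hiso]
      rfl
    exact this.1.1
  have hiso' : ∀ t : YW.toScheme, t ∈ YW.ι ⁻¹ᵁ O →
      hK (closedPoint U₀.toScheme.functionField) ⤳ t → qW t = qW z' → t = z' := by
    intro t htO htsp htq
    have h1 : s ξU ⤳ YW.ι t := by
      rw [← hKpt]
      exact htsp.map YW.ι.continuous
    have hmem : s ξU ∈ Set.range s := ⟨ξU, rfl⟩
    have h2 : YW.ι t ∈ closure (Set.range s) :=
      closure_mono (Set.singleton_subset_iff.2 hmem) (specializes_iff_mem_closure.1 h1)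
    have h3 : q (YW.ι t) = x := by
      have : U₀.ι (qW t) = x := by rw [htq, hqW]; rfl
      rw [← this, ← Scheme.Hom.comp_apply, ← Scheme.Hom.comp_apply, morphismRestrict_ι]
    have h4 : YW.ι t ∈ (O : Set P) ∩ closure (Set.range s) ∩ q ⁻¹' {x} := ⟨⟨htO, h2⟩, h3⟩
    rw [hiso] at h4
    exact Subtype.ext h4
  obtain ⟨φ, hφc, hφg, hφq⟩ := exists_local_section_of_isolated qW hK hKq z' hsp
    (YW.ι ⁻¹ᵁ O) hzO hiso'
  obtain ⟨V', hxV', g', hg'q, -, hagree⟩ :=
    exists_extension_of_local_section qW V h₀ hh₀ hξ (qW z') φ hφg hφq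
  obtain ⟨U', hUU', hV', h', h'q, h'res, -⟩ := glue_extension q U s hs U₀ V' (g' ≫ YW.ι)
    (by rw [Category.assoc, ← morphismRestrict_ι, ← Category.assoc, hg'q])
    (by rw [← Category.assoc, hagree, Category.assoc, hh₀ι])
  refine ⟨U', hUU', h', hV' ⟨qW z', hxV', ?_⟩, h'q, h'res⟩
  rw [hqW]
  rfl

end Groth.Agent.H4Rat
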