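import Mathlib
import Groth.Agent.Lib.helper4.Rat8
import Groth.Agent.Lib.helper4.Ext1

/-!
# Rational sections of separated unramified formally proper morphisms over a normal base
-/

set_option autoImplicit false
universe u

namespace Groth.Agent.H4Rat

open AlgebraicGeometry CategoryTheory Limits TopologicalSpace IsLocalRing

/-- An unramified morphism (formally unramified and locally of finite type) is locally
quasi-finite. -/
theorem locallyQuasiFinite_of_formallyUnramified {X Y : Scheme.{u}} (f : X ⟶ Y)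
    [FormallyUnramified f] [LocallyOfFiniteType f] : LocallyQuasiFinite f := by
  refine ⟨fun {U} hU {V} hV e => ?_⟩
  have h1 : (f.appLE U V e).hom.FiniteType := LocallyOfFiniteType.finiteType_appLE f hU hV e
  have h2 : (f.appLE U V e).hom.FormallyUnramified :=
    HasRingHomProperty.appLE @FormallyUnramified f inferInstance ⟨U, hU⟩ ⟨V, hV⟩ e
  algebraize [(f.appLE U V e).hom]
  change Algebra.QuasiFinite _ _
  infer_instance

/-- In a locally quasi-finite morphism every point is isolated in its fibre. -/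
theorem exists_isolating_open {X Y : Scheme.{u}} (f : X ⟶ Y) [LocallyQuasiFinite f] (z : X) :
    ∃ O : X.Opens, (O : Set X) ∩ f ⁻¹' {f z} = {z} := by
  have h := f.isDiscrete_preimage_singleton (f z)
  rw [isDiscrete_iff_forall_mem_exists_isOpen] at h
  obtain ⟨u, hu, hu'⟩ := h z rfl
  exact ⟨⟨u, hu⟩, hu'⟩

/-- Over a point outside a dense open there is a point of the closure of the image of a
rational section, when the existence part of the valuative criterion holds. -/
theorem exists_centre_of_existence {Z S : Scheme.{u}} (f : Z ⟶ S) [IsLocallyNoetherian S]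
    (hfp : ValuativeCriterion.Existence f) (U : S.Opens) (hU : Dense (U : Set S))
    (v : U.toScheme ⟶ Z) (hv : v ≫ f = U.ι) (x : S) (hxU : x ∉ U)
    [IsDomain (S.presheaf.stalk x)] :
    ∃ z : Z, f z = x ∧ z ∈ closure (Set.range v) := by
  obtain ⟨R, _, _, _, u, ub, hux, hub⟩ := exists_dvr_point U hU x hxU
  let Sq : ValuativeCommSq f :=
    { R := R
      K := FractionRing R
      i₁ := ub ≫ v
      i₂ := u
      commSq := ⟨by rw [Category.assoc, hv, hub]⟩ }
  obtain ⟨⟨l, hl1, hl2⟩⟩ := hfp Sq
  have hl1' : Spec.map (CommRingCat.ofHom (algebraMap R (FractionRing R))) ≫ l = ub ≫ v := hl1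
  have hl2' : l ≫ f = u := hl2
  refine ⟨l (closedPoint R), ?_, ?_⟩
  · rw [← Scheme.Hom.comp_apply, hl2', hux]
  · let η : Spec (CommRingCat.of R) :=
      Spec.map (CommRingCat.ofHom (algebraMap R (FractionRing R))) (closedPoint (FractionRing R))
    have h1 : η ⤳ closedPoint R := IsLocalRing.specializes_closedPoint (R := R) η
    have h2 : l η ⤳ l (closedPoint R) := h1.map l.continuous
    have h3 : l η ∈ Set.range v := by
      refine ⟨ub (closedPoint (FractionRing R)), ?_⟩
      rw [← Scheme.Hom.comp_apply, ← hl1', Scheme.Hom.comp_apply]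
    exact closure_mono (Set.singleton_subset_iff.2 h3) (specializes_iff_mem_closure.1 h2)

/-- Local extension of a rational section of a separated unramified formally proper morphism
at a normal point. -/
theorem exists_local_extension_unramified {Z S : Scheme.{u}} (f : Z ⟶ S) [IsLocallyNoetherian S]
    [IsSeparated f] [FormallyUnramified f] [LocallyOfFiniteType f]
    (hfp : ValuativeCriterion.Existence f) (U : S.Opens) (hU : Dense (U : Set S))
    (v : U.toScheme ⟶ Z) (hv : v ≫ f = U.ι) (x : S)
    [IsDomain (S.presheaf.stalk x)] (hx : IsIntegrallyClosed (S.presheaf.stalk x)) :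
    ∃ (U' : S.Opens) (s' : U'.toScheme ⟶ Z), x ∈ U' ∧ s' ≫ f = U'.ι ∧
      S.homOfLE (inf_le_right : U ⊓ U' ≤ U') ≫ s' = S.homOfLE (inf_le_left : U ⊓ U' ≤ U) ≫ v := by
  by_cases hxU : x ∈ U
  · exact ⟨U, v, hxU, hv, rfl⟩
  · have hqf := locallyQuasiFinite_of_formallyUnramified f
    obtain ⟨z, hz, hzΓ⟩ := exists_centre_of_existence f hfp U hU v hv x hxU
    obtain ⟨O, hO⟩ := exists_isolating_open f z
    obtain ⟨U₀, -, hxU₀, hint⟩ := exists_integral_affine_nhd x
    have hiso : (O : Set Z) ∩ closure (Set.range v) ∩ f ⁻¹' {x} = {z} := by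
      apply Set.Subset.antisymm
      · rintro t ⟨⟨ht1, -⟩, ht3⟩
        rw [← hO]
        refine ⟨ht1, ?_⟩
        rw [hz]
        exact ht3
      · rintro t rfl
        have hzO : t ∈ (O : Set Z) ∩ f ⁻¹' {f t} := by
          rw [hO]
          rfl
        exact ⟨⟨hzO.1, hzΓ⟩, hz⟩
    obtain ⟨U', hUU', s', hxU', hs'f, hs'v⟩ :=
      exists_extension_of_isolated f U hU v hv x U₀ hxU₀ hx z hz hzΓ O hiso
    refine ⟨U', s', hxU', hs'f, ?_⟩
    rw [← hs'v, ← Category.assoc, Scheme.homOfLE_homOfLE]

/-- **Rational sections of a separated unramified formally proper morphism over a normal locally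
Noetherian base are everywhere defined.** -/
theorem exists_section_of_unramified {Z S : Scheme.{u}} (f : Z ⟶ S) [IsLocallyNoetherian S]
    (hS : ∀ x : S, IsDomain (S.presheaf.stalk x) ∧ IsIntegrallyClosed (S.presheaf.stalk x))
    [IsSeparated f] [FormallyUnramified f] [LocallyOfFiniteType f]
    (hfp : ValuativeCriterion.Existence f) (U : S.Opens) (hU : Dense (U : Set S))
    (v : U.toScheme ⟶ Z) (hv : v ≫ f = U.ι) :
    ∃ w : S ⟶ Z, w ≫ f = 𝟙 S ∧ U.ι ≫ w = v := by
  have hred : IsReduced S := by
    have : ∀ x : S, _root_.IsReduced (S.presheaf.stalk x) := fun x => by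
      have := (hS x).1
      infer_instance
    exact isReduced_of_isReduced_stalk S
  have hloc : ∀ x : S, ∃ (U' : S.Opens) (s' : U'.toScheme ⟶ Z), x ∈ U' ∧ s' ≫ f = U'.ι ∧
      S.homOfLE (inf_le_right : U ⊓ U' ≤ U') ≫ s' =
        S.homOfLE (inf_le_left : U ⊓ U' ≤ U) ≫ v := by
    intro x
    have := (hS x).1
    exact exists_local_extension_unramified f hfp U hU v hv x (hS x).2
  choose Ut st hxt hsft hagt using hloc
  let W : Option S → S.Opens := fun i =>
    match i with
    | none => U
    | some t => Ut t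
  let φ : ∀ i, (W i : Scheme.{u}) ⟶ Z := fun i =>
    match i with
    | none => v
    | some t => st t
  have hA : ∀ i, φ i ≫ f = (W i).ι := by
    intro i
    match i with
    | none => exact hv
    | some t => exact hsft t
  have hB : ∀ i, S.homOfLE (inf_le_right : U ⊓ W i ≤ W i) ≫ φ i =
      S.homOfLE (inf_le_left : U ⊓ W i ≤ U) ≫ v := by
    intro i
    match i with
    | none => rfl
    | some t => exact hagt t
  obtain ⟨ψ, hψ⟩ := Groth.Agent.H4Glue.glue_iSup W φ
    (fun i j => Groth.Agent.H4Ext.agree f U hU v (W i) (W j) (φ i) (φ j) (hA i) (hA j)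
      (hB i) (hB j))
  have htop : (⨆ i, W i) = ⊤ := by
    rw [eq_top_iff]
    intro x _
    exact Opens.mem_iSup.mpr ⟨some x, hxt x⟩
  have hψf : ψ ≫ f = (⨆ i, W i).ι := by
    apply Groth.Agent.H4Glue.hom_ext_iSup W
    intro i
    rw [← Category.assoc, hψ i, hA i, Scheme.homOfLE_ι]
  have hιiso : IsIso (⨆ i, W i).ι := by
    rw [htop]
    exact (inferInstance : IsIso S.topIso.hom)
  refine ⟨inv (⨆ i, W i).ι ≫ ψ, ?_, ?_⟩
  · rw [Category.assoc, hψf, IsIso.inv_hom_id]
  · have : U.ι ≫ inv (⨆ i, W i).ι = S.homOfLE (le_iSup W none) := by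
      rw [IsIso.comp_inv_eq, Scheme.homOfLE_ι]
    rw [← Category.assoc, this]
    exact hψ none

end Groth.Agent.H4Rat
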