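import Mathlib

/-!
# Resolving the indeterminacy of a rational map to a proper scheme by the closure of its graph
-/

set_option autoImplicit false
universe u

namespace Groth.Agent.H4Rat

open AlgebraicGeometry CategoryTheory Limits TopologicalSpace

/-- The canonical morphism to the scheme-theoretic image of a quasi-compact morphism is
scheme-theoretically dominant. -/
theorem isSchemeTheoreticallyDominant_toImage {X Y : Scheme.{u}} (f : X ⟶ Y) [QuasiCompact f] :
    IsSchemeTheoreticallyDominant f.toImage := by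
  rw [isSchemeTheoreticallyDominant_iff]
  have haff : ∀ U : Y.affineOpens, IsAffineOpen (f.imageι ⁻¹ᵁ U.1) := fun U =>
    U.2.preimage f.imageι
  refine Scheme.IdealSheafData.ext_of_iSup_eq_top
    (fun U : Y.affineOpens => (⟨f.imageι ⁻¹ᵁ U.1, haff U⟩ : f.image.affineOpens)) ?_ ?_
  · have h1 : ⨆ U : Y.affineOpens, U.1 = ⊤ := iSup_affineOpens_eq_top Y
    have h2 : f.imageι ⁻¹ᵁ (⨆ U : Y.affineOpens, U.1) = ⊤ := by rw [h1]; rfl
    rw [← h2]
    ext x
    simp only [Opens.mem_iSup, Scheme.Hom.mem_preimage, SetLike.mem_coe]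
  · intro U
    rw [Scheme.Hom.ker_apply, Scheme.IdealSheafData.ideal_bot]
    exact (RingHom.injective_iff_ker_eq_bot _).1 (f.toImage_app_injective U)

/-- Resolution of the indeterminacy of a rational map to a proper scheme by the scheme-theoretic
closure of its graph. -/
theorem exists_resolution {X Y S : Scheme.{u}} [IsNoetherian X] (a : X ⟶ S) (b : Y ⟶ S)
    [IsProper b] (U : X.Opens) (f : (U : Scheme.{u}) ⟶ Y) (hf : f ≫ b = U.ι ≫ a) :
    ∃ (X' : Scheme.{u}) (p : X' ⟶ X) (f' : X' ⟶ Y), IsProper p ∧ IsIso (p ∣_ U) ∧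
      f' ≫ b = p ≫ a ∧ (p ⁻¹ᵁ U).ι ≫ f' = (p ∣_ U) ≫ f := by
  let γ : U.toScheme ⟶ pullback a b := pullback.lift U.ι f hf.symm
  have hγ1 : γ ≫ pullback.fst a b = U.ι := pullback.lift_fst _ _ _
  have hγ2 : γ ≫ pullback.snd a b = f := pullback.lift_snd _ _ _
  have hNS : NoetherianSpace U.toScheme :=
    inferInstanceAs (NoetherianSpace ((U : Set X) : Type u))
  have hqc : QuasiCompact γ := ⟨fun V _ _ => NoetherianSpace.isCompact _⟩
  obtain ⟨i, hidef⟩ : ∃ i : γ.image ⟶ pullback a b, i = γ.imageι := ⟨_, rfl⟩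
  obtain ⟨t, htdef⟩ : ∃ t : U.toScheme ⟶ γ.image, t = γ.toImage := ⟨_, rfl⟩
  have hicl : IsClosedImmersion i := by rw [hidef]; infer_instance
  have hti : t ≫ i = γ := by rw [hidef, htdef]; exact γ.toImage_imageι
  have hstd : IsSchemeTheoreticallyDominant t := by
    rw [htdef]
    exact isSchemeTheoreticallyDominant_toImage γ
  have htqc : QuasiCompact t := by rw [htdef]; infer_instance
  obtain ⟨p, hpdef⟩ : ∃ p : γ.image ⟶ X, p = i ≫ pullback.fst a b := ⟨_, rfl⟩
  have hp : IsProper p := by rw [hpdef]; infer_instance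
  have htp : t ≫ p = U.ι := by rw [hpdef, ← Category.assoc, hti, hγ1]
  have hrange : Set.range t ⊆ Set.range (p ⁻¹ᵁ U).ι := by
    rintro _ ⟨u, rfl⟩
    rw [Scheme.Opens.range_ι]
    change p (t u) ∈ U
    rw [← Scheme.Hom.comp_apply, htp]
    exact u.2
  let t' : U.toScheme ⟶ (p ⁻¹ᵁ U).toScheme := IsOpenImmersion.lift (p ⁻¹ᵁ U).ι t hrange
  have ht'ι : t' ≫ (p ⁻¹ᵁ U).ι = t := IsOpenImmersion.lift_fac _ _ _
  have ht'p : t' ≫ (p ∣_ U) = 𝟙 _ := by
    rw [← cancel_mono U.ι, Category.assoc, morphismRestrict_ι, ← Category.assoc, ht'ι, htp,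
      Category.id_comp]
  have hcl : IsClosedImmersion t' := by
    have : IsClosedImmersion (t' ≫ (p ∣_ U)) := by rw [ht'p]; infer_instance
    exact IsClosedImmersion.of_comp t' (p ∣_ U)
  have hpb : IsPullback (𝟙 U.toScheme) t' t (p ⁻¹ᵁ U).ι :=
    IsPullback.of_horiz_isIso_mono ⟨by rw [Category.id_comp, ht'ι]⟩
  have hstd' : IsSchemeTheoreticallyDominant t' := IsSchemeTheoreticallyDominant.of_isPullback hpb
  have hiso : IsIso t' := IsClosedImmersion.isIso_iff_ker_eq_bot.2 hstd'.ker_eq_bot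
  have hpiso : IsIso (p ∣_ U) := by
    have : p ∣_ U = inv t' := by rw [← cancel_epi t', ht'p, IsIso.hom_inv_id]
    rw [this]
    infer_instance
  refine ⟨γ.image, p, i ≫ pullback.snd a b, hp, hpiso, ?_, ?_⟩
  · rw [hpdef, Category.assoc, Category.assoc, pullback.condition]
  · rw [← cancel_epi t', ← Category.assoc, ht'ι, ← Category.assoc (t') (p ∣_ U), ht'p,
      Category.id_comp, ← Category.assoc, hti, hγ2]

end Groth.Agent.H4Rat
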