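import Mathlib
import Groth.Agent.Lib.helper4.Rat11
import Groth.Agent.Lib.helper4.Rat12

/-!
# `S`-birationality of integral schemes locally of finite type in terms of residue fields of
generic points
-/

set_option autoImplicit false
universe u

namespace Groth.Agent.H4Rat

open AlgebraicGeometry CategoryTheory Limits TopologicalSpace IsLocalRing

/-- The generic point of an open subscheme of an irreducible scheme. -/
theorem genericPoint_opens {X : Scheme.{u}} [IrreducibleSpace X] (U : X.Opens)
    (hξ : genericPoint X ∈ U) [IrreducibleSpace U.toScheme] :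
    genericPoint U.toScheme = ⟨genericPoint X, hξ⟩ := by
  apply (genericPoint_spec U.toScheme).eq
  change closure {(⟨genericPoint X, hξ⟩ : U)} = Set.univ
  rw [Topology.IsInducing.subtypeVal.closure_eq_preimage_closure_image, Set.image_singleton,
    (genericPoint_spec X).def]
  rfl

/-- Residue-field data induced by two open immersions with common source. -/
theorem exists_residueField_iso_of_isOpenImmersion {U X Y S : Scheme.{u}} (i : U ⟶ X) (j : U ⟶ Y)
    [IsOpenImmersion i] [IsOpenImmersion j] (sX : X ⟶ S) (sY : Y ⟶ S)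
    (h : j ≫ sY = i ≫ sX) (u : U) (x : X) (y : Y) (hx : i u = x) (hy : j u = y) :
    ∃ (hs : sX x = sY y) (e : X.residueField x ≅ Y.residueField y),
      sX.residueFieldMap x ≫ e.hom =
        eqToHom (congrArg S.residueField hs) ≫ sY.residueFieldMap y := by
  subst hx hy
  have hs : sX (i u) = sY (j u) := by
    rw [← Scheme.Hom.comp_apply, ← Scheme.Hom.comp_apply, h]
  refine ⟨hs, asIso (i.residueFieldMap u) ≪≫ (asIso (j.residueFieldMap u)).symm, ?_⟩
  change sX.residueFieldMap (i u) ≫ i.residueFieldMap u ≫ inv (j.residueFieldMap u) = _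
  rw [← Category.assoc, ← Scheme.residueFieldMap_comp, IsIso.comp_inv_eq, Category.assoc,
    ← Scheme.residueFieldMap_comp, Scheme.Hom.residueFieldMap_congr h.symm u]
  rfl

/-- `S`-birational integral schemes have `κ(s)`-isomorphic residue fields at generic points. -/
theorem residueField_iso_of_birationalOver {S X Y : Scheme.{u}} [IsIntegral X] [IsIntegral Y]
    (sX : X ⟶ S) (sY : Y ⟶ S) (h : Scheme.BirationalOver sX sY) :
    ∃ (hs : sX (genericPoint X) = sY (genericPoint Y))
      (e : X.residueField (genericPoint X) ≅ Y.residueField (genericPoint Y)),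
      sX.residueFieldMap (genericPoint X) ≫ e.hom =
        eqToHom (congrArg S.residueField hs) ≫ sY.residueFieldMap (genericPoint Y) := by
  obtain ⟨f, hf⟩ := h
  have hξ : genericPoint X ∈ f.source := by
    obtain ⟨z, hz⟩ := f.dense_source.nonempty
    exact ((genericPoint_spec X).mem_open_set_iff f.source.isOpen).2 ⟨z, trivial, hz⟩
  let u : f.source.toScheme := ⟨genericPoint X, hξ⟩
  have hu : closure {u} = Set.univ := by
    change closure {(⟨genericPoint X, hξ⟩ : f.source)} = Set.univ
    rw [Topology.IsInducing.subtypeVal.closure_eq_preimage_closure_image, Set.image_singleton,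
      (genericPoint_spec X).def]
    rfl
  have hj : (f.iso.hom ≫ f.target.ι) u = genericPoint Y := by
    symm
    apply (genericPoint_spec Y).eq
    have h1 : IsGenericPoint u Set.univ := hu
    have h2 := h1.image (f.iso.hom ≫ f.target.ι).continuous
    have h3 : closure ((f.iso.hom ≫ f.target.ι) '' Set.univ) = Set.univ := by
      rw [Set.eq_univ_iff_forall]
      intro y
      refine closure_mono ?_ (f.dense_target y)
      intro y' hy'
      refine ⟨f.iso.inv ⟨y', hy'⟩, trivial, ?_⟩
      rw [← Scheme.Hom.comp_apply, Iso.inv_hom_id_assoc]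
      rfl
    rw [h3] at h2
    exact h2
  exact exists_residueField_iso_of_isOpenImmersion f.source.ι (f.iso.hom ≫ f.target.ι) sX sY
    (by rw [Category.assoc]; exact hf) u _ _ rfl hj

/-- Integral `S`-schemes locally of finite type whose generic points have `κ(s)`-isomorphic
residue fields are `S`-birational. -/
theorem birationalOver_of_residueField_iso {S X Y : Scheme.{u}} [IsIntegral X] [IsIntegral Y]
    (sX : X ⟶ S) (sY : Y ⟶ S) [LocallyOfFiniteType sX] [LocallyOfFiniteType sY]
    (hs : sX (genericPoint X) = sY (genericPoint Y))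
    (e : X.residueField (genericPoint X) ≅ Y.residueField (genericPoint Y))
    (he : sX.residueFieldMap (genericPoint X) ≫ e.hom =
      eqToHom (congrArg S.residueField hs) ≫ sY.residueFieldMap (genericPoint Y)) :
    Scheme.BirationalOver sX sY := by
  obtain ⟨ξ, hξdef⟩ : ∃ ξ : X, ξ = genericPoint X := ⟨_, rfl⟩
  obtain ⟨η, hηdef⟩ : ∃ η : Y, η = genericPoint Y := ⟨_, rfl⟩
  have hρX : IsIso (X.residue (genericPoint X)) :=
    (ConcreteCategory.isIso_iff_bijective _).2
      (residue_bijective_of_isField _ (Field.toIsField X.functionField))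
  have hρY : IsIso (Y.residue (genericPoint Y)) :=
    (ConcreteCategory.isIso_iff_bijective _).2
      (residue_bijective_of_isField _ (Field.toIsField Y.functionField))
  -- the `κ(ξ)`-point of `Y`
  let φ' : Spec (X.residueField (genericPoint X)) ⟶ Y :=
    Spec.map e.inv ≫ Y.fromSpecResidueField (genericPoint Y)
  have hφ' : φ' ≫ sY = X.fromSpecResidueField (genericPoint X) ≫ sX := by
    have h1 : sX.residueFieldMap (genericPoint X) =
        (S.residueFieldCongr hs).hom ≫ sY.residueFieldMap (genericPoint Y) ≫ e.inv := by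
      rw [← Category.assoc, Iso.eq_comp_inv]
      exact he
    rw [← Scheme.Hom.SpecMap_residueFieldMap_fromSpecResidueField, h1, Spec.map_comp,
      Spec.map_comp, Category.assoc, Category.assoc,
      Scheme.residueFieldCongr_fromSpecResidueField, Category.assoc,
      ← Scheme.Hom.SpecMap_residueFieldMap_fromSpecResidueField]
  let φ : Spec (X.presheaf.stalk (genericPoint X)) ⟶ Y :=
    Spec.map (inv (X.residue (genericPoint X))) ≫ φ'
  have hρρ : Spec.map (inv (X.residue (genericPoint X))) ≫ Spec.map (X.residue (genericPoint X)) =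
      𝟙 _ := by
    rw [← Spec.map_comp, IsIso.hom_inv_id, Spec.map_id]
  have hρρ' : Spec.map (X.residue (genericPoint X)) ≫ Spec.map (inv (X.residue (genericPoint X))) =
      𝟙 _ := by
    rw [← Spec.map_comp, IsIso.inv_hom_id, Spec.map_id]
  have hρρY : Spec.map (inv (Y.residue (genericPoint Y))) ≫
      Spec.map (Y.residue (genericPoint Y)) = 𝟙 _ := by
    rw [← Spec.map_comp, IsIso.hom_inv_id, Spec.map_id]
  have hφ : φ ≫ sY = X.fromSpecStalk (genericPoint X) ≫ sX := by
    change (Spec.map (inv (X.residue (genericPoint X))) ≫ φ') ≫ sY = _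
    rw [Category.assoc, hφ', Scheme.fromSpecResidueField, Category.assoc, ← Category.assoc,
      hρρ, Category.id_comp]
  obtain ⟨U, hξU, f, hfφ, hfS⟩ := spread_out_of_isGermInjective' sX sY φ hφ
  -- shrink to an affine open
  obtain ⟨U₀, hU₀, hξU₀, hU₀U'⟩ : ∃ U₀ : X.Opens, IsAffineOpen U₀ ∧ genericPoint X ∈ U₀ ∧
      U₀ ≤ U := by
    obtain ⟨_, ⟨U₀, hU₀, rfl⟩, hξU₀, hU₀U⟩ :=
      X.isBasis_affineOpens.exists_subset_of_mem_open hξU U.isOpen
    exact ⟨U₀, hU₀, hξU₀, hU₀U⟩
  have haff : IsAffine U₀.toScheme := hU₀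
  have hne : Nonempty U₀.toScheme := ⟨⟨_, hξU₀⟩⟩
  have hint : IsIntegral U₀.toScheme := inferInstance
  let f₀ : U₀.toScheme ⟶ Y := X.homOfLE hU₀U' ≫ f
  have hf₀S : f₀ ≫ sY = U₀.ι ≫ sX := by
    rw [Category.assoc, hfS, Scheme.homOfLE_ι_assoc]
  have hf₀φ : U₀.fromSpecStalkOfMem (genericPoint X) hξU₀ ≫ f₀ = φ := by
    rw [fromSpecStalkOfMem_homOfLE_assoc, ← hfφ]
  have hlft : LocallyOfFiniteType f₀ := by
    have : LocallyOfFiniteType (f₀ ≫ sY) := by rw [hf₀S]; infer_instance
    exact locallyOfFiniteType_of_comp f₀ sY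
  -- the `K(Y)`-point of `U₀`
  let hK : Spec (Y.presheaf.stalk (genericPoint Y)) ⟶ U₀.toScheme :=
    Spec.map (inv (Y.residue (genericPoint Y))) ≫ Spec.map e.hom ≫
      Spec.map (X.residue (genericPoint X)) ≫ U₀.fromSpecStalkOfMem (genericPoint X) hξU₀
  have hKf : hK ≫ f₀ = Y.fromSpecStalk (genericPoint Y) := by
    change (Spec.map (inv (Y.residue (genericPoint Y))) ≫ Spec.map e.hom ≫
      Spec.map (X.residue (genericPoint X)) ≫ U₀.fromSpecStalkOfMem (genericPoint X) hξU₀) ≫ f₀ = _
    simp only [Category.assoc]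
    rw [hf₀φ]
    change Spec.map (inv (Y.residue (genericPoint Y))) ≫ Spec.map e.hom ≫
      Spec.map (X.residue (genericPoint X)) ≫ Spec.map (inv (X.residue (genericPoint X))) ≫
        Spec.map e.inv ≫ Y.fromSpecResidueField (genericPoint Y) = _
    rw [← Category.assoc (Spec.map (X.residue (genericPoint X))), hρρ', Category.id_comp,
      ← Category.assoc (Spec.map e.hom), ← Spec.map_comp, Iso.inv_hom_id, Spec.map_id,
      Category.id_comp, Scheme.fromSpecResidueField, ← Category.assoc, hρρY, Category.id_comp]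
  obtain ⟨V₁, hηV₁, g₁, hg₁K, hg₁f⟩ := spread_out_of_isGermInjective' (𝟙 Y) f₀ hK
    (by rw [hKf, Category.comp_id])
  rw [Category.comp_id] at hg₁f
  have hgen : genericPoint U₀.toScheme ∈ Set.range g₁ := by
    refine ⟨⟨genericPoint Y, hηV₁⟩, ?_⟩
    rw [genericPoint_opens U₀ hξU₀, ← fromSpecStalkOfMem_closedPoint V₁ _ hηV₁,
      ← Scheme.Hom.comp_apply, ← hg₁K]
    change (U₀.fromSpecStalkOfMem (genericPoint X) hξU₀) _ = _
    rw [← fromSpecStalkOfMem_closedPoint U₀ _ hξU₀]
    have hsub : Subsingleton (Spec (X.presheaf.stalk (genericPoint X))) :=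
      inferInstanceAs (Subsingleton (PrimeSpectrum X.functionField))
    congr 1
    exact Subsingleton.elim _ _
  have hiso : IsIso (f₀ ∣_ V₁) := isIso_restrict_of_section f₀ V₁ g₁ hg₁f hgen
  -- assemble the partial isomorphism
  have hξW : (⟨genericPoint X, hξU₀⟩ : U₀.toScheme) ∈ f₀ ⁻¹ᵁ V₁ := by
    obtain ⟨v, hv⟩ := hgen
    rw [genericPoint_opens U₀ hξU₀] at hv
    change f₀ _ ∈ V₁
    rw [← hv, ← Scheme.Hom.comp_apply, hg₁f]
    exact v.2
  refine ⟨{ source := U₀.ι ''ᵁ (f₀ ⁻¹ᵁ V₁)
            dense_source := ?_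
            target := V₁
            dense_target := ?_
            iso := (U₀.ι.isoImage (f₀ ⁻¹ᵁ V₁)).symm ≪≫ asIso (f₀ ∣_ V₁) }, ?_⟩
  · exact (U₀.ι ''ᵁ (f₀ ⁻¹ᵁ V₁)).isOpen.dense ⟨_, ⟨_, hξW, rfl⟩⟩
  · exact V₁.isOpen.dense ⟨_, hηV₁⟩
  · change ((U₀.ι.isoImage (f₀ ⁻¹ᵁ V₁)).inv ≫ (f₀ ∣_ V₁)) ≫ V₁.ι ≫ sY = _
    rw [Category.assoc, ← Category.assoc (f₀ ∣_ V₁), morphismRestrict_ι, Category.assoc, hf₀S,
      ← Category.assoc, ← Category.assoc, Category.assoc _ _ U₀.ι, Scheme.Hom.isoImage_inv_ι]

end Groth.Agent.H4Rat
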