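import Mathlib

/-!
# Graph closure and universally open morphisms

If `f : X' ⟶ X` is universally open and the composite of a rational map `ω = (U, h)` from `X` to a
separated `S`-scheme `Y` with `f` extends to a morphism `v'` on an open `V'` of `X'`, then over a
point `f x'`, `x' ∈ V'`, the closure of the graph of `h` in `X ×_S Y` has exactly one point, namely
`(f x', v' x')`.
-/

set_option autoImplicit false
universe u

namespace Groth.Agent.H4RatUO

open AlgebraicGeometry CategoryTheory Limits TopologicalSpace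

variable {X X' Y S : Scheme.{u}} (pX : X ⟶ S) (pY : Y ⟶ S)
  (U : X.Opens) (h : (U : Scheme.{u}) ⟶ Y) (hh : U.ι ≫ pX = h ≫ pY)
  (f : X' ⟶ X) (V' : X'.Opens) (v' : (V' : Scheme.{u}) ⟶ Y)
  (hv' : v' ≫ pY = V'.ι ≫ f ≫ pX)
  (hagree : X'.homOfLE (inf_le_right : f ⁻¹ᵁ U ⊓ V' ≤ V') ≫ v' =
    X'.homOfLE (inf_le_left : f ⁻¹ᵁ U ⊓ V' ≤ f ⁻¹ᵁ U) ≫ (f ∣_ U) ≫ h)

/-- The graph morphism of `v'`. -/
noncomputable abbrev graph' : (V' : Scheme.{u}) ⟶ pullback pX pY :=
  pullback.lift (V'.ι ≫ f) v' (by rw [Category.assoc, hv'])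

include hagree in
theorem homOfLE_graph' :
    X'.homOfLE (inf_le_right : f ⁻¹ᵁ U ⊓ V' ≤ V') ≫ graph' pX pY f V' v' hv' =
      (X'.homOfLE (inf_le_left : f ⁻¹ᵁ U ⊓ V' ≤ f ⁻¹ᵁ U) ≫ (f ∣_ U)) ≫ pullback.lift U.ι h hh := by
  apply pullback.hom_ext
  · simp only [Category.assoc, pullback.lift_fst, morphismRestrict_ι, Scheme.homOfLE_ι_assoc]
  · simp only [Category.assoc, pullback.lift_snd]
    exact hagree

theorem isPullback_inf :
    IsPullback (X'.homOfLE (inf_le_right : f ⁻¹ᵁ U ⊓ V' ≤ V'))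
      (X'.homOfLE (inf_le_left : f ⁻¹ᵁ U ⊓ V' ≤ f ⁻¹ᵁ U) ≫ (f ∣_ U)) (V'.ι ≫ f) U.ι := by
  refine (IsOpenImmersion.isPullback _ _ _ _ ?_ ?_).flip
  · simp only [Category.assoc, morphismRestrict_ι, Scheme.homOfLE_ι_assoc]
  · rw [Scheme.Opens.opensRange_ι, Scheme.opensRange_homOfLE]
    ext w
    simp only [Scheme.Hom.comp_base, TopologicalSpace.Opens.map_comp_obj,
      TopologicalSpace.Opens.map_coe, Set.mem_preimage, SetLike.mem_coe,
      TopologicalSpace.Opens.coe_inf, Set.mem_inter_iff]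
    constructor
    · intro hw
      exact ⟨hw, w.2⟩
    · intro hw
      exact hw.1


include hagree in
/-- The graph of `v'` lands in the closure of the graph of `h`. -/
theorem graph'_mem_closure [UniversallyOpen f] (hU : Dense (U : Set X)) (w : V') :
    graph' pX pY f V' v' hv' w ∈ closure (Set.range (pullback.lift U.ι h hh)) := by
  have hopen : IsOpenMap (V'.ι ≫ f) := (V'.ι ≫ f).isOpenMap
  have hD : Dense ((V'.ι ≫ f) ⁻¹' (U : Set X)) := hU.preimage hopen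
  have hw : w ∈ closure ((V'.ι ≫ f) ⁻¹' (U : Set X)) := hD w
  have hcont : Continuous (graph' pX pY f V' v' hv') := (graph' pX pY f V' v' hv').continuous
  refine closure_mono ?_ (map_mem_closure hcont hw (fun t ht => Set.mem_image_of_mem _ ht))
  rintro _ ⟨t, ht, rfl⟩
  have ht' : (t : X') ∈ f ⁻¹ᵁ U ⊓ V' := ⟨ht, t.2⟩
  let t' : (f ⁻¹ᵁ U ⊓ V' : X'.Opens) := ⟨t, ht'⟩
  have h1 : X'.homOfLE (inf_le_right : f ⁻¹ᵁ U ⊓ V' ≤ V') t' = t := by
    apply Subtype.ext
    change V'.ι (X'.homOfLE (inf_le_right : f ⁻¹ᵁ U ⊓ V' ≤ V') t') = t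
    rw [← Scheme.Hom.comp_apply, Scheme.homOfLE_ι]
    rfl
  have h2 := congrArg (fun φ => φ t') (homOfLE_graph' pX pY U h hh f V' v' hv' hagree)
  simp only [Scheme.Hom.comp_apply] at h2
  rw [h1] at h2
  rw [h2]
  exact ⟨_, rfl⟩

include hagree in
/-- Over `f x'`, the closure of the graph of `h` consists of a single point. -/
theorem eq_graph'_of_mem_closure [UniversallyOpen f] [IsSeparated pY] (w : V')
    (γ : ↥(pullback pX pY)) (hγ : γ ∈ closure (Set.range (pullback.lift U.ι h hh)))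
    (hγw : pullback.fst pX pY γ = f w) : γ = graph' pX pY f V' v' hv' w := by
  set g := graph' pX pY f V' v' hv' with hg
  set s := pullback.lift U.ι h hh with hs
  set q := pullback.fst pX pY with hq
  -- the fibre product `A = V' ×_X P`
  let a₁ := pullback.fst (V'.ι ≫ f) q
  let a₂ := pullback.snd (V'.ι ≫ f) q
  have hgq : g ≫ q = V'.ι ≫ f := pullback.lift_fst _ _ _
  let σ : (V' : Scheme.{u}) ⟶ pullback (V'.ι ≫ f) q :=
    pullback.lift (𝟙 _) g (by rw [Category.id_comp, hgq])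
  have hσ₁ : σ ≫ a₁ = 𝟙 _ := pullback.lift_fst _ _ _
  have hσ₂ : σ ≫ a₂ = g := pullback.lift_snd _ _ _
  have : IsClosedImmersion (σ ≫ a₁) := by rw [hσ₁]; infer_instance
  have hσcl : IsClosedImmersion σ := IsClosedImmersion.of_comp σ a₁
  -- the point of `A` over `(w, γ)`
  obtain ⟨a, ha₁, ha₂⟩ := Scheme.Pullback.exists_preimage_pullback (f := V'.ι ≫ f) (g := q) w γ
    (by rw [hγw]; rfl)
  -- the cartesian square
  let b₁ := X'.homOfLE (inf_le_right : f ⁻¹ᵁ U ⊓ V' ≤ V')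
  let b₂ := X'.homOfLE (inf_le_left : f ⁻¹ᵁ U ⊓ V' ≤ f ⁻¹ᵁ U) ≫ (f ∣_ U)
  have hsq : s ≫ q = U.ι := pullback.lift_fst _ _ _
  have hB : IsPullback b₁ b₂ (V'.ι ≫ f) (s ≫ q) := by
    rw [hsq]
    exact isPullback_inf U f V'
  have hA : IsPullback a₁ a₂ (V'.ι ≫ f) q := IsPullback.of_hasPullback _ _
  have hβ : b₁ ≫ σ ≫ a₂ = b₂ ≫ s := by
    rw [hσ₂]
    exact homOfLE_graph' pX pY U h hh f V' v' hv' hagree
  have hB' : IsPullback ((b₁ ≫ σ) ≫ a₁) b₂ (V'.ι ≫ f) (s ≫ q) := by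
    rw [Category.assoc, hσ₁, Category.comp_id]
    exact hB
  have hleft : IsPullback (b₁ ≫ σ) b₂ a₂ s :=
    IsPullback.of_right hB' (by rw [Category.assoc, hβ]) hA
  have hrange : Set.range (b₁ ≫ σ) = a₂ ⁻¹' Set.range s := by
    have := Scheme.image_preimage_eq_of_isPullback hleft.flip Set.univ
    rw [Set.preimage_univ, Set.image_univ, Set.image_univ] at this
    exact this
  -- `a` lies in the closure of the range of `σ`
  have hacl : a ∈ closure (Set.range σ) := by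
    rw [mem_closure_iff]
    intro o ho hao
    have ho' : IsOpen (a₂ '' o) := a₂.isOpenMap o ho
    have hγo : γ ∈ a₂ '' o := ⟨a, hao, ha₂⟩
    obtain ⟨_, ⟨n, hno, rfl⟩, hn⟩ := mem_closure_iff.1 hγ _ ho' hγo
    have hn' : n ∈ Set.range (b₁ ≫ σ) := by
      rw [hrange]
      exact hn
    obtain ⟨b, rfl⟩ := hn'
    refine ⟨_, hno, b₁ b, ?_⟩
    rw [Scheme.Hom.comp_apply]
  rw [σ.isClosedEmbedding.isClosed_range.closure_eq] at hacl
  obtain ⟨w', rfl⟩ := hacl
  have hw' : w' = w := by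
    rw [← ha₁, ← Scheme.Hom.comp_apply, hσ₁]
    rfl
  rw [← ha₂, ← Scheme.Hom.comp_apply, hσ₂, hw']

end Groth.Agent.H4RatUO
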