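import Mathlib
import Groth.Prelude.Def_ega3
import Groth.Agent.Lib.helper4.RedFree2

/-!
# Exactness of `T_q`, `q ≤ p`, over reduced local rings (bounded below flat complexes)
-/

set_option autoImplicit false
set_option linter.unusedSectionVars false
universe u

namespace Groth.Agent.H4RedFree

open CategoryTheory Limits TensorProduct CohIII Groth.Agent.H4FibreDim Groth.Agent.H4FlatCx
  Groth.Agent.H4Bridge IsLocalRing

variable {A : Type u} [CommRing A] (P : ChainComplex (ModuleCat.{u} A) ℤ)
  (hP : ∀ i, Module.Flat A (P.X i))

include hP in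
theorem exact_of_isZero (q : ℤ) (h1 : IsZero (P.X q)) (h2 : IsZero (P.X (q - 1))) :
    (TFun P q).PreservesMonomorphisms ∧ (TFun P q).PreservesEpimorphisms := by
  have s1 := subsingleton_opcycles_of_isZero P q h1
  have s2 := subsingleton_opcycles_of_isZero P (q - 1) h2
  exact ⟨(preservesMono_iff' P hP q).2 inferInstance, (preservesEpi_iff' P hP q).2 inferInstance⟩

variable [IsLocalRing A]

include hP in
theorem mono_of_epi_of_dRank_eq [IsReduced A] (q : ℤ) (hepi : (TFun P q).PreservesEpimorphisms)
    (hfp : Module.FinitePresentation A (T P q (ModuleCat.of A A)))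
    (h : ∀ x : PrimeSpectrum A, x.asIdeal ∈ minimalPrimes A →
      dRank P q x = dRank P q (closedPoint A)) :
    (TFun P q).PreservesMonomorphisms := by
  have h2 : Module.FinitePresentation A (P.homology q) :=
    Module.FinitePresentation.of_equiv (TUnitIso P q).toLinearEquiv
  have h3 : Module.Finite A (P.homology q) := inferInstance
  have hfree : Module.Free A (P.homology q) := by
    apply free_of_fdim_eq
    intro x hx
    rw [← dRank_eq_fdim_homology P hP q hepi, ← dRank_eq_fdim_homology P hP q hepi]
    exact h x hx
  have hflat : Module.Flat A (T P q (ModuleCat.of A A)) := by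
    rw [flat_TUnit_iff]
    exact Module.Flat.of_free
  obtain ⟨e⟩ := nonempty_iso_tensorLeft_of_preservesEpi P hP q hepi
  have : Module.Flat A ((TFun P q).obj (ModuleCat.of A A)) := hflat
  exact preservesMono_of_iso_tensorLeft _ e

include hP in
theorem exact_of_dRank_eq_below [IsReduced A] (i₀ : ℤ) (hb : ∀ i < i₀, IsZero (P.X i))
    (hfp : ∀ n : ℤ, Module.FinitePresentation A (T P n (ModuleCat.of A A))) (p : ℤ)
    (h : ∀ x : PrimeSpectrum A, x.asIdeal ∈ minimalPrimes A →
      ∀ q ≤ p, dRank P q x = dRank P q (closedPoint A)) :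
    ∀ q ≤ p, (TFun P q).PreservesMonomorphisms ∧ (TFun P q).PreservesEpimorphisms := by
  have main : ∀ n : ℕ, ∀ q : ℤ, q < i₀ + n → q ≤ p →
      (TFun P q).PreservesMonomorphisms ∧ (TFun P q).PreservesEpimorphisms := by
    intro n
    induction n with
    | zero =>
      intro q hq _
      exact exact_of_isZero P hP q (hb q (by simpa using hq)) (hb (q - 1) (by simp at hq; omega))
    | succ n ih =>
      intro q hq hqp
      by_cases hlt : q < i₀ + n
      · exact ih q hlt hqp
      · have hprev := ih (q - 1) (by push_cast at hq; omega) (by omega)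
        have hepi : (TFun P q).PreservesEpimorphisms :=
          (preservesEpi_iff_preservesMono P hP q (q - 1) (by simp)).2 hprev.1
        exact ⟨mono_of_epi_of_dRank_eq P hP q hepi (hfp q) (fun x hx => h x hx q hqp), hepi⟩
  intro q hq
  by_cases hlt : q < i₀
  · exact main 0 q (by simpa using hlt) hq
  · exact main ((q - i₀).toNat + 1) q (by push_cast; omega) hq

include hP in
theorem dRank_eq_of_exact_below
    (hfp : ∀ n : ℤ, Module.FinitePresentation A (T P n (ModuleCat.of A A))) (p : ℤ)
    (h : ∀ q ≤ p, (TFun P q).PreservesMonomorphisms ∧ (TFun P q).PreservesEpimorphisms)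
    (x : PrimeSpectrum A) : ∀ q ≤ p, dRank P q x = dRank P q (closedPoint A) := by
  intro q hq
  exact apply_eq_of_specializes (isLocallyConstant_dRank_of_exact P hP q (h q hq) (hfp q))
    (specializes_closedPoint x)

end Groth.Agent.H4RedFree
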