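import Mathlib
import Groth.Agent.Lib.helper4.Rat9

/-!
# Morphisms agreeing on a dense open, over a separated base, agree on points
-/

set_option autoImplicit false
universe u

namespace Groth.Agent.H4SepDense

open AlgebraicGeometry CategoryTheory Limits TopologicalSpace

set_option backward.isDefEq.respectTransparency false in
/-- Two morphisms into a scheme separated over `Z`, agreeing over `Z` and after composition with a
dominant morphism, agree on points (no reducedness needed). -/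
theorem apply_eq_of_isDominant_of_isSeparated {W X Y Z : Scheme.{u}} {f g : X ⟶ Y}
    (s : Y ⟶ Z) [IsSeparated s] (h : f ≫ s = g ≫ s)
    (ι : W ⟶ X) [IsDominant ι] (hU : ι ≫ f = ι ≫ g) (x : X) : f x = g x := by
  let X' : Over Z := Over.mk (f ≫ s)
  let Y' : Over Z := Over.mk s
  let U' : Over Z := Over.mk (ι ≫ f ≫ s)
  let f' : X' ⟶ Y' := Over.homMk f
  let g' : X' ⟶ Y' := Over.homMk g
  let ι' : U' ⟶ X' := Over.homMk ι
  have : IsSeparated Y'.hom := ‹_›
  have : IsDominant (equalizer.ι f' g').left := by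
    apply +allowSynthFailures IsDominant.of_comp (equalizer.lift ι' ?_).left
    · rwa [← Over.comp_left, equalizer.lift_ι]
    · ext1; exact hU
  have : Surjective (equalizer.ι f' g').left :=
    surjective_of_isDominant_of_isClosed_range _ (Scheme.Hom.isClosedEmbedding _).isClosed_range
  obtain ⟨e, rfl⟩ := (equalizer.ι f' g').left.surjective x
  have hc : (equalizer.ι f' g').left ≫ f = (equalizer.ι f' g').left ≫ g :=
    congr($(equalizer.condition f' g').left)
  change ((equalizer.ι f' g').left ≫ f) e = ((equalizer.ι f' g').left ≫ g) e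
  rw [hc]

/-- A separated morphism which restricts to an open immersion on each member of a cover by dense
opens is an open immersion. -/
theorem isOpenImmersion_of_dense_cover {X Y : Scheme.{u}} (f : X ⟶ Y) [IsSeparated f]
    {ι : Type*} (U : ι → X.Opens) (hU : ⨆ i, U i = ⊤) (hd : ∀ i, Dense (U i : Set X))
    (h : ∀ i, IsOpenImmersion ((U i).ι ≫ f)) : IsOpenImmersion f := by
  have hcov : ∀ x : X, ∃ i, x ∈ U i := by
    intro x
    have : x ∈ (⨆ i, U i : X.Opens) := by rw [hU]; trivial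
    simpa [Opens.mem_iSup] using this
  apply Groth.Agent.H4Rat.isOpenImmersion_of_local_of_injective f
  · intro x
    obtain ⟨i, hi⟩ := hcov x
    exact ⟨U i, hi, h i⟩
  · intro x₁ x₂ hx
    obtain ⟨i, hi⟩ := hcov x₁
    obtain ⟨j, hj⟩ := hcov x₂
    have := h i
    have := h j
    let fi := (U i).ι ≫ f
    let fj := (U j).ι ≫ f
    let V : Y.Opens := fi.opensRange ⊓ fj.opensRange
    let Wi : (U i).toScheme.Opens := fi ⁻¹ᵁ V
    let α : Wi.toScheme ⟶ X := Wi.ι ≫ (U i).ι
    have hr : Set.range (Wi.ι ≫ fi) ⊆ Set.range fj := by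
      rintro _ ⟨w, rfl⟩
      have : fi (Wi.ι w) ∈ V := w.2
      exact this.2
    let l : Wi.toScheme ⟶ (U j).toScheme := IsOpenImmersion.lift fj (Wi.ι ≫ fi) hr
    have hl : l ≫ fj = Wi.ι ≫ fi := IsOpenImmersion.lift_fac _ _ _
    let β : Wi.toScheme ⟶ X := l ≫ (U j).ι
    have hαβ : α ≫ f = β ≫ f := by
      change (Wi.ι ≫ (U i).ι) ≫ f = (l ≫ (U j).ι) ≫ f
      rw [Category.assoc, Category.assoc]
      exact hl.symm
    -- the dense open of `Wi` on which `α` and `β` agree
    let D : Wi.toScheme.Opens := α ⁻¹ᵁ (U j)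
    have hDdense : IsDominant D.ι := by
      constructor
      change Dense (Set.range D.ι)
      rw [Scheme.Opens.range_ι]
      exact (hd j).preimage α.isOpenEmbedding.isOpenMap
    have hrD : Set.range (D.ι ≫ α) ⊆ Set.range (U j).ι := by
      rintro _ ⟨d, rfl⟩
      rw [Scheme.Opens.range_ι]
      exact d.2
    let γ : D.toScheme ⟶ (U j).toScheme := IsOpenImmersion.lift (U j).ι (D.ι ≫ α) hrD
    have hγ : γ ≫ (U j).ι = D.ι ≫ α := IsOpenImmersion.lift_fac _ _ _
    have hDeq : D.ι ≫ α = D.ι ≫ β := by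
      change D.ι ≫ α = D.ι ≫ l ≫ (U j).ι
      rw [← hγ, ← Category.assoc]
      congr 1
      rw [← cancel_mono fj, Category.assoc, hl]
      change γ ≫ (U j).ι ≫ f = D.ι ≫ Wi.ι ≫ (U i).ι ≫ f
      rw [← Category.assoc, hγ]
      simp only [α, Category.assoc]
    -- apply to the point `x₁`
    have hx₁V : fi ⟨x₁, hi⟩ ∈ V := by
      refine ⟨⟨⟨x₁, hi⟩, rfl⟩, ⟨⟨x₂, hj⟩, ?_⟩⟩
      exact hx.symm
    let w₁ : Wi.toScheme := ⟨⟨x₁, hi⟩, hx₁V⟩
    have key := apply_eq_of_isDominant_of_isSeparated f hαβ D.ι hDeq w₁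
    have hα₁ : α w₁ = x₁ := rfl
    have hβ₁ : fj (l w₁) = fj ⟨x₂, hj⟩ := by
      rw [← Scheme.Hom.comp_apply, hl]
      exact hx
    have hl₁ : l w₁ = ⟨x₂, hj⟩ := fj.isOpenEmbedding.injective hβ₁
    have hβ₂ : β w₁ = x₂ := by
      change (U j).ι (l w₁) = x₂
      rw [hl₁]
      rfl
    rw [← hα₁, key, hβ₂]

end Groth.Agent.H4SepDense
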