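import Mathlib
import Groth.Agent.Lib.helper4.QFComp
import Groth.Agent.Lib.helper4.FlatUnram1

/-!
# Flat separated morphisms that are birational-like on generic points are universally injective
(helper4)
-/

set_option autoImplicit false
universe u
open CategoryTheory CategoryTheory.Limits AlgebraicGeometry

namespace H4UnivInj

open Scheme.Pullback in
/-- If the residue field map at `T.y` is surjective, `Spec (κ(x) ⊗ κ(y))` has at most one point. -/
lemma subsingleton_tensor {X Y S : Scheme.{u}} {f : X ⟶ S} {g : Y ⟶ S} (T : Triplet f g)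
    (h : Function.Surjective (g.residueFieldMap T.y).hom) : Subsingleton (Spec T.tensor) := by
  have h1 : Function.Surjective (T.tensorInl).hom := by
    apply RingHom.IsStableUnderBaseChange.pushout_inl (P := fun f => Function.Surjective f)
      RingHom.surjective_isStableUnderBaseChange RingHom.surjective_respectsIso
    rw [CommRingCat.hom_comp, RingHom.coe_comp]
    exact h.comp (S.residueFieldCongr T.hy).symm.commRingCatIsoToRingEquiv.surjective
  have h2 : Function.Injective (Spec.map T.tensorInl) :=
    PrimeSpectrum.comap_injective_of_surjective _ h1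
  exact h2.subsingleton

open Scheme.Pullback in
/-- Uniqueness of the point of `X ×_Y X` over `(ξ, ξ)` when `κ(f ξ) → κ(ξ)` is surjective. -/
lemma eq_of_fst_eq_of_snd_eq {X Y : Scheme.{u}} (f : X ⟶ Y) (ξ : X)
    (hξ : Function.Surjective (f.residueFieldMap ξ).hom) (z₁ z₂ : ↑(pullback f f))
    (h11 : pullback.fst f f z₁ = ξ) (h12 : pullback.snd f f z₁ = ξ)
    (h21 : pullback.fst f f z₂ = ξ) (h22 : pullback.snd f f z₂ = ξ) : z₁ = z₂ := by
  subst h22
  apply (carrierEquiv (f := f) (g := f)).injective
  rw [carrierEquiv_eq_iff]
  have e : (carrierEquiv z₁).1 = (carrierEquiv z₂).1 :=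
    Triplet.ext (h11.trans h21.symm) h12
  refine ⟨e, ?_⟩
  have : Subsingleton (Spec (carrierEquiv z₂).1.tensor) := subsingleton_tensor _ hξ
  exact Subsingleton.elim _ _

/-- Every point of a quasi-sober space is a specialization of the generic point of an irreducible
component. -/
lemma exists_maximal_generization {α : Type*} [TopologicalSpace α] [QuasiSober α] (z : α) :
    ∃ z₀ : α, z₀ ⤳ z ∧ closure {z₀} ∈ irreducibleComponents α := by
  obtain ⟨z₀, hz₀⟩ := QuasiSober.sober (isIrreducible_irreducibleComponent (x := z))
    isClosed_irreducibleComponent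
  refine ⟨z₀, ?_, ?_⟩
  · rw [specializes_iff_mem_closure, hz₀.def]
    exact mem_irreducibleComponent
  · rw [hz₀.def]
    exact irreducibleComponent_mem_irreducibleComponents z

/-- A generalizing continuous map sends maximal points to maximal points. -/
lemma closure_map_mem_irreducibleComponents {α β : Type*} [TopologicalSpace α] [TopologicalSpace β]
    [T0Space α] [QuasiSober β] {p : α → β} (hp : GeneralizingMap p) {z : α}
    (hz : closure {z} ∈ irreducibleComponents α) : closure {p z} ∈ irreducibleComponents β := by
  apply Groth.Agent.H4QFC.closure_mem_irreducibleComponents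
  intro y hy
  obtain ⟨z', hz', rfl⟩ := hp hy
  rw [Groth.Agent.H4FU.eq_of_specializes_of_closure_mem_irreducibleComponents hz hz']

theorem universallyInjective {X Y : Scheme.{u}} (f : X ⟶ Y) [Flat f] [IsSeparated f]
    (h2 : ∀ ξ : X, closure ({ξ} : Set X) ∈ irreducibleComponents (X : Type u) →
      Function.Surjective (f.residueFieldMap ξ).hom)
    (h3 : Set.InjOn f.base {ξ : X | closure ({ξ} : Set X) ∈ irreducibleComponents (X : Type u)}) :
    UniversallyInjective f := by
  rw [UniversallyInjective.iff_diagonal]
  refine ⟨fun z => ?_⟩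
  obtain ⟨z₀, hz₀z, hz₀⟩ := exists_maximal_generization z
  have hξ₁ : closure {pullback.fst f f z₀} ∈ irreducibleComponents (X : Type u) :=
    closure_map_mem_irreducibleComponents (Flat.generalizingMap (pullback.fst f f)) hz₀
  have hξ₂ : closure {pullback.snd f f z₀} ∈ irreducibleComponents (X : Type u) :=
    closure_map_mem_irreducibleComponents (Flat.generalizingMap (pullback.snd f f)) hz₀
  have hfe : f (pullback.fst f f z₀) = f (pullback.snd f f z₀) := by
    rw [← Scheme.Hom.comp_apply, ← Scheme.Hom.comp_apply, pullback.condition]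
  have he : pullback.fst f f z₀ = pullback.snd f f z₀ := h3 hξ₁ hξ₂ hfe
  set ξ := pullback.snd f f z₀ with hξdef
  have hΔ1 : pullback.fst f f (pullback.diagonal f ξ) = ξ := by
    rw [← Scheme.Hom.comp_apply, pullback.diagonal_fst]; rfl
  have hΔ2 : pullback.snd f f (pullback.diagonal f ξ) = ξ := by
    rw [← Scheme.Hom.comp_apply, pullback.diagonal_snd]; rfl
  have hz₀eq : z₀ = pullback.diagonal f ξ :=
    eq_of_fst_eq_of_snd_eq f ξ (h2 ξ hξ₂) _ _ he rfl hΔ1 hΔ2
  have hcl : IsClosed (Set.range (pullback.diagonal f)) :=
    (pullback.diagonal f).isClosedEmbedding.isClosed_range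
  exact hz₀z.mem_closed hcl ⟨ξ, hz₀eq.symm⟩

section RankOne

variable {T S : Scheme.{u}} (g : T ⟶ S)

/-- If the fibre of `g` over `g ξ` maps isomorphically to `Spec κ(g ξ)`, the residue field
extension at `ξ` is trivial. -/
lemma residueFieldMap_surjective_of_isIso (ξ : T)
    [IsIso (pullback.snd g (S.fromSpecResidueField (g ξ)))] :
    Function.Surjective (g.residueFieldMap ξ).hom := by
  let φ := g.residueFieldMap ξ
  let c : Spec (T.residueField ξ) ⟶ pullback g (S.fromSpecResidueField (g ξ)) :=
    pullback.lift (T.fromSpecResidueField ξ) (Spec.map φ)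
      (Scheme.Hom.SpecMap_residueFieldMap_fromSpecResidueField g ξ).symm
  have h1 : c ≫ pullback.fst g (S.fromSpecResidueField (g ξ)) = T.fromSpecResidueField ξ :=
    pullback.lift_fst _ _ _
  have h2 : c ≫ pullback.snd g (S.fromSpecResidueField (g ξ)) = Spec.map φ :=
    pullback.lift_snd _ _ _
  have : IsPreimmersion (c ≫ pullback.fst g (S.fromSpecResidueField (g ξ))) := by
    rw [h1]; infer_instance
  have : IsPreimmersion c := IsPreimmersion.of_comp c (pullback.fst g (S.fromSpecResidueField (g ξ)))
  have h3 : IsPreimmersion (Spec.map φ) := by rw [← h2]; infer_instance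
  have h4 := ((IsPreimmersion.SpecMap_iff φ).mp h3).2
  exact RingHom.surjectiveOnStalks_iff_of_isLocalHom.mp h4

/-- The hypothesis of S3207 at the image of a maximal point of the source gives an isomorphism. -/
lemma isIso_snd_of_maximal [Flat g]
    (h : ∀ s : S, (∀ t : S, t ⤳ s → t = s) →
      IsEmpty ↑(pullback g (S.fromSpecResidueField s)) ∨
        IsIso (pullback.snd g (S.fromSpecResidueField s)))
    (ξ : T) (hξ : closure {ξ} ∈ irreducibleComponents (T : Type u)) :
    IsIso (pullback.snd g (S.fromSpecResidueField (g ξ))) := by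
  have hs : closure {g ξ} ∈ irreducibleComponents (S : Type u) :=
    closure_map_mem_irreducibleComponents (Flat.generalizingMap g) hξ
  rcases h (g ξ) (fun t ht =>
    Groth.Agent.H4FU.eq_of_specializes_of_closure_mem_irreducibleComponents hs ht) with hE | hI
  · exfalso
    obtain ⟨a, -, -⟩ := Scheme.Pullback.exists_preimage_pullback (f := g)
      (g := S.fromSpecResidueField (g ξ)) ξ (IsLocalRing.closedPoint (S.residueField (g ξ)))
      (by rw [Scheme.fromSpecResidueField_apply])
    exact hE.false a
  · exact hI

lemma universallyInjective_of_rank_le_one [Flat g] [IsSeparated g]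
    (h : ∀ s : S, (∀ t : S, t ⤳ s → t = s) →
      IsEmpty ↑(pullback g (S.fromSpecResidueField s)) ∨
        IsIso (pullback.snd g (S.fromSpecResidueField s))) :
    UniversallyInjective g := by
  apply universallyInjective
  · intro ξ hξ
    have := isIso_snd_of_maximal g h ξ hξ
    exact residueFieldMap_surjective_of_isIso g ξ
  · intro ξ hξ ξ' hξ' he
    have hiso := isIso_snd_of_maximal g h ξ hξ
    obtain ⟨a, ha1, -⟩ := Scheme.Pullback.exists_preimage_pullback (f := g)
      (g := S.fromSpecResidueField (g ξ)) ξ (IsLocalRing.closedPoint (S.residueField (g ξ)))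
      (by rw [Scheme.fromSpecResidueField_apply])
    obtain ⟨a', ha1', -⟩ := Scheme.Pullback.exists_preimage_pullback (f := g)
      (g := S.fromSpecResidueField (g ξ)) ξ' (IsLocalRing.closedPoint (S.residueField (g ξ)))
      (by rw [Scheme.fromSpecResidueField_apply]; exact he.symm)
    have hinj : Function.Injective (pullback.snd g (S.fromSpecResidueField (g ξ))) :=
      (pullback.snd g (S.fromSpecResidueField (g ξ))).homeomorph.injective
    have : a = a' := hinj (Subsingleton.elim _ _)
    rw [← ha1, ← ha1', this]

/-- A surjective universally injective universally open morphism is universally closed. -/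
lemma universallyClosed_of_univ {X Y : Scheme.{u}} (f : X ⟶ Y) [UniversallyInjective f]
    [UniversallyOpen f] [Surjective f] : UniversallyClosed f := by
  rw [universallyClosed_eq]
  intro X' Y' i₁ i₂ f' hpb
  have h1 : UniversallyInjective f' := MorphismProperty.of_isPullback hpb.flip ‹_›
  have h2 : UniversallyOpen f' := MorphismProperty.of_isPullback hpb.flip ‹_›
  have h3 : Surjective f' := MorphismProperty.of_isPullback hpb.flip ‹_›
  have hbij : Function.Bijective f' := ⟨f'.injective, f'.surjective⟩
  intro C hC
  have : (f' '' C) = (f' '' Cᶜ)ᶜ := by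
    rw [Set.image_compl_eq hbij, compl_compl]
  rw [this]
  exact (f'.isOpenMap _ hC.isOpen_compl).isClosed_compl

theorem isOpenImmersion_of_rank_le_one [LocallyQuasiFinite g]
    [LocallyOfFinitePresentation g] [QuasiCompact g] [IsSeparated g] [Flat g]
    (h : ∀ s : S, (∀ t : S, t ⤳ s → t = s) →
      IsEmpty ↑(pullback g (S.fromSpecResidueField s)) ∨
        IsIso (pullback.snd g (S.fromSpecResidueField s))) :
    IsOpenImmersion g := by
  have hui : UniversallyInjective g := universallyInjective_of_rank_le_one g h
  let U : S.Opens := ⟨Set.range g, g.isOpenMap.isOpen_range⟩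
  let g' : T ⟶ U := IsOpenImmersion.lift U.ι g (by simp [U])
  have hg' : g' ≫ U.ι = g := IsOpenImmersion.lift_fac _ _ _
  have hsq : IsPullback (𝟙 T) g' g U.ι :=
    IsPullback.of_horiz_isIso_mono ⟨by rw [Category.id_comp, hg']⟩
  have : Surjective g' := ⟨fun ⟨x, ⟨y, hy⟩⟩ ↦
    ⟨y, by apply U.ι.injective; simp [← Scheme.Hom.comp_apply, g', hy]⟩⟩
  have : UniversallyInjective g' := MorphismProperty.of_isPullback hsq hui
  have : Flat g' := MorphismProperty.of_isPullback hsq ‹Flat g›
  have : LocallyOfFinitePresentation g' :=
    MorphismProperty.of_isPullback hsq ‹LocallyOfFinitePresentation g›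
  have : QuasiCompact g' := MorphismProperty.of_isPullback hsq ‹QuasiCompact g›
  have : IsSeparated g' := MorphismProperty.of_isPullback hsq ‹IsSeparated g›
  have : LocallyQuasiFinite g' := MorphismProperty.of_isPullback hsq ‹LocallyQuasiFinite g›
  have : UniversallyClosed g' := universallyClosed_of_univ g'
  have : IsProper g' := {}
  have : IsFinite g' := IsFinite.of_isProper_of_locallyQuasiFinite g'
  have hrank : Scheme.Hom.finrank g' = 1 := by
    ext u
    obtain ⟨u₀, hu₀u, hu₀⟩ := exists_maximal_generization u
    have hlc := Scheme.Hom.isLocallyConstant_finrank g'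
    have h1 : Scheme.Hom.finrank g' u₀ = Scheme.Hom.finrank g' u :=
      (hu₀u.map hlc.continuous).eq
    rw [← h1, Pi.one_apply]
    -- the maximal point `s₀` of `S`
    have hs₀ : closure {U.ι u₀} ∈ irreducibleComponents (S : Type u) :=
      closure_map_mem_irreducibleComponents U.ι.isOpenEmbedding.generalizingMap hu₀
    set s₀ := U.ι u₀ with hs₀def
    obtain ⟨ξ₀, hξ₀⟩ : s₀ ∈ Set.range g := u₀.2
    have hiso : IsIso (pullback.snd g (S.fromSpecResidueField s₀)) := by
      rcases h s₀ (fun t ht =>
        Groth.Agent.H4FU.eq_of_specializes_of_closure_mem_irreducibleComponents hs₀ ht)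
        with hE | hI
      · exfalso
        obtain ⟨a, -, -⟩ := Scheme.Pullback.exists_preimage_pullback (f := g)
          (g := S.fromSpecResidueField s₀) ξ₀ (IsLocalRing.closedPoint (S.residueField s₀))
          (by rw [Scheme.fromSpecResidueField_apply]; exact hξ₀)
        exact hE.false a
      · exact hI
    let k' : Spec (S.residueField s₀) ⟶ U :=
      IsOpenImmersion.lift U.ι (S.fromSpecResidueField s₀) (by
        rw [Scheme.range_fromSpecResidueField]
        simp only [Scheme.Opens.range_ι, Set.singleton_subset_iff]
        exact u₀.2)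
    have hk' : k' ≫ U.ι = S.fromSpecResidueField s₀ := IsOpenImmersion.lift_fac _ _ _
    have hpb : IsPullback (pullback.fst g' k') (pullback.snd g' k') (g' ≫ U.ι) (k' ≫ U.ι) :=
      IsPullback.of_isLimit (pullbackIsPullbackOfCompMono g' k' U.ι)
    rw [hg', hk'] at hpb
    have hsnd : IsIso (pullback.snd g' k') := by
      rw [← hpb.isoPullback_hom_snd]
      infer_instance
    have hk'pt : k' (IsLocalRing.closedPoint (S.residueField s₀)) = u₀ := by
      apply U.ι.injective
      rw [← Scheme.Hom.comp_apply, hk', Scheme.fromSpecResidueField_apply]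
    rw [← hk'pt, ← Scheme.Hom.finrank_pullback_snd g' k', Scheme.Hom.finrank_eq_one_of_isIso]
    rfl
  have : IsIso g' := (Scheme.Hom.isIso_iff_finrank_eq g').mpr hrank
  rw [← hg']
  infer_instance

end RankOne

end H4UnivInj
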