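import Mathlib
import Groth.Agent.Lib.helper4.VCrit1
import Groth.Agent.Lib.helper4.QcClosure

/-!
# Valuative criteria tested through a dense quasi-compact morphism
-/

set_option autoImplicit false
universe u

namespace Groth.Agent.H4Dvr

open AlgebraicGeometry CategoryTheory Limits IsLocalRing TopologicalSpace

variable {X Y U : Scheme.{u}} (f : X ⟶ Y) (h : U ⟶ X)

section Descend

variable (u : U) (W : ValuationSubring (X.residueField (h.base u)))
  (W' : ValuationSubring (U.residueField u))
  (hWW' : ∀ c : W, (h.residueFieldMap u).hom c ∈ W')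
  (hloc : IsLocalHom (((h.residueFieldMap u).hom.comp W.subtype).codRestrict W'.toSubring hWW'))

/-- The local homomorphism `W → W'`. -/
noncomputable abbrev theta : CommRingCat.of W ⟶ CommRingCat.of W' :=
  CommRingCat.ofHom (((h.residueFieldMap u).hom.comp W.subtype).codRestrict W'.toSubring hWW')

theorem theta_subtype : theta h u W W' hWW' ≫ CommRingCat.ofHom W'.subtype =
    CommRingCat.ofHom W.subtype ≫ h.residueFieldMap u := rfl

include hloc in
theorem mem_of_map_mem (c : X.residueField (h.base u))
    (hc : (h.residueFieldMap u).hom c ∈ W') : c ∈ W := by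
  by_contra hcW
  have hc0 : c ≠ 0 := by
    rintro rfl
    exact hcW W.zero_mem
  have h1 : c⁻¹ ∈ W.nonunits := (ValuationSubring.inv_mem_nonunits_iff W).2 (Or.inr hcW)
  obtain ⟨hc1, hc2⟩ := (ValuationSubring.mem_nonunits_iff_exists_mem_maximalIdeal).1 h1
  have : IsLocalRing ↥W'.toSubring := inferInstanceAs (IsLocalRing W')
  have h2 := map_nonunit (((h.residueFieldMap u).hom.comp
    W.subtype).codRestrict W'.toSubring hWW') (⟨c⁻¹, hc1⟩ : W) hc2
  apply h2
  rw [isUnit_iff_exists_inv]
  refine ⟨⟨(h.residueFieldMap u).hom c, hc⟩, Subtype.ext ?_⟩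
  change (h.residueFieldMap u).hom c⁻¹ * (h.residueFieldMap u).hom c = 1
  rw [← map_mul, inv_mul_cancel₀ hc0, map_one]

include hloc in
theorem closedPoint_theta :
    (Spec.map (theta h u W W' hWW')).base (closedPoint W') = closedPoint W :=
  comap_closedPoint (S := W') _

include hloc in
/-- Descent of a lift along the extension `W → W'` of valuation rings. -/
theorem descend_lift (y : Spec (CommRingCat.of W) ⟶ Y)
    (hy : Spec.map (CommRingCat.ofHom W.subtype) ≫ y = X.fromSpecResidueField (h.base u) ≫ f)
    (l' : Spec (CommRingCat.of W') ⟶ X) (hl'1 : l' ≫ f = Spec.map (theta h u W W' hWW') ≫ y)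
    (hl'2 : Spec.map (CommRingCat.ofHom W'.subtype) ≫ l' = U.fromSpecResidueField u ≫ h) :
    ∃ l : Spec (CommRingCat.of W) ⟶ X, l ≫ f = y ∧
      Spec.map (CommRingCat.ofHom W.subtype) ≫ l = X.fromSpecResidueField (h.base u) := by
  set x' := l'.base (closedPoint W') with hx'
  -- `h u` specializes to `x'`
  have hgen : l'.base ((Spec.map (CommRingCat.ofHom W'.subtype)).base
      (closedPoint (U.residueField u))) = h.base u := by
    have := congrArg (fun m => m.base (closedPoint (U.residueField u))) hl'2
    simp only [Scheme.Hom.comp_base, TopCat.coe_comp, Function.comp_apply] at this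
    rw [this, Scheme.fromSpecResidueField_apply]
  have hgx' : h.base u ⤳ x' := by
    rw [← hgen]
    exact (IsLocalRing.specializes_closedPoint (R := W') _).map l'.continuous
  -- the stalk map of `l'` in terms of `spRes`
  have hK : (U.fromSpecResidueField u ≫ h).base (closedPoint (U.residueField u)) = h.base u := by
    simp only [Scheme.Hom.comp_base, TopCat.coe_comp, Function.comp_apply]
    rw [Scheme.fromSpecResidueField_apply]
  have hsp : (U.fromSpecResidueField u ≫ h).base (closedPoint (U.residueField u)) ⤳ x' := by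
    rw [hK]; exact hgx'
  have hτ : X.presheaf.stalkSpecializes hsp ≫
      Scheme.stalkClosedPointTo (U.fromSpecResidueField u ≫ h) =
      spRes hgx' ≫ h.residueFieldMap u := by
    apply Spec.map_injective
    rw [← cancel_mono (X.fromSpecStalk x'), Groth.Agent.H4Rat.factor_fromSpecStalk _ _ hsp,
      Spec.map_comp, Category.assoc, SpecMap_spRes,
      Scheme.Hom.SpecMap_residueFieldMap_fromSpecResidueField]
  have hmem := fun a => Groth.Agent.H4Rat.mem_of_lift W' l' (U.fromSpecResidueField u ≫ h) hl'2
    x' rfl hsp a
  rw [hτ] at hmem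
  have hV : ∀ a, (spRes hgx').hom a ∈ W := fun a =>
    mem_of_map_mem h u W W' hWW' hloc _ (hmem a).1
  have hVloc : IsLocalHom ((spRes hgx').hom.codRestrict W.toSubring hV) := by
    apply Groth.Agent.H4FF.isLocalHom_codRestrict W _ hV
    intro a ha
    rw [← ValuationSubring.mem_nonunits_iff, ValuationSubring.mem_nonunits_iff_or]
    by_contra hcon
    push Not at hcon
    obtain ⟨h0, hinv⟩ := hcon
    have h3 := (hmem a).2 ha
    rw [ValuationSubring.mem_nonunits_iff_or] at h3
    rcases h3 with h3 | h3
    · exact h0 ((map_eq_zero (h.residueFieldMap u).hom).1 h3)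
    · apply h3
      have := hWW' ⟨_, hinv⟩
      simpa using this
  obtain ⟨l, hl1, hl2⟩ := exists_hom_of_centre hgx' W hV hVloc
  refine ⟨l, ?_, hl2⟩
  have hinj : Function.Injective (CommRingCat.ofHom W.subtype :
      CommRingCat.of W ⟶ X.residueField (h.base u)).hom := Subtype.val_injective
  refine Groth.Agent.H4Rat.hom_ext_of_local (R := CommRingCat.of W)
    (CommRingCat.ofHom W.subtype) hinj (y.base (closedPoint W)) _ _ ?_ specializes_rfl ?_
  · have h1 : (l ≫ f).base (closedPoint W) = f.base x' := by
      rw [← hl1]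
      rfl
    have h2 : f.base x' = y.base (closedPoint W) := by
      have := congrArg (fun m => m.base (closedPoint W')) hl'1
      simp only [Scheme.Hom.comp_base, TopCat.coe_comp, Function.comp_apply] at this
      rw [closedPoint_theta h u W W' hWW' hloc] at this
      exact this
    rw [h1, h2]
  · rw [← Category.assoc, hl2, hy]

end Descend

/-- Existence of an extension of a valuation subring along a field extension. -/
theorem exists_extension (u : U) (W : ValuationSubring (X.residueField (h.base u))) :
    ∃ (W' : ValuationSubring (U.residueField u))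
      (hWW' : ∀ c : W, (h.residueFieldMap u).hom c ∈ W'),
      IsLocalHom (((h.residueFieldMap u).hom.comp W.subtype).codRestrict W'.toSubring hWW') :=
  exists_factor_valuationRing ((h.residueFieldMap u).hom.comp W.subtype)

/-- The hypothesis of the refined valuative criterion. -/
def DenseUnique : Prop :=
  ∀ sq : ValuativeCommSq f, (∃ i : Spec (.of sq.K) ⟶ U, i ≫ h = sq.i₁) →
    Nonempty (Unique sq.commSq.LiftStruct)

variable {f h}

theorem vExistsAt_of_denseUnique (H : DenseUnique f h) (u : U) : VExistsAt f (h.base u) := by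
  intro W y hy
  obtain ⟨W', hWW', hloc⟩ := exists_extension h u W
  have hsq : (U.fromSpecResidueField u ≫ h) ≫ f =
      Spec.map (CommRingCat.ofHom (algebraMap W' (U.residueField u))) ≫
        Spec.map (theta h u W W' hWW') ≫ y := by
    calc (U.fromSpecResidueField u ≫ h) ≫ f
        = (Spec.map (h.residueFieldMap u) ≫ X.fromSpecResidueField (h.base u)) ≫ f := by
          rw [Scheme.Hom.SpecMap_residueFieldMap_fromSpecResidueField]
      _ = Spec.map (h.residueFieldMap u) ≫ Spec.map (CommRingCat.ofHom W.subtype) ≫ y := by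
          rw [Category.assoc, ← hy]
          rfl
      _ = Spec.map (CommRingCat.ofHom W.subtype ≫ h.residueFieldMap u) ≫ y := by
          rw [Spec.map_comp, Category.assoc]
          rfl
      _ = Spec.map (theta h u W W' hWW' ≫ CommRingCat.ofHom W'.subtype) ≫ y := by
          rw [theta_subtype]
      _ = _ := by
          rw [Spec.map_comp, Category.assoc]
          rfl
  let sq : ValuativeCommSq f :=
    { R := W'
      K := U.residueField u
      i₁ := U.fromSpecResidueField u ≫ h
      i₂ := Spec.map (theta h u W W' hWW') ≫ y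
      commSq := ⟨hsq⟩ }
  obtain ⟨hu⟩ := H sq ⟨U.fromSpecResidueField u, rfl⟩
  exact descend_lift f h u W W' hWW' hloc y hy hu.default.l hu.default.fac_right
    hu.default.fac_left

theorem vUniqueAt_of_denseUnique (H : DenseUnique f h) (u : U) : VUniqueAt f (h.base u) := by
  intro W l₁ l₂ h12 h1 h2
  obtain ⟨W', hWW', hloc⟩ := exists_extension h u W
  have hgen : ∀ l : Spec (CommRingCat.of W) ⟶ X,
      Spec.map (CommRingCat.ofHom W.subtype) ≫ l = X.fromSpecResidueField (h.base u) →
      Spec.map (CommRingCat.ofHom W'.subtype) ≫ Spec.map (theta h u W W' hWW') ≫ l =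
        U.fromSpecResidueField u ≫ h := by
    intro l hl
    rw [← Spec.map_comp_assoc, theta_subtype, Spec.map_comp_assoc, hl,
      Scheme.Hom.SpecMap_residueFieldMap_fromSpecResidueField]
  have hsq : (U.fromSpecResidueField u ≫ h) ≫ f =
      Spec.map (CommRingCat.ofHom (algebraMap W' (U.residueField u))) ≫
        Spec.map (theta h u W W' hWW') ≫ l₁ ≫ f := by
    have := congrArg (fun t => t ≫ f) (hgen l₁ h1)
    simp only [Category.assoc] at this
    rw [Category.assoc, ← this]
    rfl
  let sq : ValuativeCommSq f :=
    { R := W'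
      K := U.residueField u
      i₁ := U.fromSpecResidueField u ≫ h
      i₂ := Spec.map (theta h u W W' hWW') ≫ l₁ ≫ f
      commSq := ⟨hsq⟩ }
  obtain ⟨hu⟩ := H sq ⟨U.fromSpecResidueField u, rfl⟩
  let s₁ : sq.commSq.LiftStruct := ⟨Spec.map (theta h u W W' hWW') ≫ l₁, hgen l₁ h1,
    Category.assoc _ _ _⟩
  let s₂ : sq.commSq.LiftStruct := ⟨Spec.map (theta h u W W' hWW') ≫ l₂, hgen l₂ h2, by
    change (Spec.map (theta h u W W' hWW') ≫ l₂) ≫ f = Spec.map (theta h u W W' hWW') ≫ l₁ ≫ f
    rw [Category.assoc, h12]⟩
  have heq : Spec.map (theta h u W W' hWW') ≫ l₁ = Spec.map (theta h u W W' hWW') ≫ l₂ :=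
    congrArg CommSq.LiftStruct.l ((hu.uniq s₁).trans (hu.uniq s₂).symm)
  have hinj : Function.Injective (CommRingCat.ofHom W.subtype :
      CommRingCat.of W ⟶ X.residueField (h.base u)).hom := Subtype.val_injective
  refine Groth.Agent.H4Rat.hom_ext_of_local (R := CommRingCat.of W)
    (CommRingCat.ofHom W.subtype) hinj (l₁.base (closedPoint W)) _ _ specializes_rfl ?_ ?_
  · have := congrArg (fun m => m.base (closedPoint W')) heq
    simp only [Scheme.Hom.comp_base, TopCat.coe_comp, Function.comp_apply] at this
    rw [closedPoint_theta h u W W' hWW' hloc] at this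
    rw [this]
  · rw [h1, h2]

/-- Part 1 of the refined valuative criterion. -/
theorem universallyClosed_of_denseUnique [QuasiCompact f] [QuasiCompact h]
    (hd : DenseRange h.base) (H : DenseUnique f h) : UniversallyClosed f := by
  refine UniversallyClosed.of_valuativeCriterion f (existence_of_generizing f fun x => ?_)
  obtain ⟨u, hu⟩ := Groth.Agent.H4Qc.exists_specializes_of_mem_closure_range h x (hd x)
  exact ⟨h.base u, hu, vExistsAt_of_denseUnique H u, vUniqueAt_of_denseUnique H u⟩

/-- Part 2 of the refined valuative criterion. -/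
theorem isSeparated_of_denseUnique [QuasiSeparated f] [QuasiCompact h]
    (hd : DenseRange h.base) (H : DenseUnique f h) : IsSeparated f := by
  have hqc : QuasiCompact (pullback.diagonal f) := inferInstance
  refine ⟨IsClosedImmersion.of_isPreimmersion _ ?_⟩
  rw [← closure_subset_iff_isClosed]
  intro z' hz'
  have hz'' : z' ∈ closure (Set.range (h ≫ pullback.diagonal f).base) := by
    have h1 : Set.range (pullback.diagonal f).base ⊆
        closure (Set.range (h ≫ pullback.diagonal f).base) := by
      rintro _ ⟨x, rfl⟩
      have hx : x ∈ closure (Set.range h.base) := hd x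
      have h2 := image_closure_subset_closure_image (pullback.diagonal f).continuous
        (s := Set.range h.base) ⟨x, hx, rfl⟩
      rw [← Set.range_comp] at h2
      exact h2
    exact (isClosed_closure.closure_subset_iff.2 h1) hz'
  obtain ⟨u, hu⟩ := Groth.Agent.H4Qc.exists_specializes_of_mem_closure_range
    (h ≫ pullback.diagonal f) z' hz''
  by_cases hne : z' = (h ≫ pullback.diagonal f).base u
  · exact ⟨h.base u, hne.symm⟩
  obtain ⟨A, m, -, h1, h2⟩ :=
    exists_valuationRing_through_specialization (h ≫ pullback.diagonal f) u z' hu hne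
  have hm1 : Spec.map (CommRingCat.ofHom A.subtype) ≫ m ≫ pullback.fst f f =
      U.fromSpecResidueField u ≫ h := by
    have := congrArg (fun t => t ≫ pullback.fst f f) h2
    simp only [Category.assoc, pullback.diagonal_fst, Category.comp_id] at this
    exact this
  have hm2 : Spec.map (CommRingCat.ofHom A.subtype) ≫ m ≫ pullback.snd f f =
      U.fromSpecResidueField u ≫ h := by
    have := congrArg (fun t => t ≫ pullback.snd f f) h2
    simp only [Category.assoc, pullback.diagonal_snd, Category.comp_id] at this
    exact this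
  have hsq : (U.fromSpecResidueField u ≫ h) ≫ f =
      Spec.map (CommRingCat.ofHom (algebraMap A (U.residueField u))) ≫
        m ≫ pullback.fst f f ≫ f := by
    rw [← hm1]
    simp only [Category.assoc]
    rfl
  let sq : ValuativeCommSq f :=
    { R := A
      K := U.residueField u
      i₁ := U.fromSpecResidueField u ≫ h
      i₂ := m ≫ pullback.fst f f ≫ f
      commSq := ⟨hsq⟩ }
  obtain ⟨hu'⟩ := H sq ⟨U.fromSpecResidueField u, rfl⟩
  let s₁ : sq.commSq.LiftStruct := ⟨m ≫ pullback.fst f f, hm1, Category.assoc _ _ _⟩
  let s₂ : sq.commSq.LiftStruct := ⟨m ≫ pullback.snd f f, hm2, by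
    change (m ≫ pullback.snd f f) ≫ f = m ≫ pullback.fst f f ≫ f
    rw [Category.assoc, pullback.condition]⟩
  have hg : m ≫ pullback.fst f f = m ≫ pullback.snd f f :=
    congrArg CommSq.LiftStruct.l ((hu'.uniq s₁).trans (hu'.uniq s₂).symm)
  have hh : m = (m ≫ pullback.fst f f) ≫ pullback.diagonal f := by
    apply pullback.hom_ext
    · rw [Category.assoc, pullback.diagonal_fst, Category.comp_id]
    · rw [Category.assoc, pullback.diagonal_snd, Category.comp_id, hg]
  refine ⟨(m ≫ pullback.fst f f).base (closedPoint A), ?_⟩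
  rw [← h1]
  conv_rhs => rw [hh]
  simp only [Scheme.Hom.comp_base, TopCat.coe_comp, Function.comp_apply]

end Groth.Agent.H4Dvr
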