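import Mathlib
import Groth.Agent.Lib.helper4.VCrit2
import Groth.Agent.Lib.helper4.DvrProper6

/-!
# Properness tested on DVR squares through a dense morphism of finite type
-/

set_option autoImplicit false
universe u

namespace Groth.Agent.H4Dvr

open AlgebraicGeometry CategoryTheory Limits IsLocalRing TopologicalSpace

variable {X Y U : Scheme.{u}} (f : X ⟶ Y) (h : U ⟶ X)

/-- The DVR existence hypothesis for squares through `h`. -/
def DenseDvrExistence : Prop :=
  ∀ (A : Type u) [CommRing A] [IsDomain A] [IsDiscreteValuationRing A]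
    (u : Spec (CommRingCat.of (FractionRing A)) ⟶ U) (y : Spec (CommRingCat.of A) ⟶ Y),
    u ≫ h ≫ f = Spec.map (CommRingCat.ofHom (algebraMap A (FractionRing A))) ≫ y →
      ∃ l : Spec (CommRingCat.of A) ⟶ X, l ≫ f = y ∧
        Spec.map (CommRingCat.ofHom (algebraMap A (FractionRing A))) ≫ l = u ≫ h

/-- Extension of a DVR of `k(h u)` to a DVR of `k(u)`. -/
theorem exists_dvr_extension [LocallyOfFiniteType h] (u : U)
    (O : ValuationSubring (X.residueField (h.base u))) [IsDiscreteValuationRing O] :
    ∃ (O' : ValuationSubring (U.residueField u))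
      (hOO' : ∀ c : O, (h.residueFieldMap u).hom c ∈ O'), IsDiscreteValuationRing O' ∧
      IsLocalHom (((h.residueFieldMap u).hom.comp O.subtype).codRestrict O'.toSubring hOO') := by
  set ρ := (h.residueFieldMap u).hom with hρ
  have hρinj : Function.Injective ρ := ρ.injective
  -- finite generation of the residue field extension
  obtain ⟨T, hT⟩ := closure_eq_top_of_essFiniteType (h.stalkMap u).hom
    (LocallyOfFiniteType.stalkMap h u) (U.residue u).hom IsLocalRing.residue_surjective
  have hrange : ∀ c : X.residueField (h.base u),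
      ρ c ∈ Subfield.closure (Set.range (ρ.comp O.subtype) ∪ (T : Set (U.residueField u))) := by
    intro c
    have key : ∀ d : X.residueField (h.base u), d ∈ O →
        ρ d ∈ Subfield.closure (Set.range (ρ.comp O.subtype) ∪ (T : Set (U.residueField u))) :=
      fun d hd => Subfield.subset_closure (Or.inl ⟨⟨d, hd⟩, rfl⟩)
    rcases O.mem_or_inv_mem c with hc | hc
    · exact key c hc
    · have := Subfield.inv_mem _ (key _ hc)
      rwa [map_inv₀, inv_inv] at this
  have hcl : Subfield.closure (Set.range (ρ.comp O.subtype) ∪ (T : Set (U.residueField u))) =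
      ⊤ := by
    rw [eq_top_iff, ← hT]
    apply Subfield.closure_le.2
    rintro z (⟨a, rfl⟩ | hz)
    · have h1 : ((U.residue u).hom.comp (h.stalkMap u).hom) a =
          ρ ((X.residue (h.base u)).hom a) := by
        have := Scheme.residue_residueFieldMap h u
        exact (congrArg (fun m => m.hom a) this).symm
      rw [h1]
      exact hrange _
    · exact Subfield.subset_closure (Or.inr hz)
  have hker : ∃ a ∈ maximalIdeal O, (ρ.comp O.subtype) a ≠ 0 := by
    obtain ⟨ϖ, hϖ⟩ := IsDiscreteValuationRing.exists_irreducible O
    refine ⟨ϖ, ?_, ?_⟩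
    · exact (IsDiscreteValuationRing.irreducible_iff_uniformizer ϖ).1 hϖ ▸
        Ideal.mem_span_singleton_self ϖ
    · intro h0
      have h1 : (ϖ : X.residueField (h.base u)) = 0 := hρinj (h0.trans (map_zero ρ).symm)
      exact hϖ.ne_zero (Subtype.ext h1)
  obtain ⟨O', hOO', hdvr, hloc⟩ := exists_dvr_of_ringHom O (U.residueField u)
    (ρ.comp O.subtype) hker T hcl
  exact ⟨O', hOO', hdvr, hloc⟩

variable {f h}

theorem dvrExistsAt_of_denseDvrExistence [LocallyOfFiniteType h] (H : DenseDvrExistence f h)
    (u : U) : DvrExistsAt f (h.base u) := by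
  intro O hO y hy
  obtain ⟨O', hOO', hdvr, hloc⟩ := exists_dvr_extension h u O
  let e : FractionRing O' ≃ₐ[O'] U.residueField u := FractionRing.algEquiv O' (U.residueField u)
  have he : (CommRingCat.ofHom O'.subtype : CommRingCat.of O' ⟶
        CommRingCat.of (U.residueField u)) =
      CommRingCat.ofHom (algebraMap O' (FractionRing O')) ≫
        CommRingCat.ofHom (e : FractionRing O' →+* U.residueField u) := by
    ext a
    exact (e.commutes a).symm
  have hiso : IsIso (CommRingCat.ofHom (e : FractionRing O' →+* U.residueField u)) :=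
    (e.toRingEquiv.toCommRingCatIso).isIso_hom
  let u' : Spec (CommRingCat.of (FractionRing O')) ⟶ U :=
    Spec.map (inv (CommRingCat.ofHom (e : FractionRing O' →+* U.residueField u))) ≫
      U.fromSpecResidueField u
  have h4 : Spec.map (CommRingCat.ofHom (e : FractionRing O' →+* U.residueField u)) ≫
      Spec.map (inv (CommRingCat.ofHom (e : FractionRing O' →+* U.residueField u))) = 𝟙 _ := by
    rw [← Spec.map_comp, IsIso.inv_hom_id, Spec.map_id]
  have h5 : Spec.map (inv (CommRingCat.ofHom (e : FractionRing O' →+* U.residueField u))) ≫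
      Spec.map (CommRingCat.ofHom (e : FractionRing O' →+* U.residueField u)) = 𝟙 _ := by
    rw [← Spec.map_comp, IsIso.hom_inv_id, Spec.map_id]
  -- the square over `Spec O'`
  have hsq0 : (U.fromSpecResidueField u ≫ h) ≫ f =
      Spec.map (CommRingCat.ofHom O'.subtype) ≫ Spec.map (theta h u O O' hOO') ≫ y := by
    calc (U.fromSpecResidueField u ≫ h) ≫ f
        = (Spec.map (h.residueFieldMap u) ≫ X.fromSpecResidueField (h.base u)) ≫ f := by
          rw [Scheme.Hom.SpecMap_residueFieldMap_fromSpecResidueField]
      _ = Spec.map (h.residueFieldMap u) ≫ Spec.map (CommRingCat.ofHom O.subtype) ≫ y := by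
          rw [Category.assoc, ← hy]
          rfl
      _ = Spec.map (CommRingCat.ofHom O.subtype ≫ h.residueFieldMap u) ≫ y := by
          rw [Spec.map_comp, Category.assoc]
          rfl
      _ = Spec.map (theta h u O O' hOO' ≫ CommRingCat.ofHom O'.subtype) ≫ y := by
          rw [theta_subtype]
      _ = _ := by
          rw [Spec.map_comp, Category.assoc]
  have hsq : u' ≫ h ≫ f =
      Spec.map (CommRingCat.ofHom (algebraMap O' (FractionRing O'))) ≫
        Spec.map (theta h u O O' hOO') ≫ y := by
    have h6 : u' ≫ h ≫ f =
        Spec.map (inv (CommRingCat.ofHom (e : FractionRing O' →+* U.residueField u))) ≫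
          (U.fromSpecResidueField u ≫ h) ≫ f := by
      simp only [u', Category.assoc]
    rw [h6, hsq0, he, Spec.map_comp, Category.assoc, ← Category.assoc, h5, Category.id_comp]
  obtain ⟨l', hl'1, hl'2⟩ := H O' u' (Spec.map (theta h u O O' hOO') ≫ y) hsq
  have hl'3 : Spec.map (CommRingCat.ofHom O'.subtype) ≫ l' = U.fromSpecResidueField u ≫ h := by
    rw [he, Spec.map_comp, Category.assoc, hl'2]
    simp only [u']
    rw [← Category.assoc, ← Category.assoc, h4, Category.id_comp]
  exact descend_lift f h u O O' hOO' hloc y hy l' hl'1 hl'3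

/-- A separated morphism of finite type to a locally Noetherian scheme is proper as soon as the
DVR squares through a dense morphism of finite type have lifts. -/
theorem isProper_of_denseDvrExistence [IsLocallyNoetherian Y] [IsSeparated f]
    [LocallyOfFiniteType f] [QuasiCompact f] [LocallyOfFiniteType h] [QuasiCompact h]
    (hd : DenseRange h.base) (H : DenseDvrExistence f h) : IsProper f := by
  have hE : ValuativeCriterion.Existence f := by
    apply existence_of_generizing f
    intro x
    obtain ⟨u, hu⟩ := Groth.Agent.H4Qc.exists_specializes_of_mem_closure_range h x (hd x)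
    exact ⟨h.base u, hu, vExistsAt_of_dvrExistsAt f _ (dvrExistsAt_of_denseDvrExistence H u),
      vUniqueAt_of_isSeparated f _⟩
  have huc : UniversallyClosed f := UniversallyClosed.of_valuativeCriterion f hE
  exact { }

end Groth.Agent.H4Dvr
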