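import Mathlib
import Groth.Agent.Lib.helper4.FFCenter1

/-!
# Integral separated schemes closed and birational over a valuation ring
-/

set_option autoImplicit false
universe u

namespace Groth.Agent.H4Val

open AlgebraicGeometry CategoryTheory Limits IsLocalRing

variable {A : Type u} [CommRing A]
  {X : Scheme.{u}} [IsIntegral X] (f : X ⟶ Spec (CommRingCat.of A))

/-- `toStalk` with the scheme-level type. -/
noncomputable def toStk (y : Spec (CommRingCat.of A)) :
    CommRingCat.of A ⟶ (Spec (CommRingCat.of A)).presheaf.stalk y :=
  StructureSheaf.toStalk A y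

theorem toStk_specializes {y y' : Spec (CommRingCat.of A)} (h : y ⤳ y') :
    toStk y' ≫ (Spec (CommRingCat.of A)).presheaf.stalkSpecializes h = toStk y :=
  StructureSheaf.toStalk_stalkSpecializes (R := A) h

/-- the comparison `A → O_{X,z}` -/
noncomputable def psi (z : X) : A →+* X.presheaf.stalk z :=
  (toStk (f z) ≫ f.stalkMap z).hom

omit [IsIntegral X] in
theorem psi_apply (z : X) (a : A) :
    psi f z a = (f.stalkMap z).hom ((toStk (f z)).hom a) := rfl

theorem iota_psi (z : X) :
    (algebraMap (X.presheaf.stalk z) X.functionField).comp (psi f z) =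
      psi f (genericPoint X) := by
  have h := Scheme.Hom.stalkSpecializes_stalkMap f (genericPoint X) z
    (H4FF.genericPoint_specializes z)
  have h2 := toStk_specializes (A := A)
    (f.base.hom.map_specializes (H4FF.genericPoint_specializes z))
  have h3 : toStk (f z) ≫ f.stalkMap z ≫
      X.presheaf.stalkSpecializes (H4FF.genericPoint_specializes z) =
      toStk (f (genericPoint X)) ≫ f.stalkMap (genericPoint X) := by
    rw [← h, ← Category.assoc]
    exact congrArg (· ≫ f.stalkMap (genericPoint X)) h2
  ext a
  exact congrArg (fun g => g.hom a) h3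

theorem iota_psi_apply (z : X) (a : A) :
    algebraMap (X.presheaf.stalk z) X.functionField (psi f z a) = psi f (genericPoint X) a :=
  congrArg (fun g => g a) (iota_psi f z)

theorem isUnit_toStk_iff (y : Spec (CommRingCat.of A)) (a : A) :
    IsUnit ((toStk y).hom a) ↔ a ∉ y.asIdeal := by
  have := StructureSheaf.IsLocalization.to_stalk A y
  exact IsLocalization.AtPrime.isUnit_to_map_iff
    ((Spec.structureSheaf A).presheaf.stalk y) y.asIdeal a

omit [IsIntegral X] in
theorem isUnit_psi_iff (z : X) (a : A) : IsUnit (psi f z a) ↔ a ∉ (f z).asIdeal := by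
  have hloc : IsLocalHom (f.stalkMap z).hom := inferInstance
  rw [← isUnit_toStk_iff, psi_apply]
  constructor
  · intro h
    exact hloc.1 _ h
  · intro h
    exact h.map _

section Generic

variable [IsDomain A]

theorem map_genericPoint {x : X}
    (hx : f ⁻¹' {genericPoint (Spec (CommRingCat.of A))} = {x}) :
    x = genericPoint X ∧ f (genericPoint X) = genericPoint (Spec (CommRingCat.of A)) := by
  have hfx : f x = genericPoint (Spec (CommRingCat.of A)) := by
    have : x ∈ f ⁻¹' {genericPoint (Spec (CommRingCat.of A))} := by rw [hx]; exact rfl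
    exact this
  have h1 : f (genericPoint X) ⤳ f x := (H4FF.genericPoint_specializes x).map f.continuous
  have h2 : genericPoint (Spec (CommRingCat.of A)) ⤳ f (genericPoint X) :=
    (genericPoint_spec _).specializes trivial
  have h3 : f (genericPoint X) = genericPoint (Spec (CommRingCat.of A)) := by
    rw [hfx] at h1
    exact (h1.antisymm h2).eq
  refine ⟨?_, h3⟩
  have : genericPoint X ∈ f ⁻¹' {genericPoint (Spec (CommRingCat.of A))} := h3
  rw [hx] at this
  exact this.symm

theorem asIdeal_eq_bot (hξ : f (genericPoint X) = genericPoint (Spec (CommRingCat.of A))) :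
    (f (genericPoint X)).asIdeal = ⊥ := by
  rw [hξ, genericPoint_eq_bot_of_affine]
  rfl

theorem psi_gen_injective (hξ : f (genericPoint X) = genericPoint (Spec (CommRingCat.of A))) :
    Function.Injective (psi f (genericPoint X)) := by
  rw [injective_iff_map_eq_zero]
  intro a ha
  have h1 : ¬ IsUnit (psi f (genericPoint X) a) := by
    rw [ha]
    exact not_isUnit_zero
  rw [isUnit_psi_iff, asIdeal_eq_bot f hξ] at h1
  simpa using h1

theorem exists_frac (_hξ : f (genericPoint X) = genericPoint (Spec (CommRingCat.of A)))
    (hres : Function.Surjective (f.residueFieldMap (genericPoint X)).hom)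
    (t : X.functionField) :
    ∃ a b : A, b ≠ 0 ∧ t * psi f (genericPoint X) b = psi f (genericPoint X) a := by
  obtain ⟨r, hr⟩ := hres ((X.residue (genericPoint X)).hom t)
  obtain ⟨s, rfl⟩ := Scheme.residue_surjective _ _ r
  have h1 := Scheme.residue_residueFieldMap f (genericPoint X)
  have h2 : (X.residue (genericPoint X)).hom ((f.stalkMap (genericPoint X)).hom s) =
      (X.residue (genericPoint X)).hom t := by
    rw [← hr]
    exact (congrArg (fun g => g.hom s) h1).symm
  have h3 : (f.stalkMap (genericPoint X)).hom s = t := by
    have h4 : (X.residue (genericPoint X)).hom ((f.stalkMap (genericPoint X)).hom s - t) = 0 := by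
      rw [map_sub, h2, sub_self]
    have h5 : ¬ IsUnit ((f.stalkMap (genericPoint X)).hom s - t) := by
      intro hu
      have := hu.map (X.residue (genericPoint X)).hom
      rw [h4] at this
      exact not_isUnit_zero this
    have h6 : (f.stalkMap (genericPoint X)).hom s - t = 0 := by
      by_contra hne
      exact h5 (isUnit_iff_ne_zero.mpr hne)
    exact sub_eq_zero.mp h6
  have := StructureSheaf.IsLocalization.to_stalk A (f (genericPoint X))
  obtain ⟨⟨a, ⟨b, hb⟩⟩, hab⟩ := IsLocalization.surj (M := (f (genericPoint X)).asIdeal.primeCompl)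
    (S := (Spec.structureSheaf A).presheaf.stalk (f (genericPoint X))) s
  refine ⟨a, b, ?_, ?_⟩
  · rintro rfl
    exact hb (zero_mem _)
  · rw [← h3, psi_apply, psi_apply, ← map_mul]
    exact congrArg _ hab

theorem iota_injective (z : X) :
    Function.Injective (algebraMap (X.presheaf.stalk z) X.functionField) :=
  IsFractionRing.injective _ _

end Generic

section Val

variable [IsDomain A] [ValuationRing A]

theorem exists_frac_stalk (hξ : f (genericPoint X) = genericPoint (Spec (CommRingCat.of A)))
    (hres : Function.Surjective (f.residueFieldMap (genericPoint X)).hom) (z : X)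
    (t : X.presheaf.stalk z) :
    ∃ a b : A, b ∉ (f z).asIdeal ∧ t * psi f z b = psi f z a := by
  obtain ⟨a0, b0, hb0, h0⟩ := exists_frac f hξ hres
    (algebraMap (X.presheaf.stalk z) X.functionField t)
  have hinj := psi_gen_injective f hξ
  have hι := iota_injective (X := X) z
  rcases ValuationRing.dvd_total a0 b0 with ⟨c, hc⟩ | ⟨c, hc⟩
  · -- b0 = a0 * c
    have ha0 : a0 ≠ 0 := by
      rintro rfl
      exact hb0 (by rw [hc, zero_mul])
    have hφa : psi f (genericPoint X) a0 ≠ 0 := fun h => ha0 (hinj (by rw [h, map_zero]))
    have h1 : algebraMap (X.presheaf.stalk z) X.functionField (t * psi f z c) =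
        algebraMap (X.presheaf.stalk z) X.functionField 1 := by
      rw [map_mul, iota_psi_apply, map_one]
      rw [hc, map_mul] at h0
      have h2 : psi f (genericPoint X) a0 *
          (algebraMap (X.presheaf.stalk z) X.functionField t * psi f (genericPoint X) c) =
          psi f (genericPoint X) a0 * 1 := by
        linear_combination h0
      exact mul_left_cancel₀ hφa h2
    have h3 : t * psi f z c = 1 := hι h1
    refine ⟨1, c, ?_, ?_⟩
    · rw [← isUnit_psi_iff]
      exact IsUnit.of_mul_eq_one _ (by rw [mul_comm]; exact h3)
    · rw [h3, map_one]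
  · -- a0 = b0 * c
    have hφb : psi f (genericPoint X) b0 ≠ 0 := fun h => hb0 (hinj (by rw [h, map_zero]))
    have h1 : algebraMap (X.presheaf.stalk z) X.functionField t =
        algebraMap (X.presheaf.stalk z) X.functionField (psi f z c) := by
      rw [iota_psi_apply]
      rw [hc, map_mul] at h0
      have h2 : psi f (genericPoint X) b0 * algebraMap (X.presheaf.stalk z) X.functionField t =
          psi f (genericPoint X) b0 * psi f (genericPoint X) c := by
        linear_combination h0
      exact mul_left_cancel₀ hφb h2
    refine ⟨c, 1, ?_, ?_⟩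
    · exact fun h => (f z).isPrime.ne_top ((Ideal.eq_top_iff_one _).2 h)
    · rw [map_one, mul_one]
      exact hι h1

theorem psi_bijective (hξ : f (genericPoint X) = genericPoint (Spec (CommRingCat.of A)))
    (hres : Function.Surjective (f.residueFieldMap (genericPoint X)).hom) (z : X)
    (hz : f z = closedPoint A) : Function.Bijective (psi f z) := by
  constructor
  · have h := psi_gen_injective f hξ
    rw [← iota_psi f z] at h
    exact Function.Injective.of_comp h
  · intro t
    obtain ⟨a, b, hb, hab⟩ := exists_frac_stalk f hξ hres z t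
    have hbu : IsUnit b := by
      by_contra hnu
      apply hb
      rw [hz]
      exact hnu
    obtain ⟨u, rfl⟩ := hbu
    refine ⟨a * ↑u⁻¹, ?_⟩
    rw [map_mul, ← hab, mul_assoc, ← map_mul]
    simp

end Val

section Final

instance isDominant_fromSpecStalk_generic : IsDominant (X.fromSpecStalk (genericPoint X)) := by
  constructor
  have h1 : genericPoint X ∈ Set.range (X.fromSpecStalk (genericPoint X)) := by
    rw [Scheme.range_fromSpecStalk]
    exact specializes_rfl
  intro x
  have h2 : closure {genericPoint X} ⊆ closure (Set.range (X.fromSpecStalk (genericPoint X))) :=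
    closure_mono (Set.singleton_subset_iff.2 h1)
  apply h2
  rw [(genericPoint_spec X).def]
  trivial

variable [IsDomain A] [ValuationRing A] [X.IsSeparated]

theorem isIso_of_closed (hf : IsClosedMap f.base)
    (hξ : f (genericPoint X) = genericPoint (Spec (CommRingCat.of A)))
    (hres : Function.Surjective (f.residueFieldMap (genericPoint X)).hom) : IsIso f := by
  have hrange : Set.range f = Set.univ := by
    have hcl : IsClosed (Set.range f) := hf.isClosed_range
    have hη : genericPoint (Spec (CommRingCat.of A)) ∈ Set.range f := ⟨genericPoint X, hξ⟩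
    have h1 := hcl.closure_subset_iff.2 (Set.singleton_subset_iff.2 hη)
    rw [(genericPoint_spec _).def] at h1
    exact Set.eq_univ_of_univ_subset h1
  obtain ⟨z0, hz0⟩ : closedPoint A ∈ Set.range f := by rw [hrange]; trivial
  have hbij := psi_bijective f hξ hres z0 hz0
  let e : A ≃+* X.presheaf.stalk z0 := RingEquiv.ofBijective (psi f z0) hbij
  let es : X.presheaf.stalk z0 ⟶ CommRingCat.of A :=
    CommRingCat.ofHom (e.symm : X.presheaf.stalk z0 →+* A)
  have hes : (toStk (f z0) ≫ f.stalkMap z0) ≫ es = 𝟙 (CommRingCat.of A) := by
    ext a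
    exact e.symm_apply_apply a
  have hes' : es ≫ (toStk (f z0) ≫ f.stalkMap z0) = 𝟙 (X.presheaf.stalk z0) := by
    ext a
    exact e.apply_symm_apply a
  let g : Spec (CommRingCat.of A) ⟶ X := Spec.map es ≫ X.fromSpecStalk z0
  have hY : (Spec (CommRingCat.of A)).fromSpecStalk (f z0) = Spec.map (toStk (f z0)) :=
    Spec.fromSpecStalk_eq' _ _
  have hgf : g ≫ f = 𝟙 _ := by
    change (Spec.map es ≫ X.fromSpecStalk z0) ≫ f = 𝟙 _
    rw [Category.assoc, ← Scheme.SpecMap_stalkMap_fromSpecStalk, hY, ← Spec.map_comp,
      ← Spec.map_comp, hes, Spec.map_id]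
  have hfg : f ≫ g = 𝟙 X := by
    apply ext_of_isDominant (ι := X.fromSpecStalk (genericPoint X))
    have hY' : (Spec (CommRingCat.of A)).fromSpecStalk (f (genericPoint X)) =
        Spec.map (toStk (f (genericPoint X))) := Spec.fromSpecStalk_eq' _ _
    have h3 : toStk (f z0) ≫ f.stalkMap z0 ≫
        X.presheaf.stalkSpecializes (H4FF.genericPoint_specializes z0) =
        toStk (f (genericPoint X)) ≫ f.stalkMap (genericPoint X) := by
      ext a
      exact iota_psi_apply f z0 a
    have h4 : es ≫ (toStk (f (genericPoint X)) ≫ f.stalkMap (genericPoint X)) =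
        X.presheaf.stalkSpecializes (H4FF.genericPoint_specializes z0) := by
      rw [← h3, ← Category.assoc, ← Category.assoc, Category.assoc es, hes', Category.id_comp]
    change X.fromSpecStalk (genericPoint X) ≫ f ≫ (Spec.map es ≫ X.fromSpecStalk z0) = _
    rw [Category.comp_id, ← Category.assoc, ← Scheme.SpecMap_stalkMap_fromSpecStalk, hY',
      ← Spec.map_comp, ← Category.assoc, ← Spec.map_comp, h4,
      Scheme.SpecMap_stalkSpecializes_fromSpecStalk]
  exact ⟨g, hfg, hgf⟩

end Final

end Groth.Agent.H4Val
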